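import Groth.Agent.Lib.PolLaw.Tpow
import Mathlib.RingTheory.Ideal.GoingUp
import Mathlib.FieldTheory.IsAlgClosed.Basic
import Mathlib.RingTheory.Flat.Basic

/-!
# Reduction of identities between values of laws to the tensor power of a polynomial ring
-/

universe u

open scoped TensorProduct

namespace Groth.Agent.Lib.PolLaw.Universal

open Coeff

variable {A : Type u} [CommRing A] {B C : Type u} [CommRing B] [Algebra A B] [CommRing C] [Algebra A C] {d : ℕ}

/-- The canonical free cover. -/
abbrev Cov (A : Type u) [CommRing A] (B : Type u) : Type u := MvPolynomial B A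

variable (A B) in
/-- The canonical surjection from the free cover. -/
noncomputable def proj : Cov A B →ₐ[A] B := MvPolynomial.aeval id

theorem proj_surjective : Function.Surjective (proj A B) := fun b => ⟨MvPolynomial.X b, by simp [proj]⟩

/-- The map `Γ^d(A[B]) → C` attached to a law on `B`. -/
noncomputable def classify (F : _root_.PolLaw.MulLaw A B C d) : Gamma.Alg A (Cov A B) d →ₐ[A] C :=
  Gamma.lift (F.precomp (proj A B))

/-- `S ⊗ f` for an algebra map `f`. -/
noncomputable abbrev bc (S : Type u) [CommSemiring S] [Algebra A S] {B C : Type u} [CommRing B] [Algebra A B]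
    [CommRing C] [Algebra A C] (f : B →ₐ[A] C) : S ⊗[A] B →ₐ[S] S ⊗[A] C :=
  Algebra.TensorProduct.map (AlgHom.id S S) f

theorem bc_classify (F : _root_.PolLaw.MulLaw A B C d) (S : Type u) [CommSemiring S] [Algebra A S]
    (z : S ⊗[A] Cov A B) :
    bc S (classify F) ((Gamma.univ A (Cov A B) d).law.toFun' S z) = F.law.toFun' S (bc S (proj A B) z) := by
  rw [← _root_.PolLaw.lTensor_algHom_apply, ← _root_.PolLaw.lTensor_algHom_apply]
  exact congrArg (fun G : Cov A B →ₚₗ[A] C => G.toFun' S z) (Gamma.postcomp_lift_univ (F.precomp (proj A B)))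

theorem bc_toTensor (P : Type u) [CommRing P] [Algebra A P] (S : Type u) [CommSemiring S] [Algebra A S]
    (z : S ⊗[A] P) :
    bc S (Tpow.toTensor A P d) ((Gamma.univ A P d).law.toFun' S z) = (SymTen.tpowLaw A P d).law.toFun' S z := by
  rw [← _root_.PolLaw.lTensor_algHom_apply]
  exact congrArg (fun G : P →ₚₗ[A] _ => G.toFun' S z) (Gamma.postcomp_lift_univ (SymTen.tpowLaw A P d))

theorem bc_toTensor_injective (P : Type u) [CommRing P] [Algebra A P] [Module.Free A P] (S : Type u)
    [CommRing S] [Algebra A S] [Module.Flat A S] :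
    Function.Injective (bc S (Tpow.toTensor A P d)) := by
  intro x y h
  rw [← _root_.PolLaw.lTensor_algHom_apply, ← _root_.PolLaw.lTensor_algHom_apply] at h
  exact Module.Flat.lTensor_preserves_injective_linearMap _ (Tpow.toTensor_injective A P d) h

/-- Equality in the tensor power of the free cover implies equality of values. -/
theorem eq_of_tpow (F : _root_.PolLaw.MulLaw A B C d) (S : Type u) [CommRing S] [Algebra A S] [Module.Flat A S]
    (z z' : S ⊗[A] Cov A B)
    (h : (SymTen.tpowLaw A (Cov A B) d).law.toFun' S z = (SymTen.tpowLaw A (Cov A B) d).law.toFun' S z') :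
    F.law.toFun' S (bc S (proj A B) z) = F.law.toFun' S (bc S (proj A B) z') := by
  rw [← bc_classify, ← bc_classify, bc_toTensor_injective _ S (a₁ := (Gamma.univ A (Cov A B) d).law.toFun' S z)
    (a₂ := (Gamma.univ A (Cov A B) d).law.toFun' S z') (by rw [bc_toTensor, bc_toTensor, h])]

section Integral

variable (A) (P : Type u) [CommRing P] [Algebra A P] [Module.Free A P] (d : ℕ)

open scoped Classical in
theorem toTensor_isIntegral : (Tpow.toTensor A P d).toRingHom.IsIntegral := by
  let φ := Tpow.toTensor A P d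
  have hgen : ∀ (j : Fin d) (p : P), φ.toRingHom.IsIntegralElem
      (PiTensorProduct.singleAlgHom (R := A) (A := fun _ : Fin d => P) j p) := by
    intro j p
    let r : Fin d → ⨂[A] _ : Fin d, P := fun i => PiTensorProduct.singleAlgHom (A := fun _ : Fin d => P) i p
    let q : Polynomial (⨂[A] _ : Fin d, P) := ∏ i, (Polynomial.X - Polynomial.C (r i))
    have hperm : ∀ (σ : Equiv.Perm (Fin d)) (i : Fin d), SymTen.perm A P d σ (r i) = r (σ i) := by
      intro σ i
      simp only [r, PiTensorProduct.singleAlgHom_apply, MonoidHom.mulSingle_apply, SymTen.perm_tprod]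
      congr 1
      funext k
      simp [Pi.mulSingle_apply, Equiv.symm_apply_eq]
    have hlift : q ∈ Polynomial.lifts φ.toRingHom := by
      rw [Polynomial.lifts_iff_coeff_lifts]
      intro n
      refine Tpow.exists_toTensor (y := q.coeff n) fun σ => ?_
      rw [← SymTen.perm_apply]
      have hq : q.map (SymTen.perm A P d σ).toRingHom = q := by
        simp only [q, Polynomial.map_prod, Polynomial.map_sub, Polynomial.map_X, Polynomial.map_C,
          AlgHom.toRingHom_eq_coe, RingHom.coe_coe, hperm]
        exact Equiv.prod_comp σ fun i => Polynomial.X - Polynomial.C (r i)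
      conv_rhs => rw [← hq]
      rw [Polynomial.coeff_map]
      rfl
    have hmonic : q.Monic := Polynomial.monic_prod_of_monic _ _ fun i _ => Polynomial.monic_X_sub_C _
    rcases subsingleton_or_nontrivial (⨂[A] _ : Fin d, P) with hs | hs
    · exact ⟨1, Polynomial.monic_one, Subsingleton.elim _ _⟩
    obtain ⟨q₀, hq₀, -, hq₀m⟩ := Polynomial.lifts_and_degree_eq_and_monic hlift hmonic
    refine ⟨q₀, hq₀m, ?_⟩
    rw [← Polynomial.eval_map, hq₀]
    simp only [q, Polynomial.eval_prod, Polynomial.eval_sub, Polynomial.eval_X, Polynomial.eval_C]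
    exact Finset.prod_eq_zero (Finset.mem_univ j) (sub_self (r j))
  intro y
  induction y using PiTensorProduct.induction_on with
  | smul_tprod a f =>
    rw [← Tpow.prod_singleAlgHom A P d f, Algebra.smul_def]
    refine RingHom.IsIntegralElem.mul _ ?_ ?_
    · rw [← AlgHom.commutes φ a]
      exact φ.toRingHom.isIntegralElem_map
    · refine Finset.prod_induction _ φ.toRingHom.IsIntegralElem (fun _ _ => RingHom.IsIntegralElem.mul _) ?_
        fun j _ => hgen j (f j)
      exact φ.toRingHom.isIntegralElem_one
  | add x y hx hy => exact RingHom.IsIntegralElem.add _ hx hy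

end Integral

/-- A map from a subring to an algebraically closed field extends to an integral extension. -/
theorem exists_extension {R S K : Type u} [CommRing R] [CommRing S] [Field K] [IsAlgClosed K] (φ : R →+* S)
    (hφ : Function.Injective φ) (hint : φ.IsIntegral) (g : R →+* K) : ∃ ψ : S →+* K, ψ.comp φ = g := by
  letI := φ.toAlgebra
  have : Algebra.IsIntegral R S := ⟨hint⟩
  have : (RingHom.ker g).IsPrime := RingHom.ker_isPrime g
  obtain ⟨Q, -, hQ, hQg⟩ := Ideal.exists_ideal_over_prime_of_isIntegral (S := S) (RingHom.ker g) ⊥ (by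
    intro x hx
    have : φ x = φ 0 := by rw [map_zero]; exact hx
    simp [hφ this])
  have : Q.IsPrime := hQ
  letI : Algebra (R ⧸ RingHom.ker g) (S ⧸ Q) :=
    (Ideal.quotientMap Q φ (le_of_eq (hQg.symm : RingHom.ker g = Q.comap φ))).toAlgebra
  letI : Algebra (R ⧸ RingHom.ker g) K := (RingHom.kerLift g).toAlgebra
  have hinj : Function.Injective (algebraMap (R ⧸ RingHom.ker g) (S ⧸ Q)) :=
    Ideal.quotientMap_injective' (le_of_eq hQg)
  have : Module.IsTorsionFree (R ⧸ RingHom.ker g) (S ⧸ Q) :=
    Module.isTorsionFree_iff_algebraMap_injective.2 hinj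
  have : Module.IsTorsionFree (R ⧸ RingHom.ker g) K :=
    Module.isTorsionFree_iff_algebraMap_injective.2 (RingHom.kerLift_injective g)
  have : Algebra.IsAlgebraic (R ⧸ RingHom.ker g) (S ⧸ Q) := by
    refine ⟨fun x => ?_⟩
    obtain ⟨x, rfl⟩ := Ideal.Quotient.mk_surjective x
    obtain ⟨q, hqm, hq⟩ := hint x
    refine IsIntegral.isAlgebraic ⟨q.map (Ideal.Quotient.mk _), hqm.map _, ?_⟩
    rw [Polynomial.eval₂_map, show (algebraMap (R ⧸ RingHom.ker g) (S ⧸ Q)).comp (Ideal.Quotient.mk _) =
      (Ideal.Quotient.mk Q).comp φ from RingHom.ext fun _ => rfl, ← Polynomial.hom_eval₂, hq, map_zero]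
  refine ⟨(IsAlgClosed.lift (R := R ⧸ RingHom.ker g) (S := S ⧸ Q) (M := K)).toRingHom.comp (Ideal.Quotient.mk Q),
    RingHom.ext fun r => ?_⟩
  exact AlgHom.commutes (IsAlgClosed.lift (R := R ⧸ RingHom.ker g) (S := S ⧸ Q) (M := K))
    (Ideal.Quotient.mk (RingHom.ker g) r)

end Groth.Agent.Lib.PolLaw.Universal
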