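import Groth.Agent.Lib.PolLaw.FlatTensor
import Groth.Agent.Lib.PolLaw.Universal

/-!
# Symmetric tensors of flat modules
-/

universe u

open scoped TensorProduct

namespace Groth.Agent.Lib.PolLaw.FlatSym

open FlatTensor Coeff

variable {A : Type u} [CommRing A] {d n : ℕ}

variable (A d n) in
/-- The standard basis of the tensor power of `A^n`. -/
noncomputable def bT : Module.Basis (Fin d → Fin n) A (⨂[A] _ : Fin d, (Fin n → A)) :=
  Basis.piTensorProduct fun _ : Fin d => Pi.basisFun A (Fin n)

theorem bT_apply (q : Fin d → Fin n) :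
    bT A d n q = PiTensorProduct.tprod A fun k => Pi.basisFun A (Fin n) (q k) :=
  Basis.piTensorProduct_apply _ q

theorem repr_reindex (σ : Equiv.Perm (Fin d)) (z : ⨂[A] _ : Fin d, (Fin n → A)) (q : Fin d → Fin n) :
    (bT A d n).repr (PiTensorProduct.reindex A (fun _ : Fin d => Fin n → A) σ z) q =
      (bT A d n).repr z (q ∘ σ) := by
  classical
  suffices ((bT A d n).coord q).comp (PiTensorProduct.reindex A (fun _ : Fin d => Fin n → A) σ).toLinearMap =
      (bT A d n).coord (q ∘ σ) from LinearMap.congr_fun this z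
  refine (bT A d n).ext fun p => ?_
  rw [LinearMap.comp_apply, LinearEquiv.coe_coe, bT_apply, PiTensorProduct.reindex_tprod,
    ← bT_apply (fun k => p (σ.symm k)), ← bT_apply p]
  simp only [Module.Basis.coord_apply, Module.Basis.repr_self, Finsupp.single_apply]
  refine if_congr ⟨fun h => funext fun k => ?_, fun h => funext fun k => ?_⟩ rfl rfl
  · simpa using congrFun h (σ k)
  · simpa using congrFun h (σ.symm k)

open scoped Classical in
variable (A d n) in
/-- The sum of the orbit of a basis tensor. -/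
noncomputable def orbit (ν : Fin n →₀ ℕ) : ⨂[A] _ : Fin d, (Fin n → A) :=
  ∑ c : Fin d → Fin n, if Tpow.cnt c = ν then bT A d n c else 0

open scoped Classical in
theorem repr_orbit (ν : Fin n →₀ ℕ) (q : Fin d → Fin n) :
    (bT A d n).repr (orbit A d n ν) q = if Tpow.cnt q = ν then 1 else 0 := by
  rw [orbit, map_sum, Finsupp.finsetSum_apply, Finset.sum_eq_single q]
  · split_ifs <;> simp
  · intro c _ hc
    split_ifs <;> simp [hc]
  · simp

variable (A d n) in
/-- The coordinate of an orbit. -/
noncomputable def co (ν : degSet (Fin n) d) : (⨂[A] _ : Fin d, (Fin n → A)) →ₗ[A] A :=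
  (bT A d n).coord (Tpow.exists_cnt d ν.1 (mem_degSet.1 ν.2)).choose

theorem eq_sum_orbit {z : ⨂[A] _ : Fin d, (Fin n → A)}
    (hz : ∀ σ : Equiv.Perm (Fin d), PiTensorProduct.reindex A (fun _ : Fin d => Fin n → A) σ z = z) :
    z = ∑ ν : degSet (Fin n) d, co A d n ν z • orbit A d n ν.1 := by
  classical
  refine (bT A d n).ext_elem fun q => ?_
  simp only [map_sum, map_smul, Finsupp.finsetSum_apply, Finsupp.smul_apply, repr_orbit, smul_eq_mul]
  rw [Finset.sum_eq_single (⟨Tpow.cnt q, mem_degSet.2 (Tpow.sum_cnt q)⟩ : degSet (Fin n) d)]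
  · rw [if_pos rfl, mul_one]
    have hc := (Tpow.exists_cnt d (Tpow.cnt q) (Tpow.sum_cnt q)).choose_spec
    obtain ⟨σ, hσ⟩ := Tpow.exists_perm hc
    conv_lhs => rw [← hσ, ← repr_reindex, hz]
    rfl
  · intro ν _ hν
    rw [if_neg fun h : Tpow.cnt q = ν.1 => hν (Subtype.ext h.symm), mul_zero]
  · simp

theorem reindex_orbit (σ : Equiv.Perm (Fin d)) (ν : Fin n →₀ ℕ) :
    PiTensorProduct.reindex A (fun _ : Fin d => Fin n → A) σ (orbit A d n ν) = orbit A d n ν := by
  classical
  refine (bT A d n).ext_elem fun q => ?_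
  rw [repr_reindex, repr_orbit, repr_orbit, Tpow.cnt_comp_perm]

theorem tm_orbit {B : Type u} [CommRing B] [Algebra A B] (f : (Fin n → A) →ₗ[A] B) (ν : Fin n →₀ ℕ) :
    tm f (orbit A d n ν) =
      coef (SymTen.tpowLaw A B d).law (fun i => f (Pi.basisFun A (Fin n) i)) ν := by
  classical
  rw [orbit, Tpow.coef_tpow, map_sum]
  refine Finset.sum_congr rfl fun c _ => ?_
  split_ifs <;> simp [bT_apply]

variable {B : Type u} [AddCommGroup B] [Module A B] [Module.Flat A B]

/-- Symmetric tensors over a flat module come from symmetric tensors over free modules of finite rank, and so do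
their linear relations. -/
theorem exists_symm_lift {ι : Type} [Fintype ι] (y : ι → ⨂[A] _ : Fin d, B)
    (hy : ∀ i (σ : Equiv.Perm (Fin d)), PiTensorProduct.reindex A (fun _ : Fin d => B) σ (y i) = y i)
    (r : ι → A) (hr : ∑ i, r i • y i = 0) :
    ∃ (m : ℕ) (f : (Fin m → A) →ₗ[A] B) (t : ι → ⨂[A] _ : Fin d, (Fin m → A)), (∀ i, tm f (t i) = y i) ∧
      (∀ i (σ : Equiv.Perm (Fin d)), PiTensorProduct.reindex A (fun _ : Fin d => Fin m → A) σ (t i) = t i) ∧
        ∑ i, r i • t i = 0 := by
  classical
  obtain ⟨n, f, t, ht⟩ := exists_lift y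
  obtain ⟨m, g, f', hf, hg⟩ := exists_kill_many (d := d) (Finset.univ : Finset (Option (ι × Equiv.Perm (Fin d)))) f
    (fun o => o.elim (∑ i, r i • t i)
      fun p => PiTensorProduct.reindex A (fun _ : Fin d => Fin n → A) p.2 (t p.1) - t p.1)
    (by
      rintro (_ | ⟨i, σ⟩) -
      · simpa [ht] using hr
      · simp [tm_reindex, ht, hy])
  refine ⟨m, f', fun i => tm g (t i), fun i => by rw [← tm_comp, hf, ht], fun i σ => ?_, ?_⟩
  · have := hg (some (i, σ)) (Finset.mem_univ _)
    simp only [Option.elim, map_sub, tm_reindex, sub_eq_zero] at this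
    exact this
  · have := hg none (Finset.mem_univ _)
    simpa using this

/-- The symmetric tensors of a flat module form a flat module. -/
theorem flat_of_forall (T : Submodule A (⨂[A] _ : Fin d, B))
    (hT : ∀ t, t ∈ T ↔ ∀ σ : Equiv.Perm (Fin d), PiTensorProduct.reindex A (fun _ : Fin d => B) σ t = t) :
    Module.Flat A T := by
  classical
  refine Module.Flat.of_forall_exists_factorization fun {l r x} hx => ?_
  let e : Fin l → (Fin l →₀ A) := fun i => Finsupp.single i 1
  have hsum : r = ∑ i, r i • e i := by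
    refine Finsupp.ext fun j => ?_
    simp [e, Finsupp.finsetSum_apply, Finsupp.single_apply]
  obtain ⟨m, f, t, htf, hti, htr⟩ := exists_symm_lift (fun i => (x (e i) : ⨂[A] _ : Fin d, B))
    (fun i => (hT _).1 (x (e i)).2) (fun i => r i) (by
      rw [hsum, map_sum] at hx
      have := congrArg Subtype.val hx
      simpa using this)
  let I := degSet (Fin m) d
  let N : (I → A) →ₗ[A] T := ∑ ν : I, (LinearMap.proj ν : (I → A) →ₗ[A] A).smulRight
    (⟨tm f (orbit A d m ν.1), (hT _).2 fun σ => by rw [← tm_reindex, reindex_orbit]⟩ : T)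
  let coo : (⨂[A] _ : Fin d, (Fin m → A)) →ₗ[A] (I → A) := LinearMap.pi (co A d m)
  have hN : ∀ i, N (coo (t i)) = x (e i) := fun i => Subtype.ext <| by
    simp only [N, LinearMap.sum_apply, LinearMap.smulRight_apply, LinearMap.proj_apply, Submodule.coe_sum,
      Submodule.coe_smul]
    rw [← htf i]
    conv_rhs => rw [eq_sum_orbit (hti i)]
    simp only [map_sum, map_smul]
    rfl
  let a : (Fin l →₀ A) →ₗ[A] (Fin I.card →₀ A) :=
    ((Finsupp.linearEquivFunOnFinite A A (Fin I.card)).symm.toLinearMap ∘ₗ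
      (LinearEquiv.funCongrLeft A A I.equivFin.symm).toLinearMap) ∘ₗ
      Finsupp.linearCombination A (fun i => coo (t i))
  refine ⟨I.card, a, N ∘ₗ (LinearEquiv.funCongrLeft A A I.equivFin).toLinearMap ∘ₗ
    (Finsupp.linearEquivFunOnFinite A A (Fin I.card)).toLinearMap, ?_, ?_⟩
  · refine Finsupp.lhom_ext' fun i => LinearMap.ext_ring ?_
    simp only [a, LinearMap.comp_apply, LinearEquiv.coe_coe, Finsupp.lsingle_apply, LinearEquiv.apply_symm_apply,
      Finsupp.linearCombination_single, one_smul]
    rw [show LinearEquiv.funCongrLeft A A I.equivFin (LinearEquiv.funCongrLeft A A I.equivFin.symm (coo (t i))) =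
      coo (t i) from funext fun ν => by simp, hN i]
  · have h0 : Finsupp.linearCombination A (fun i => coo (t i)) r = 0 := by
      rw [hsum, map_sum]
      simp only [map_smul, e, Finsupp.linearCombination_single, one_smul]
      rw [← map_zero coo, ← htr, map_sum]
      simp only [map_smul]
    simp only [a, LinearMap.comp_apply, h0, map_zero]

end Groth.Agent.Lib.PolLaw.FlatSym
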