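import Groth.Agent.Lib.PolLaw.NormLaw
import Mathlib.FieldTheory.IntermediateField.Basic
import Mathlib.RingTheory.Spectrum.Prime.Homeomorph
import Mathlib.RingTheory.LocalRing.ResidueField.Ideal

/-!
# Points of the symmetric tensors come from `Γ^d` without residue extension
-/

universe u

open scoped TensorProduct

namespace Groth.Agent.Lib.PolLaw.SymPoints

open Coeff

variable {A : Type u} [CommRing A] {B : Type u} [CommRing B] [Algebra A B] {d : ℕ}

/-- The map out of the tensor power given by algebra maps on the factors. -/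
noncomputable def prodLift {R : Type u} [CommRing R] [Algebra A R] (f : Fin d → (B →ₐ[A] R)) :
    (⨂[A] _ : Fin d, B) →ₐ[A] R :=
  PiTensorProduct.liftAlgHom ((MultilinearMap.mkPiAlgebra A (Fin d) R).compLinearMap fun i => (f i).toLinearMap)
    (by simp) (fun x y => by simp [Finset.prod_mul_distrib])

theorem prodLift_tprod {R : Type u} [CommRing R] [Algebra A R] (f : Fin d → (B →ₐ[A] R)) (b : Fin d → B) :
    prodLift f (PiTensorProduct.tprod A b) = ∏ i, f i (b i) := by
  simp [prodLift, PiTensorProduct.liftAlgHom]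

theorem prodLift_single {R : Type u} [CommRing R] [Algebra A R] (f : Fin d → (B →ₐ[A] R)) (i : Fin d) (b : B) :
    prodLift f (PiTensorProduct.singleAlgHom (A := fun _ : Fin d => B) i b) = f i b := by
  rw [PiTensorProduct.singleAlgHom_apply, prodLift_tprod,
    Finset.prod_eq_single i (fun j _ hj => by simp [MonoidHom.mulSingle_apply, hj]) (by simp)]
  simp [MonoidHom.mulSingle_apply]

theorem perm_single (σ : Equiv.Perm (Fin d)) (i : Fin d) (b : B) :
    SymTen.perm A B d σ (PiTensorProduct.singleAlgHom (A := fun _ : Fin d => B) i b) =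
      PiTensorProduct.singleAlgHom (A := fun _ : Fin d => B) (σ i) b := by
  simp only [PiTensorProduct.singleAlgHom_apply, MonoidHom.mulSingle_apply, SymTen.perm_tprod]
  congr 1
  funext k
  simp [Pi.mulSingle_apply, Equiv.symm_apply_eq]

variable {C : Type u} [CommRing C] [Algebra A C] {γ : _root_.PolLaw.MulLaw A B C d}
  (j : C →ₐ[A] ⨂[A] _ : Fin d, B) (hj : _root_.PolLaw.postcomp j.toLinearMap γ.law = (SymTen.tpowLaw A B d).law)

include hj in
theorem isIntegral : j.toRingHom.IsIntegral := by
  intro t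
  obtain ⟨t, rfl⟩ := NormLaw.tmap_surjective (A := A) (d := d) (Universal.proj A B) Universal.proj_surjective t
  obtain ⟨q, hqm, hq⟩ := Universal.toTensor_isIntegral (A := A) (d := d) (P := Universal.Cov A B) t
  refine ⟨q.map (Universal.classify γ).toRingHom, hqm.map _, ?_⟩
  rw [Polynomial.eval₂_map, show j.toRingHom.comp (Universal.classify γ).toRingHom =
    (SymTen.tmap A d (Universal.proj A B)).toRingHom.comp (Tpow.toTensor A (Universal.Cov A B) d).toRingHom from
      congrArg AlgHom.toRingHom (Polar.tmap_toTensor B j hj)]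
  show Polynomial.eval₂ ((SymTen.tmap A d (Universal.proj A B)).toRingHom.comp (Tpow.toTensor A _ d).toRingHom)
    ((SymTen.tmap A d (Universal.proj A B)).toRingHom t) q = 0
  rw [← Polynomial.hom_eval₂]
  exact (congrArg _ hq).trans (map_zero _)

include hj in
/-- Modulo a prime of the tensor power, every symmetric tensor is a fraction of elements of `C` and `A`. -/
theorem exists_fraction (K : Type u) [Field K] [Algebra A K] (π : (⨂[A] _ : Fin d, B) →ₐ[A] K)
    (y : ⨂[A] _ : Fin d, B) (hy : ∀ σ : Equiv.Perm (Fin d), SymTen.perm A B d σ y = y) :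
    ∃ a : A, algebraMap A K a ≠ 0 ∧ ∃ c : C, algebraMap A K a * π y = π (j c) := by
  let k : Subfield K := Subfield.closure (Set.range (algebraMap A K))
  letI : Algebra A k := ((algebraMap A K).codRestrict k fun a => Subfield.subset_closure ⟨a, rfl⟩).toAlgebra
  haveI : IsScalarTower A k K := IsScalarTower.of_algebraMap_eq fun _ => rfl
  let τ : (⨂[A] _ : Fin d, B) →ₐ[A] ⨂[k] _ : Fin d, k ⊗[A] B := prodLift fun i =>
    ((PiTensorProduct.singleAlgHom (R := k) (A := fun _ : Fin d => k ⊗[A] B) i).restrictScalars A).comp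
      Algebra.TensorProduct.includeRight
  let M : (⨂[k] _ : Fin d, k ⊗[A] B) →ₐ[k] K := prodLift fun i =>
    Algebra.TensorProduct.lift (Algebra.ofId k K)
      (π.comp (PiTensorProduct.singleAlgHom (A := fun _ : Fin d => B) i)) fun _ _ => Commute.all _ _
  have hM : (M.restrictScalars A).comp τ = π := by
    refine PiTensorProduct.algHom_ext fun i => AlgHom.ext fun b => ?_
    simp only [AlgHom.comp_apply, τ, M, prodLift_single, AlgHom.restrictScalars_apply,
      Algebra.TensorProduct.includeRight_apply, Algebra.TensorProduct.lift_tmul, map_one, one_mul]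
  have hτ : ∀ σ, ((SymTen.perm k (k ⊗[A] B) d σ).restrictScalars A).comp τ = τ.comp (SymTen.perm A B d σ) :=
    fun σ => PiTensorProduct.algHom_ext fun i => AlgHom.ext fun b => by
      simp only [AlgHom.comp_apply, τ, prodLift_single, perm_single, AlgHom.restrictScalars_apply]
  have hinv : ∀ σ : Equiv.Perm (Fin d),
      PiTensorProduct.reindex k (fun _ : Fin d => k ⊗[A] B) σ (τ y) = τ y := by
    intro σ
    rw [← SymTen.perm_apply]
    exact (AlgHom.congr_fun (hτ σ) y).trans (congrArg (fun t => τ t) (hy σ))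
  obtain ⟨z, hz⟩ := Tpow.exists_toTensor (A := k) (B := k ⊗[A] B) hinv
  let S₀ : Submodule k K := Submodule.span k (Set.range fun c => π (j c))
  have hb : ∀ (ι : Type) [Fintype ι] (b : ι → B) (μ : ι →₀ ℕ),
      M (coef (SymTen.tpowLaw k (k ⊗[A] B) d).law (fun i => (1 : k) ⊗ₜ[A] b i) μ) ∈ S₀ := by
    intro ι _ b μ
    classical
    refine Submodule.subset_span ⟨coef γ.law b μ, ?_⟩
    show π (j _) = _
    rw [Gamma.apply_coef hj, Tpow.coef_tpow, Tpow.coef_tpow, map_sum, map_sum]
    refine Finset.sum_congr rfl fun c _ => ?_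
    split_ifs
    · rw [← hM, AlgHom.comp_apply, AlgHom.restrictScalars_apply]
      congr 1
      simp only [τ, prodLift_tprod, AlgHom.comp_apply, AlgHom.restrictScalars_apply,
        Algebra.TensorProduct.includeRight_apply]
      exact Tpow.prod_singleAlgHom k (k ⊗[A] B) d fun i => (1 : k) ⊗ₜ[A] b (c i)
    · simp
  have hall : π y ∈ S₀ := by
    rw [← hM, AlgHom.comp_apply, AlgHom.restrictScalars_apply, ← hz]
    have hle : coefSpan (Gamma.univ k (k ⊗[A] B) d).law ≤
        S₀.comap (M.comp (Tpow.toTensor k (k ⊗[A] B) d)).toLinearMap := by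
      refine Submodule.span_le.2 ?_
      rintro _ ⟨n, b', ν, rfl⟩
      show M (Tpow.toTensor k (k ⊗[A] B) d _) ∈ S₀
      rw [Gamma.coef_univ, Tpow.toTensor, Gamma.lift_cls]
      choose m s b hb' using fun i => exists_rep (b' i)
      have hspan := coef_mem_span_of_mem_span (SymTen.tpowLaw k (k ⊗[A] B) d).law
        (fun p : Σ i, Fin (m i) => (1 : k) ⊗ₜ[A] b p.1 p.2) b' (fun i => by
          rw [hb' i]
          refine Submodule.sum_mem _ fun l _ => ?_
          rw [show s i l ⊗ₜ[A] b i l = s i l • ((1 : k) ⊗ₜ[A] b i l) by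
            rw [TensorProduct.smul_tmul', smul_eq_mul, mul_one]]
          exact Submodule.smul_mem _ _ (Submodule.subset_span ⟨⟨i, l⟩, rfl⟩)) ν
      refine (Submodule.span_le (p := S₀.comap M.toLinearMap)).2 ?_ hspan
      rintro _ ⟨μ, rfl⟩
      exact hb _ (fun p : Σ i, Fin (m i) => b p.1 p.2) μ
    exact hle (Gamma.coefSpan_eq_top (Gamma.isGammaD_univ k (k ⊗[A] B) d) ▸ Submodule.mem_top)
  revert hall
  generalize π y = x
  intro hall
  induction hall using Submodule.span_induction with
  | mem x hx =>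
    obtain ⟨c, rfl⟩ := hx
    exact ⟨1, by simp, c, by simp⟩
  | zero => exact ⟨1, by simp, 0, by simp⟩
  | add x x' _ _ hx hx' =>
    obtain ⟨a, ha, c, hc⟩ := hx
    obtain ⟨a', ha', c', hc'⟩ := hx'
    refine ⟨a * a', by rw [map_mul]; exact mul_ne_zero ha ha', a' • c + a • c', ?_⟩
    simp only [map_add, map_smul, ← hc, ← hc']
    simp only [Algebra.smul_def, map_mul]
    ring
  | smul l x _ hx =>
    obtain ⟨a, ha, c, hc⟩ := hx
    obtain ⟨u, hu, v, hv, huv⟩ := Subfield.mem_closure_iff.1 l.2
    rw [show Subring.closure (Set.range (algebraMap A K)) = (algebraMap A K).range by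
      rw [← RingHom.coe_range, Subring.closure_eq]] at hu hv
    obtain ⟨⟨u, rfl⟩, ⟨v, rfl⟩⟩ := And.intro hu hv
    by_cases h0 : algebraMap A K v = 0
    · refine ⟨1, by simp, 0, ?_⟩
      rw [h0, div_zero] at huv
      simp [Subfield.smul_def, ← huv]
    · refine ⟨v * a, by rw [map_mul]; exact mul_ne_zero h0 ha, u • c, ?_⟩
      rw [map_smul, map_smul, ← hc, map_mul, Subfield.smul_def, smul_eq_mul, ← huv, Algebra.smul_def]
      field_simp

include hj in
/-- The same, at a prime of the symmetric tensors. -/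
theorem exists_fraction_TS (φ : C →ₐ[A] SymTen.TS A B d) (hφ : (SymTen.TS A B d).val.comp φ = j)
    (q : Ideal (SymTen.TS A B d)) [q.IsPrime] (y : SymTen.TS A B d) :
    ∃ a : A, algebraMap A (SymTen.TS A B d) a ∉ q ∧ ∃ c : C, a • y - φ c ∈ q := by
  have hint : (SymTen.TS A B d).val.toRingHom.IsIntegral := by
    refine RingHom.IsIntegral.tower_top φ.toRingHom _ ?_
    rw [show (SymTen.TS A B d).val.toRingHom.comp φ.toRingHom = j.toRingHom from congrArg AlgHom.toRingHom hφ]
    exact isIntegral j hj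
  obtain ⟨P, hP⟩ := RingHom.IsIntegral.comap_surjective hint Subtype.val_injective ⟨q, ‹_›⟩
  let K := P.asIdeal.ResidueField
  let π : (⨂[A] _ : Fin d, B) →ₐ[A] K := IsScalarTower.toAlgHom A (⨂[A] _ : Fin d, B) K
  have hq : ∀ t : SymTen.TS A B d, t ∈ q ↔ π t.1 = 0 := fun t => by
    have : q = P.asIdeal.comap (SymTen.TS A B d).val.toRingHom := (congrArg PrimeSpectrum.asIdeal hP).symm
    rw [this, Ideal.mem_comap]
    exact Ideal.algebraMap_residueField_eq_zero.symm
  obtain ⟨a, ha, c, hc⟩ := exists_fraction j hj K π y.1 fun σ => (SymTen.perm_apply A B d σ y.1).trans (y.2 σ)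
  refine ⟨a, fun h => ha ?_, c, ?_⟩
  · rw [hq] at h
    simpa [π, IsScalarTower.algebraMap_apply A (⨂[A] _ : Fin d, B) K] using h
  · rw [hq]
    rw [show ((a • y - φ c : SymTen.TS A B d) : ⨂[A] _ : Fin d, B) = a • y.1 - j c by rw [← hφ]; rfl,
      map_sub, map_smul, Algebra.smul_def, hc, sub_self]

end Groth.Agent.Lib.PolLaw.SymPoints
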