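import Groth.Agent.Lib.PolLaw.GammaTS
import Groth.Agent.Lib.Brauer.TPow
import Mathlib.RingTheory.Flat.Stability
import Mathlib.RingTheory.LocalRing.ResidueField.Ideal
import Mathlib.RingTheory.TensorProduct.Free

/-!
# Fibres of tensor powers and of symmetric tensors of flat algebras
-/

universe u

open scoped TensorProduct

namespace Groth.Agent.Lib.PolLaw.FlatFibre

open Coeff FlatTensor FlatSym Brauer.TPow

variable {A : Type u} [CommRing A]

/-- Splitting off the last factor. -/
noncomputable def succEquiv (B : Type u) [CommRing B] [Algebra A B] (d : ℕ) :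
    (⨂[A] _ : Fin (d + 1), B) ≃ₐ[A] (⨂[A] _ : Fin d, B) ⊗[A] B :=
  ((sumEquiv (k := A) (fun _ : Fin d ⊕ Fin 1 => B)).trans (reindexConst B finSumFinEquiv)).symm.trans
    (Algebra.TensorProduct.congr AlgEquiv.refl (uniqueEquiv (0 : Fin 1) fun _ => B))

theorem flat_tpow (B : Type u) [CommRing B] [Algebra A B] [Module.Flat A B] :
    ∀ d : ℕ, Module.Flat A (⨂[A] _ : Fin d, B)
  | 0 => Module.Flat.of_linearEquiv (emptyEquiv (k := A) fun _ : Fin 0 => B).toLinearEquiv
  | d + 1 => by
    have := flat_tpow B d
    exact Module.Flat.of_linearEquiv (succEquiv B d).toLinearEquiv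

/-- Over a field, tensoring a reduced algebra with an algebra with geometrically reduced fibres keeps it reduced. -/
theorem isReduced_tensor {B : Type u} [CommRing B] [Algebra A B]
    (hred : ∀ (K : Type u) [Field K] [Algebra A K], IsReduced (K ⊗[A] B))
    (K : Type u) [Field K] [Algebra A K] (R : Type u) [CommRing R] [Algebra K R] [Algebra A R]
    [IsScalarTower A K R] [IsReduced R] : IsReduced (R ⊗[A] B) := by
  let V := K ⊗[A] B
  let e : R ⊗[K] V ≃ₐ[R] R ⊗[A] B := Algebra.TensorProduct.cancelBaseChange A K R R B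
  suffices IsReduced (R ⊗[K] V) from isReduced_of_injective e.symm e.symm.injective
  let bV := Module.Free.chooseBasis K V
  refine ⟨fun x hx => (Algebra.TensorProduct.basis R bV).ext_elem fun i => ?_⟩
  rw [map_zero, Finsupp.zero_apply]
  refine (isNilpotent_iff_eq_zero (R := R)).1 (mem_nilradical.1 ?_)
  rw [nilradical_eq_sInf, Ideal.mem_sInf]
  intro p hp
  have : p.IsPrime := hp
  let L := p.ResidueField
  let g : R →ₐ[K] L := IsScalarTower.toAlgHom K R L
  have : IsReduced (L ⊗[K] V) := by
    have := hred L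
    exact isReduced_of_injective (Algebra.TensorProduct.cancelBaseChange A K L L B) (AlgEquiv.injective _)
  have h0 : Algebra.TensorProduct.map g (AlgHom.id K V) x = 0 := (hx.map _).eq_zero
  have hrepr' : ∀ y, (Algebra.TensorProduct.basis L bV).repr (Algebra.TensorProduct.map g (AlgHom.id K V) y) i =
      g ((Algebra.TensorProduct.basis R bV).repr y i) := by
    intro y
    induction y using TensorProduct.induction_on with
    | zero => simp
    | tmul r v => simp [Algebra.TensorProduct.basis_repr_tmul, Finsupp.mapRange_apply]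
    | add a b ha hb => simp only [map_add, Finsupp.add_apply, ha, hb]
  have hrepr := hrepr' x
  rw [h0, map_zero, Finsupp.zero_apply] at hrepr
  exact Ideal.algebraMap_residueField_eq_zero.1 hrepr.symm

theorem isReduced_tpow {B : Type u} [CommRing B] [Algebra A B]
    (hred : ∀ (K : Type u) [Field K] [Algebra A K], IsReduced (K ⊗[A] B)) (K : Type u) [Field K] [Algebra A K] :
    ∀ d : ℕ, IsReduced (K ⊗[A] (⨂[A] _ : Fin d, B))
  | 0 => isReduced_of_injective
      ((Algebra.TensorProduct.congr AlgEquiv.refl (emptyEquiv (k := A) fun _ : Fin 0 => B)).trans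
        (Algebra.TensorProduct.rid A A K)) (AlgEquiv.injective _)
  | d + 1 => by
    have := isReduced_tpow hred K d
    have := isReduced_tensor hred K (K ⊗[A] (⨂[A] _ : Fin d, B))
    exact isReduced_of_injective
      ((Algebra.TensorProduct.congr AlgEquiv.refl (succEquiv B d)).trans
        (Algebra.TensorProduct.assoc A A A K (⨂[A] _ : Fin d, B) B).symm) (AlgEquiv.injective _)

/-- For flat algebras the inclusion of the symmetric tensors stays injective after any tensoring. -/
theorem lTensor_val_injective {B : Type u} [CommRing B] [Algebra A B] [Module.Flat A B] (d : ℕ)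
    (K : Type u) [CommRing K] [Algebra A K] :
    Function.Injective ((SymTen.TS A B d).val.toLinearMap.lTensor K) := by
  classical
  have := flat_tpow (A := A) B d
  refine (injective_iff_map_eq_zero _).2 fun x hx => ?_
  obtain ⟨n, k, y, rfl⟩ := Coeff.exists_rep x
  simp only [map_sum, LinearMap.lTensor_tmul, AlgHom.toLinearMap_apply, Subalgebra.coe_val] at hx
  obtain ⟨p, a, z, hy, hk⟩ := TensorProduct.vanishesTrivially_of_sum_tmul_eq_zero_of_rTensor_injective A
    (Module.Flat.rTensor_preserves_injective_linearMap _ Subtype.val_injective) hx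
  obtain ⟨N, f, t, ht⟩ := exists_lift (A := A) (d := d)
    (fun o : Fin n ⊕ Fin p => Sum.elim (fun j => (y j : ⨂[A] _ : Fin d, B)) z o)
  obtain ⟨m, g, f', hf, hg⟩ := exists_kill_many (d := d)
    (Finset.univ : Finset (Fin n ⊕ Fin n × Equiv.Perm (Fin d))) f
    (Sum.elim (fun j => t (Sum.inl j) - ∑ l, a j l • t (Sum.inr l))
      fun q => PiTensorProduct.reindex A (fun _ : Fin d => Fin N → A) q.2 (t (Sum.inl q.1)) - t (Sum.inl q.1))
    (by
      rintro (j | ⟨j, σ⟩) -
      · simp [ht, hy j]
      · simp [tm_reindex, ht, (y j).2 σ])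
  let t' : Fin n → ⨂[A] _ : Fin d, (Fin m → A) := fun j => tm g (t (Sum.inl j))
  have hinv : ∀ j (σ : Equiv.Perm (Fin d)),
      PiTensorProduct.reindex A (fun _ : Fin d => Fin m → A) σ (t' j) = t' j := by
    intro j σ
    have := hg (Sum.inr (j, σ)) (Finset.mem_univ _)
    simpa [tm_reindex, sub_eq_zero, t'] using this
  have hrel : ∀ j, t' j = ∑ l, a j l • tm g (t (Sum.inr l)) := fun j => by
    have := hg (Sum.inl j) (Finset.mem_univ _)
    simpa [sub_eq_zero, t'] using this
  let o : degSet (Fin m) d → SymTen.TS A B d := fun ν => ⟨tm f' (orbit A d m ν.1), fun σ => by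
    rw [← tm_reindex, reindex_orbit]⟩
  have hyj : ∀ j, y j = ∑ ν : degSet (Fin m) d, co A d m ν (t' j) • o ν := fun j => Subtype.ext <| by
    rw [show (y j : ⨂[A] _ : Fin d, B) = tm f' (t' j) by rw [← tm_comp, hf, ht]; rfl]
    conv_lhs => rw [eq_sum_orbit (hinv j)]
    simp only [map_sum, map_smul, AddSubmonoidClass.coe_finsetSum]
    rfl
  simp only [hyj, TensorProduct.tmul_sum, TensorProduct.tmul_smul]
  rw [Finset.sum_comm]
  refine Finset.sum_eq_zero fun ν _ => ?_
  simp only [TensorProduct.smul_tmul', ← TensorProduct.sum_tmul]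
  suffices ∑ j, co A d m ν (t' j) • k j = 0 by rw [this, TensorProduct.zero_tmul]
  simp only [hrel, map_sum, map_smul, smul_eq_mul, Finset.sum_smul]
  rw [Finset.sum_comm]
  refine Finset.sum_eq_zero fun l _ => ?_
  rw [Finset.sum_congr rfl (g := fun j => co A d m ν (tm g (t (Sum.inr l))) • (a j l • k j))
    fun j _ => by rw [mul_comm, mul_smul], ← Finset.smul_sum, hk l, smul_zero]

end Groth.Agent.Lib.PolLaw.FlatFibre
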