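import Groth.Agent.Lib.PolLaw.Gamma
import Mathlib.RingTheory.Ideal.Quotient.Operations

/-!
# Factoring laws through injections and surjections of algebras
-/

universe u

open scoped TensorProduct

namespace Groth.Agent.Lib.PolLaw.Descend

open Coeff

variable {A : Type u} [CommRing A] {B B' C C' : Type u} [CommRing B] [Algebra A B] [CommRing B'] [Algebra A B']
  [CommRing C] [Algebra A C] [CommRing C'] [Algebra A C'] {d : ℕ}

/-- A law whose coefficients lie in the image of an injection factors through it. -/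
theorem exists_factor (F : _root_.PolLaw.MulLaw A B C d) (j : C' →ₐ[A] C) (hj : Function.Injective j)
    (h : ∀ (n : ℕ) (b : Fin n → B) (ν : Fin n →₀ ℕ), coef F.law b ν ∈ j.range) :
    ∃ G : _root_.PolLaw.MulLaw A B C' d, _root_.PolLaw.postcomp j.toLinearMap G.law = F.law := by
  obtain ⟨F₀, hF₀⟩ := Gamma.exists_codRestrict F j.range h
  let e := AlgEquiv.ofInjective j hj
  refine ⟨F₀.postcomp e.symm.toAlgHom, ?_⟩
  show _root_.PolLaw.postcomp _ (_root_.PolLaw.postcomp _ F₀.law) = _
  rw [← Gamma.postcomp_comp, ← AlgHom.comp_toLinearMap,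
    show j.comp e.symm.toAlgHom = j.range.val from AlgHom.ext fun y => by
      obtain ⟨x, rfl⟩ := e.surjective y
      simp [e], hF₀]

/-- A law constant on the cosets of the kernel of a surjection descends along it. -/
theorem exists_descend (π : B →ₐ[A] B') (hπ : Function.Surjective π) (F : _root_.PolLaw.MulLaw A B C d)
    (h : ∀ b, π b = 0 → b ∈ _root_.PolLaw.ker F.law) :
    ∃ F' : _root_.PolLaw.MulLaw A B' C d, (F'.precomp π).law = F.law := by
  let q : ∀ n : ℕ, MvPolynomial (Fin n) A ⊗[A] B →ₗ[A] MvPolynomial (Fin n) A ⊗[A] B' :=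
    fun n => π.toLinearMap.lTensor _
  have hq : ∀ n, Function.Surjective (q n) := fun n => LinearMap.lTensor_surjective _ hπ
  have inv : ∀ (n : ℕ) (x y : MvPolynomial (Fin n) A ⊗[A] B), q n x = q n y →
      F.law.toFun' _ x = F.law.toFun' _ y := by
    intro n x y hxy
    obtain ⟨z, hz⟩ := ((lTensor_exact (MvPolynomial (Fin n) A)
      (LinearMap.exact_subtype_ker_map π.toLinearMap) hπ) (x - y)).1 (by rw [map_sub]; exact sub_eq_zero.2 hxy)
    have : ∀ (z : MvPolynomial (Fin n) A ⊗[A] LinearMap.ker π.toLinearMap) (u : MvPolynomial (Fin n) A ⊗[A] B),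
        F.law.toFun' _ (u + (LinearMap.ker π.toLinearMap).subtype.lTensor _ z) = F.law.toFun' _ u := by
      intro z
      induction z using TensorProduct.induction_on with
      | zero => simp
      | tmul s k =>
        intro u
        rw [LinearMap.lTensor_tmul, Submodule.subtype_apply,
          show s ⊗ₜ[A] (k : B) = (s ⊗ₜ[A] (1 : B)) * (1 ⊗ₜ[A] (k : B)) by simp]
        exact h k k.2 _ u _
      | add a b ha hb => intro u; rw [map_add, ← add_assoc, hb, ha]
    rw [← add_sub_cancel y x, ← hz, this]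
  let T : ∀ n : ℕ, MvPolynomial (Fin n) A ⊗[A] B' → MvPolynomial (Fin n) A ⊗[A] C :=
    fun n z => F.law.toFun' _ (Function.surjInv (hq n) z)
  have hT : ∀ n x, T n (q n x) = F.law.toFun' _ x :=
    fun n x => inv n _ x (Function.surjInv_eq (hq n) _)
  have hqalg : ∀ (n : ℕ) x, q n x = Algebra.TensorProduct.map
      (AlgHom.id (MvPolynomial (Fin n) A) (MvPolynomial (Fin n) A)) π x :=
    fun n x => _root_.PolLaw.lTensor_algHom_apply π _ x
  have hTc : ∀ (n m : ℕ) (φ : MvPolynomial (Fin n) A →ₐ[A] MvPolynomial (Fin m) A)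
      (z : MvPolynomial (Fin n) A ⊗[A] B'),
      φ.toLinearMap.rTensor C (T n z) = T m (φ.toLinearMap.rTensor B' z) := fun n m φ z => by
    obtain ⟨x, rfl⟩ := hq n z
    rw [hT, show φ.toLinearMap.rTensor B' (q n x) = q m (φ.toLinearMap.rTensor B x) by
      simp only [q]
      rw [← LinearMap.comp_apply, LinearMap.rTensor_comp_lTensor, ← LinearMap.lTensor_comp_rTensor,
        LinearMap.comp_apply], hT, compat]
  have h1 : ∀ n, T n 1 = 1 := fun n => by
    rw [show (1 : MvPolynomial (Fin n) A ⊗[A] B') = q n 1 by rw [hqalg, map_one], hT, (F.mult _).1]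
  have hmul : ∀ n x y, T n (x * y) = T n x * T n y := fun n x y => by
    obtain ⟨x, rfl⟩ := hq n x
    obtain ⟨y, rfl⟩ := hq n y
    rw [hT, hT, hqalg, hqalg, ← map_mul, ← hqalg, hT, (F.mult _).2]
  have hsmul : ∀ n (a : MvPolynomial (Fin n) A) x, T n (a • x) = a ^ d • T n x := fun n a x => by
    obtain ⟨x, rfl⟩ := hq n x
    rw [hT, hqalg, ← map_smul, ← hqalg, hT, F.homog]
  exact ⟨OfPoly.mulLaw T hTc h1 hmul hsmul, ext_poly fun n z =>
    (OfPoly.mulLaw_apply T hTc h1 hmul hsmul n _).trans (hT n z)⟩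

/-- Laws agreeing after precomposition with a surjection agree. -/
theorem ext_precomp {M' : Type u} [CommRing M'] [Algebra A M'] (π : B →ₐ[A] M') (hπ : Function.Surjective π)
    {F G : M' →ₚₗ[A] C}
    (h : _root_.PolLaw.precomp F π.toLinearMap = _root_.PolLaw.precomp G π.toLinearMap) : F = G := by
  refine ext_poly fun n z => ?_
  obtain ⟨x, rfl⟩ := LinearMap.lTensor_surjective (MvPolynomial (Fin n) A) (g := π.toLinearMap) hπ z
  exact congrArg (fun H : B →ₚₗ[A] C => H.toFun' _ x) h

end Groth.Agent.Lib.PolLaw.Descend
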