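import Groth.Agent.Lib.PolLaw.Polar
import Groth.Agent.Lib.PolLaw.Descend
import Mathlib.RingTheory.PiTensorProduct
import Mathlib.RingTheory.Ideal.Quotient.Operations

/-!
# The norm law from the tensor power to `Γ^d`
-/

universe u

open scoped TensorProduct

namespace Groth.Agent.Lib.PolLaw.NormLaw

open Coeff Universal

variable {A : Type u} [CommRing A] {d : ℕ}

theorem postcomp_injective {M N P : Type u} [AddCommGroup M] [Module A M] [AddCommGroup N] [Module A N]
    [AddCommGroup P] [Module A P] {g : N →ₗ[A] P} (hg : Function.Injective g) {F G : M →ₚₗ[A] N}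
    (h : _root_.PolLaw.postcomp g F = _root_.PolLaw.postcomp g G) : F = G :=
  ext_poly fun _ z => Module.Flat.lTensor_preserves_injective_linearMap g hg
    (congrArg (fun H : M →ₚₗ[A] P => H.toFun' _ z) h)

theorem precomp_comp {M N P Q : Type u} [AddCommGroup M] [Module A M] [AddCommGroup N] [Module A N]
    [AddCommGroup P] [Module A P] [AddCommGroup Q] [Module A Q] (F : P →ₚₗ[A] Q) (f : M →ₗ[A] N)
    (g : N →ₗ[A] P) :
    _root_.PolLaw.precomp F (g ∘ₗ f) = _root_.PolLaw.precomp (_root_.PolLaw.precomp F g) f :=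
  PolynomialLaw.ext (funext fun _ => funext fun _ => funext fun _ => funext fun _ =>
    congrArg _ (LinearMap.lTensor_comp_apply _ _ _ _))

theorem postcomp_precomp {M N P Q : Type u} [AddCommGroup M] [Module A M] [AddCommGroup N] [Module A N]
    [AddCommGroup P] [Module A P] [AddCommGroup Q] [Module A Q] (F : N →ₚₗ[A] P) (f : M →ₗ[A] N)
    (g : P →ₗ[A] Q) :
    _root_.PolLaw.postcomp g (_root_.PolLaw.precomp F f) = _root_.PolLaw.precomp (_root_.PolLaw.postcomp g F) f :=
  rfl

variable {B B' : Type u} [CommRing B] [Algebra A B] [CommRing B'] [Algebra A B']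

/-- The power law is natural. -/
theorem postcomp_pow (f : B →ₐ[A] B') (m : ℕ) :
    _root_.PolLaw.postcomp f.toLinearMap (_root_.PolLaw.MulLaw.pow A B m).law =
      _root_.PolLaw.precomp (_root_.PolLaw.MulLaw.pow A B' m).law f.toLinearMap := by
  refine PolynomialLaw.ext (funext fun S => funext fun _ => funext fun _ => funext fun x => ?_)
  show f.toLinearMap.lTensor S (x ^ m) = f.toLinearMap.lTensor S x ^ m
  rw [_root_.PolLaw.lTensor_algHom_apply, map_pow, _root_.PolLaw.lTensor_algHom_apply]

theorem symmLaw_apply (S : Type u) [CommSemiring S] [Algebra A S] (x : S ⊗[A] (⨂[A] _ : Fin d, B)) :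
    (SymTen.symmLaw A B d).law.toFun' S x =
      ∏ σ : Equiv.Perm (Fin d), (SymTen.perm A B d σ).toLinearMap.lTensor S x := by
  simp only [SymTen.symmLaw, _root_.PolLaw.MulLaw.prodMap_toFun', _root_.PolLaw.lTensor_algHom_apply]

theorem perm_comp (τ σ : Equiv.Perm (Fin d)) :
    (SymTen.perm A B d τ).comp (SymTen.perm A B d σ) = SymTen.perm A B d (τ * σ) := by
  refine AlgHom.toLinearMap_injective (PiTensorProduct.ext (MultilinearMap.ext fun b => ?_))
  simp
  rfl

theorem postcomp_perm_symmLaw (τ : Equiv.Perm (Fin d)) :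
    _root_.PolLaw.postcomp (SymTen.perm A B d τ).toLinearMap (SymTen.symmLaw A B d).law =
      (SymTen.symmLaw A B d).law := by
  refine PolynomialLaw.ext (funext fun S => funext fun _ => funext fun _ => funext fun x => ?_)
  show (SymTen.perm A B d τ).toLinearMap.lTensor S _ = _
  rw [symmLaw_apply, _root_.PolLaw.lTensor_algHom_apply, map_prod]
  refine Fintype.prod_equiv (Equiv.mulLeft τ) _ _ fun σ => ?_
  rw [← _root_.PolLaw.lTensor_algHom_apply, ← LinearMap.lTensor_comp_apply, ← AlgHom.comp_toLinearMap, perm_comp]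
  rfl

theorem tmap_perm (g : B →ₐ[A] B') (σ : Equiv.Perm (Fin d)) :
    (SymTen.tmap A d g).comp (SymTen.perm A B d σ) = (SymTen.perm A B' d σ).comp (SymTen.tmap A d g) :=
  AlgHom.ext fun t => by
    simp only [AlgHom.comp_apply, SymTen.perm_apply, SymTen.tmap_reindex]

theorem postcomp_tmap_symmLaw (g : B →ₐ[A] B') :
    _root_.PolLaw.postcomp (SymTen.tmap A d g).toLinearMap (SymTen.symmLaw A B d).law =
      _root_.PolLaw.precomp (SymTen.symmLaw A B' d).law (SymTen.tmap A d g).toLinearMap := by
  refine PolynomialLaw.ext (funext fun S => funext fun _ => funext fun _ => funext fun x => ?_)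
  show (SymTen.tmap A d g).toLinearMap.lTensor S _ =
    (SymTen.symmLaw A B' d).law.toFun' S ((SymTen.tmap A d g).toLinearMap.lTensor S x)
  rw [symmLaw_apply, symmLaw_apply, _root_.PolLaw.lTensor_algHom_apply, map_prod]
  refine Finset.prod_congr rfl fun σ _ => ?_
  rw [← _root_.PolLaw.lTensor_algHom_apply, ← LinearMap.lTensor_comp_apply, ← LinearMap.lTensor_comp_apply,
    ← AlgHom.comp_toLinearMap, ← AlgHom.comp_toLinearMap, tmap_perm]

section Free

variable (A) (P : Type u) [CommRing P] [Algebra A P] [Module.Free A P] (d)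

theorem exists_freeNorm : ∃ N : _root_.PolLaw.MulLaw A (⨂[A] _ : Fin d, P) (Gamma.Alg A P d) d.factorial,
    _root_.PolLaw.postcomp (Tpow.toTensor A P d).toLinearMap N.law = (SymTen.symmLaw A P d).law := by
  refine Descend.exists_factor _ _ (Tpow.toTensor_injective A P d) fun n b ν => ?_
  refine Tpow.exists_toTensor fun σ => ?_
  rw [← SymTen.perm_apply]
  conv_rhs => rw [← postcomp_perm_symmLaw σ, coef_postcomp]
  rfl

/-- The norm law for a free algebra. -/
noncomputable def freeNorm : _root_.PolLaw.MulLaw A (⨂[A] _ : Fin d, P) (Gamma.Alg A P d) d.factorial :=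
  (exists_freeNorm A d P).choose

theorem toTensor_freeNorm :
    _root_.PolLaw.postcomp (Tpow.toTensor A P d).toLinearMap (freeNorm A d P).law = (SymTen.symmLaw A P d).law :=
  (exists_freeNorm A d P).choose_spec

variable {A d P}

theorem precomp_toTensor_freeNorm :
    _root_.PolLaw.precomp (freeNorm A d P).law (Tpow.toTensor A P d).toLinearMap =
      (_root_.PolLaw.MulLaw.pow A (Gamma.Alg A P d) d.factorial).law := by
  refine postcomp_injective (g := (Tpow.toTensor A P d).toLinearMap) (Tpow.toTensor_injective A P d) ?_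
  rw [postcomp_precomp, toTensor_freeNorm, postcomp_pow]
  refine PolynomialLaw.ext (funext fun S => funext fun _ => funext fun _ => funext fun x => ?_)
  show (SymTen.symmLaw A P d).law.toFun' S ((Tpow.toTensor A P d).toLinearMap.lTensor S x) =
    (Tpow.toTensor A P d).toLinearMap.lTensor S x ^ d.factorial
  rw [symmLaw_apply, Finset.prod_congr rfl (g := fun _ => (Tpow.toTensor A P d).toLinearMap.lTensor S x),
    Finset.prod_const, Finset.card_univ, Fintype.card_perm, Fintype.card_fin]
  intro σ _
  rw [← LinearMap.lTensor_comp_apply]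
  exact congrArg (fun f : _ →ₗ[A] _ => f.lTensor S x) (LinearMap.ext fun z => Polar.perm_toTensor P σ z)

end Free

section Gmap

variable {P P' : Type u} [CommRing P] [Algebra A P] [CommRing P'] [Algebra A P']

/-- Functoriality of `Γ^d`. -/
noncomputable def gmap (g : P →ₐ[A] P') : Gamma.Alg A P d →ₐ[A] Gamma.Alg A P' d :=
  Gamma.lift ((Gamma.univ A P' d).precomp g)

theorem gmap_cls (g : P →ₐ[A] P') {n : ℕ} (b : Fin n → P) (ν : Fin n →₀ ℕ) :
    gmap g (Gamma.cls (d := d) b ν) = Gamma.cls (fun i => g (b i)) ν := by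
  rw [gmap, Gamma.lift_cls, ← Gamma.coef_univ]
  exact coef_precomp _ g.toLinearMap b ν

theorem toTensor_gmap (g : P →ₐ[A] P') :
    (Tpow.toTensor A P' d).comp (gmap g) = (SymTen.tmap A d g).comp (Tpow.toTensor A P d) := by
  refine Gamma.hom_ext (Gamma.isGammaD_univ A P d) fun n b ν => ?_
  rw [Gamma.coef_univ, AlgHom.comp_apply, AlgHom.comp_apply, gmap_cls, Tpow.toTensor, Tpow.toTensor,
    Gamma.lift_cls, Gamma.lift_cls, Tpow.coef_tpow, Tpow.coef_tpow, map_sum]
  refine Finset.sum_congr rfl fun c _ => ?_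
  split_ifs <;> simp

theorem freeNorm_natural [Module.Free A P] [Module.Free A P'] (g : P →ₐ[A] P') :
    _root_.PolLaw.postcomp (gmap g).toLinearMap (freeNorm A d P).law =
      _root_.PolLaw.precomp (freeNorm A d P').law (SymTen.tmap A d g).toLinearMap := by
  refine postcomp_injective (g := (Tpow.toTensor A P' d).toLinearMap) (Tpow.toTensor_injective A P' d) ?_
  rw [← Gamma.postcomp_comp, ← AlgHom.comp_toLinearMap, toTensor_gmap, AlgHom.comp_toLinearMap,
    Gamma.postcomp_comp, toTensor_freeNorm, postcomp_tmap_symmLaw, postcomp_precomp, toTensor_freeNorm]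

theorem tmap_comp {P'' : Type u} [CommRing P''] [Algebra A P''] (g : P →ₐ[A] P') (h : P' →ₐ[A] P'') :
    (SymTen.tmap A d h).comp (SymTen.tmap A d g) = SymTen.tmap A d (h.comp g) := by
  refine AlgHom.toLinearMap_injective (PiTensorProduct.ext (MultilinearMap.ext fun b => ?_))
  simp

theorem tmap_id : SymTen.tmap A d (AlgHom.id A P) = AlgHom.id A _ := by
  refine AlgHom.toLinearMap_injective (PiTensorProduct.ext (MultilinearMap.ext fun b => ?_))
  simp

theorem tmap_single (g : P →ₐ[A] P') (i : Fin d) (b : P) :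
    SymTen.tmap A d g (PiTensorProduct.singleAlgHom (A := fun _ : Fin d => P) i b) =
      PiTensorProduct.singleAlgHom (A := fun _ : Fin d => P') i (g b) := by
  simp only [PiTensorProduct.singleAlgHom_apply, SymTen.tmap_tprod]
  refine congrArg _ (funext fun j => ?_)
  by_cases h : j = i <;> simp [h, MonoidHom.mulSingle_apply]

theorem tmap_surjective (g : P →ₐ[A] P') (hg : Function.Surjective g) : Function.Surjective (SymTen.tmap A d g) := by
  intro y
  induction y using PiTensorProduct.induction_on with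
  | smul_tprod a b =>
    choose c hc using fun i => hg (b i)
    exact ⟨a • PiTensorProduct.tprod A c, by simp [hc]⟩
  | add x y hx hy =>
    obtain ⟨⟨x, rfl⟩, ⟨y, rfl⟩⟩ := And.intro hx hy
    exact ⟨x + y, map_add _ _ _⟩

end Gmap

section Descend

variable {C : Type u} [CommRing C] [Algebra A C] (γ : _root_.PolLaw.MulLaw A B C d)

/-- The norm law of the free cover, with values in `C`. -/
noncomputable def coverNorm : _root_.PolLaw.MulLaw A (⨂[A] _ : Fin d, Cov A B) C d.factorial :=
  (freeNorm A d (Cov A B)).postcomp (classify γ)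

theorem classify_gmap_congr {P : Type u} [CommRing P] [Algebra A P] {g g' : P →ₐ[A] Cov A B}
    (h : (proj A B).comp g = (proj A B).comp g') : (classify γ).comp (gmap g) = (classify γ).comp (gmap g') := by
  refine Gamma.hom_ext (Gamma.isGammaD_univ A P d) fun n b ν => ?_
  rw [Gamma.coef_univ, AlgHom.comp_apply, AlgHom.comp_apply, gmap_cls, gmap_cls, ← Polar.coef_eq_classify,
    ← Polar.coef_eq_classify]
  exact congrArg (coef γ.law · ν) (funext fun i => AlgHom.congr_fun h (b i))

theorem precomp_tmap_congr {P : Type u} [CommRing P] [Algebra A P] [Module.Free A P] {g g' : P →ₐ[A] Cov A B}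
    (h : (proj A B).comp g = (proj A B).comp g') :
    _root_.PolLaw.precomp (coverNorm γ).law (SymTen.tmap A d g).toLinearMap =
      _root_.PolLaw.precomp (coverNorm γ).law (SymTen.tmap A d g').toLinearMap := by
  show _root_.PolLaw.precomp (_root_.PolLaw.postcomp _ _) _ = _root_.PolLaw.precomp (_root_.PolLaw.postcomp _ _) _
  rw [← postcomp_precomp, ← postcomp_precomp, ← freeNorm_natural, ← freeNorm_natural, ← Gamma.postcomp_comp,
    ← Gamma.postcomp_comp, ← AlgHom.comp_toLinearMap, ← AlgHom.comp_toLinearMap, classify_gmap_congr γ h]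

theorem single_mem_ker (i : Fin d) (a : Cov A B) (ha : proj A B a = 0) :
    PiTensorProduct.singleAlgHom (A := fun _ : Fin d => Cov A B) i a ∈
      _root_.PolLaw.ker (coverNorm γ).law := by
  intro S _ _ x w
  let s : Cov A B →ₐ[A] Cov A (Option B) := MvPolynomial.rename some
  let g : Cov A B → (Cov A (Option B) →ₐ[A] Cov A B) := fun c =>
    MvPolynomial.aeval fun o : Option B => Option.elim o c MvPolynomial.X
  have hgs : ∀ c, (g c).comp s = AlgHom.id A _ := fun c => MvPolynomial.algHom_ext fun b => by simp [g, s]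
  have hg : (proj A B).comp (g a) = (proj A B).comp (g 0) :=
    MvPolynomial.algHom_ext fun o => by cases o <;> simp [g, ha]
  let e : Cov A (Option B) := MvPolynomial.X none
  let z : S ⊗[A] (⨂[A] _ : Fin d, Cov A (Option B)) :=
    Algebra.TensorProduct.map (AlgHom.id S S) (SymTen.tmap A d s) x +
      Algebra.TensorProduct.map (AlgHom.id S S) (SymTen.tmap A d s) w *
        (1 ⊗ₜ[A] PiTensorProduct.singleAlgHom (A := fun _ : Fin d => Cov A (Option B)) i e)
  have key := congrArg (fun H : (⨂[A] _ : Fin d, Cov A (Option B)) →ₚₗ[A] C => H.toFun' S z)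
    (precomp_tmap_congr γ hg)
  have hz : ∀ c, (SymTen.tmap A d (g c)).toLinearMap.lTensor S z =
      x + w * (1 ⊗ₜ[A] PiTensorProduct.singleAlgHom (A := fun _ : Fin d => Cov A B) i c) := by
    intro c
    have hid : ∀ t : S ⊗[A] (⨂[A] _ : Fin d, Cov A B), Algebra.TensorProduct.map (AlgHom.id S S) (SymTen.tmap A d (g c))
        (Algebra.TensorProduct.map (AlgHom.id S S) (SymTen.tmap A d s) t) = t := fun t => by
      rw [← _root_.PolLaw.lTensor_algHom_apply, ← _root_.PolLaw.lTensor_algHom_apply, ← LinearMap.lTensor_comp_apply,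
        ← AlgHom.comp_toLinearMap, tmap_comp, hgs, tmap_id]
      exact LinearMap.lTensor_id_apply _ _ _
    rw [_root_.PolLaw.lTensor_algHom_apply, map_add, map_mul, hid, hid, Algebra.TensorProduct.map_tmul,
      AlgHom.id_apply, tmap_single]
    simp [g, e]
  refine Eq.trans (congrArg _ (hz a).symm) (Eq.trans key ?_)
  show (coverNorm γ).law.toFun' S ((SymTen.tmap A d (g 0)).toLinearMap.lTensor S z) = _
  rw [hz, map_zero, TensorProduct.tmul_zero, mul_zero, add_zero]

theorem ker_tmap_le (t : ⨂[A] _ : Fin d, Cov A B) (ht : SymTen.tmap A d (proj A B) t = 0) :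
    t ∈ _root_.PolLaw.ker (coverNorm γ).law := by
  set K := _root_.PolLaw.ker (coverNorm γ).law
  let s : Fin d → (B →ₐ[A] (⨂[A] _ : Fin d, Cov A B) ⧸ K) := fun i =>
    AlgHom.liftOfSurjective (proj A B) proj_surjective
      ((Ideal.Quotient.mkₐ A K).comp (PiTensorProduct.singleAlgHom (A := fun _ : Fin d => Cov A B) i))
      fun c hc => (Ideal.Quotient.eq_zero_iff_mem).2 (single_mem_ker γ i c hc)
  let m : (⨂[A] _ : Fin d, B) →ₐ[A] (⨂[A] _ : Fin d, Cov A B) ⧸ K := PiTensorProduct.liftAlgHom
    ((MultilinearMap.mkPiAlgebra A (Fin d) _).compLinearMap fun i => (s i).toLinearMap)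
    (by simp) (fun x y => by simp [Finset.prod_mul_distrib])
  have hm : m.comp (SymTen.tmap A d (proj A B)) = Ideal.Quotient.mkₐ A K := by
    refine PiTensorProduct.algHom_ext fun i => AlgHom.ext fun c => ?_
    rw [AlgHom.comp_apply, AlgHom.comp_apply, AlgHom.comp_apply, tmap_single]
    simp only [m, PiTensorProduct.singleAlgHom_apply, PiTensorProduct.liftAlgHom, AlgHom.ofLinearMap_apply,
      PiTensorProduct.lift.tprod, MultilinearMap.compLinearMap_apply, MultilinearMap.mkPiAlgebra_apply]
    rw [Finset.prod_eq_single i (fun j _ hj => by simp [MonoidHom.mulSingle_apply, hj]) (by simp)]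
    simp [s, MonoidHom.mulSingle_apply]
    all_goals exact AlgHom.liftOfSurjective_apply _ _ _ _ c
  refine Ideal.Quotient.eq_zero_iff_mem.1 ?_
  show Ideal.Quotient.mkₐ A K t = 0
  rw [← hm, AlgHom.comp_apply, ht, map_zero]

/-- The norm law `⊗^d B → C`, with its defining equations. -/
theorem exists_norm {j : C →ₐ[A] ⨂[A] _ : Fin d, B}
    (hj : _root_.PolLaw.postcomp j.toLinearMap γ.law = (SymTen.tpowLaw A B d).law)
    (hγ : _root_.PolLaw.IsGammaD γ) :
    ∃ F : _root_.PolLaw.MulLaw A (⨂[A] _ : Fin d, B) C d.factorial,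
      _root_.PolLaw.postcomp j.toLinearMap F.law = (SymTen.symmLaw A B d).law ∧
      _root_.PolLaw.precomp F.law j.toLinearMap = (_root_.PolLaw.MulLaw.pow A C d.factorial).law := by
  have hπ := tmap_surjective (A := A) (d := d) (proj A B) proj_surjective
  obtain ⟨F, hF⟩ := Descend.exists_descend (SymTen.tmap A d (proj A B)) hπ (coverNorm γ) (ker_tmap_le γ)
  change _root_.PolLaw.precomp F.law _ = _root_.PolLaw.postcomp _ _ at hF
  have hjc := congrArg AlgHom.toLinearMap (Polar.tmap_toTensor B j hj)
  rw [AlgHom.comp_toLinearMap, AlgHom.comp_toLinearMap] at hjc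
  refine ⟨F, Descend.ext_precomp _ hπ ?_, Descend.ext_precomp _ (Polar.classify_surjective hγ) ?_⟩
  · rw [← postcomp_precomp, hF, ← Gamma.postcomp_comp, hjc, Gamma.postcomp_comp, toTensor_freeNorm,
      postcomp_tmap_symmLaw]
  · rw [← precomp_comp, hjc, precomp_comp, hF, ← postcomp_precomp, precomp_toTensor_freeNorm, postcomp_pow]

end Descend

theorem ground_symmLaw (z : ⨂[A] _ : Fin d, B) :
    (SymTen.symmLaw A B d).law.ground z = ∏ σ : Equiv.Perm (Fin d), SymTen.perm A B d σ z := by
  show Algebra.TensorProduct.lid A _ ((SymTen.symmLaw A B d).law.toFun' A (1 ⊗ₜ[A] z)) = _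
  rw [symmLaw_apply, map_prod]
  simp

theorem ground_postcomp {M N P : Type u} [AddCommGroup M] [Module A M] [AddCommGroup N] [Module A N]
    [AddCommGroup P] [Module A P] (g : N →ₗ[A] P) (F : M →ₚₗ[A] N) (z : M) :
    (_root_.PolLaw.postcomp g F).ground z = g (F.ground z) := by
  show TensorProduct.lid A P (g.lTensor A (F.toFun' A _)) = g (TensorProduct.lid A N (F.toFun' A _))
  generalize F.toFun' A _ = y
  induction y using TensorProduct.induction_on with
  | zero => simp
  | tmul a b => simp
  | add a b ha hb => simp only [map_add, ha, hb]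

theorem ground_precomp {M N P : Type u} [AddCommGroup M] [Module A M] [AddCommGroup N] [Module A N]
    [AddCommGroup P] [Module A P] (F : N →ₚₗ[A] P) (f : M →ₗ[A] N) (z : M) :
    (_root_.PolLaw.precomp F f).ground z = F.ground (f z) := rfl

theorem ground_pow (m : ℕ) (z : B) : (_root_.PolLaw.MulLaw.pow A B m).law.ground z = z ^ m := by
  show Algebra.TensorProduct.lid A B ((1 ⊗ₜ[A] z : A ⊗[A] B) ^ m) = _
  rw [map_pow]
  simp

theorem ground_zero {C : Type u} [CommRing C] [Algebra A C] {m : ℕ} (hm : 0 < m)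
    (F : _root_.PolLaw.MulLaw A B C m) : F.law.ground 0 = 0 := by
  show TensorProduct.lid A C (F.law.toFun' A (1 ⊗ₜ[A] (0 : B))) = 0
  rw [show (1 : A) ⊗ₜ[A] (0 : B) = (0 : A) • ((1 : A) ⊗ₜ[A] (1 : B)) by simp, F.homog A 0, zero_pow hm.ne',
    zero_smul, map_zero]

end Groth.Agent.Lib.PolLaw.NormLaw
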