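import Groth.Agent.Lib.PolLaw.FlatSym
import Groth.Agent.Lib.PolLaw.NormLaw

/-!
# `Γ^d` and symmetric tensors for flat algebras or invertible `d!`
-/

universe u

open scoped TensorProduct

namespace Groth.Agent.Lib.PolLaw.GammaTS

open Coeff FlatTensor FlatSym

variable {A : Type u} [CommRing A] {B : Type u} [CommRing B] [Algebra A B] {d : ℕ}

theorem exists_combination (x : Gamma.Alg A B d) : ∃ (n : ℕ) (b : Fin n → B) (a : degSet (Fin n) d → A),
    x = ∑ ν : degSet (Fin n) d, a ν • Gamma.cls b ν.1 := by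
  classical
  suffices ∃ (n : ℕ) (b : Fin n → B), x ∈ Submodule.span A (Set.range fun ν : degSet (Fin n) d =>
      coef (Gamma.univ A B d).law b ν.1) by
    obtain ⟨n, b, hx⟩ := this
    obtain ⟨a, ha⟩ := (Submodule.mem_span_range_iff_exists_fun A).1 hx
    exact ⟨n, b, a, by rw [← ha]; simp [Gamma.coef_univ]⟩
  have key : ∀ {n : ℕ} (b : Fin n → B), Submodule.span A (Set.range (coef (Gamma.univ A B d).law b)) ≤
      Submodule.span A (Set.range fun ν : degSet (Fin n) d => coef (Gamma.univ A B d).law b ν.1) := by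
    intro n b
    refine Submodule.span_le.2 ?_
    rintro _ ⟨ν, rfl⟩
    by_cases h : ∑ i, ν i = d
    · exact Submodule.subset_span ⟨⟨ν, mem_degSet.2 h⟩, rfl⟩
    · rw [coef_eq_zero_of_sum_ne (Gamma.univ A B d).homog _ _ h]
      exact zero_mem _
  suffices ∃ (n : ℕ) (b : Fin n → B), x ∈ Submodule.span A (Set.range (coef (Gamma.univ A B d).law b)) by
    obtain ⟨n, b, hx⟩ := this
    exact ⟨n, b, key b hx⟩
  have hx : x ∈ coefSpan (Gamma.univ A B d).law :=
    Gamma.coefSpan_eq_top (Gamma.isGammaD_univ A B d) ▸ Submodule.mem_top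
  induction hx using Submodule.span_induction with
  | mem x hx =>
    obtain ⟨n, b, ν, rfl⟩ := hx
    exact ⟨n, b, Submodule.subset_span ⟨ν, rfl⟩⟩
  | zero => exact ⟨0, Fin.elim0, zero_mem _⟩
  | add x y _ _ hx hy =>
    obtain ⟨n, b, hx⟩ := hx
    obtain ⟨m, b', hy⟩ := hy
    refine ⟨n + m, Fin.append b b', add_mem (Submodule.span_le.2 ?_ hx) (Submodule.span_le.2 ?_ hy)⟩
    · rintro _ ⟨ν, rfl⟩
      exact coef_mem_span_of_mem_span _ _ _ (fun k => Submodule.subset_span ⟨Fin.castAdd m k, by simp⟩) ν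
    · rintro _ ⟨ν, rfl⟩
      exact coef_mem_span_of_mem_span _ _ _ (fun k => Submodule.subset_span ⟨Fin.natAdd n k, by simp⟩) ν
  | smul a x _ hx =>
    obtain ⟨n, b, hx⟩ := hx
    exact ⟨n, b, Submodule.smul_mem _ a hx⟩

theorem toTensor_combination {n : ℕ} (f : (Fin n → A) →ₗ[A] B) (a : degSet (Fin n) d → A) :
    Tpow.toTensor A B d (∑ ν : degSet (Fin n) d, a ν • Gamma.cls (fun i => f (Pi.basisFun A (Fin n) i)) ν.1) =
      tm f (∑ ν : degSet (Fin n) d, a ν • orbit A d n ν.1) := by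
  simp only [map_sum, map_smul, tm_orbit, Tpow.toTensor, Gamma.lift_cls]

/-- For a flat algebra `Γ^d` embeds in the tensor power. -/
theorem toTensor_injective_of_flat [Module.Flat A B] : Function.Injective (Tpow.toTensor A B d) := by
  refine (injective_iff_map_eq_zero _).2 fun x hx => ?_
  obtain ⟨n, b, a, rfl⟩ := exists_combination x
  let f : (Fin n → A) →ₗ[A] B := (Pi.basisFun A (Fin n)).constr A b
  have hb : b = fun i => f (Pi.basisFun A (Fin n) i) := funext fun i => ((Pi.basisFun A (Fin n)).constr_basis A b i).symm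
  rw [hb, toTensor_combination] at hx
  obtain ⟨m, g, f', hf, hg⟩ := exists_kill f _ hx
  let ψ₀ : (Fin m → A) →ₗ[A] MvPolynomial (Fin m) A :=
    (Pi.basisFun A (Fin m)).constr A fun k => MvPolynomial.X k
  let ψ : MvPolynomial (Fin m) A →ₐ[A] B := MvPolynomial.aeval fun k => f' (Pi.basisFun A (Fin m) k)
  have hψ : ψ.toLinearMap ∘ₗ ψ₀ = f' := (Pi.basisFun A (Fin m)).ext fun k => by
    simp only [LinearMap.comp_apply, ψ₀, Module.Basis.constr_basis, AlgHom.toLinearMap_apply, ψ,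
      MvPolynomial.aeval_X]
  have h0 : (∑ ν : degSet (Fin n) d, a ν •
      Gamma.cls (fun i => (ψ₀ ∘ₗ g) (Pi.basisFun A (Fin n) i)) ν.1 : Gamma.Alg A (MvPolynomial (Fin m) A) d) = 0 := by
    refine Tpow.toTensor_injective A (MvPolynomial (Fin m) A) d ?_
    rw [toTensor_combination, tm_comp, hg, map_zero, map_zero]
  have h1 := congrArg (NormLaw.gmap ψ) h0
  simp only [map_sum, map_smul, map_zero, NormLaw.gmap_cls] at h1
  refine Eq.trans (Finset.sum_congr rfl fun ν _ => ?_) h1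
  congr 2
  funext i
  rw [hb]
  show f _ = (ψ.toLinearMap ∘ₗ ψ₀ ∘ₗ g) _
  rw [← LinearMap.comp_assoc, hψ, hf]

theorem exists_toTensor_of_flat [Module.Flat A B] {y : ⨂[A] _ : Fin d, B}
    (hy : ∀ σ : Equiv.Perm (Fin d), PiTensorProduct.reindex A (fun _ : Fin d => B) σ y = y) :
    ∃ z : Gamma.Alg A B d, Tpow.toTensor A B d z = y := by
  obtain ⟨m, f, t, ht, hti, -⟩ := exists_symm_lift (fun _ : Unit => y) (fun _ => hy) 0 (by simp)
  refine ⟨_, (toTensor_combination f fun ν => co A d m ν (t ())).trans ?_⟩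
  rw [← eq_sum_orbit (hti ()), ht]

/-- The hypotheses under which symmetric tensors compute `Γ^d`. -/
theorem bijective (h : Module.Flat A B ∨ IsUnit ((d.factorial : ℕ) : A)) :
    Function.Injective (Tpow.toTensor A B d) ∧
      ∀ y ∈ SymTen.TS A B d, ∃ z, Tpow.toTensor A B d z = y := by
  rcases h with h | h
  · exact ⟨toTensor_injective_of_flat, fun y hy => exists_toTensor_of_flat hy⟩
  · obtain ⟨u, hu⟩ := h
    have hj : _root_.PolLaw.postcomp (Tpow.toTensor A B d).toLinearMap (Gamma.univ A B d).law =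
        (SymTen.tpowLaw A B d).law := Gamma.postcomp_lift_univ _
    have cancel : ∀ {X : Type u} [AddCommGroup X] [Module A X] (x : X),
        ((u⁻¹ : Aˣ) : A) • (d.factorial • x) = x := fun x => by
      rw [← Nat.cast_smul_eq_nsmul A, ← hu, smul_smul, Units.inv_mul, one_smul]
    refine ⟨(injective_iff_map_eq_zero _).2 fun x hx => ?_, fun y hy => ?_⟩
    · rw [← cancel x, ← Polar.polar_j _ hj (Gamma.isGammaD_univ A B d), hx, map_zero, smul_zero]
    · refine ⟨((u⁻¹ : Aˣ) : A) • Polar.polar (Gamma.univ A B d) y, ?_⟩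
      rw [map_smul, Polar.j_polar _ hj, Finset.sum_congr rfl (g := fun _ => y)
        fun σ _ => (SymTen.perm_apply A B d σ y).trans (hy σ), Finset.sum_const, Finset.card_univ,
        Fintype.card_perm, Fintype.card_fin, cancel]

variable (A B d) in
/-- `Γ^d → TS^d`. -/
noncomputable def toTS : Gamma.Alg A B d →ₐ[A] SymTen.TS A B d :=
  (Tpow.toTensor A B d).codRestrict _ fun z σ => by
    rw [← SymTen.perm_apply]
    exact Polar.perm_toTensor B σ z

/-- `Γ^d ≃ TS^d`. -/
noncomputable def equiv (h : Module.Flat A B ∨ IsUnit ((d.factorial : ℕ) : A)) :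
    Gamma.Alg A B d ≃ₐ[A] SymTen.TS A B d :=
  AlgEquiv.ofBijective (toTS A B d) ⟨fun x y hxy => (bijective h).1 (congrArg Subtype.val hxy), fun y => by
    obtain ⟨z, hz⟩ := (bijective h).2 y.1 y.2
    exact ⟨z, Subtype.ext hz⟩⟩

/-- The universal property is invariant under isomorphism. -/
theorem isGammaD_postcomp {C C' : Type u} [CommRing C] [Algebra A C] [CommRing C'] [Algebra A C']
    {γ : _root_.PolLaw.MulLaw A B C d} (hγ : _root_.PolLaw.IsGammaD γ) (e : C ≃ₐ[A] C') :
    _root_.PolLaw.IsGammaD (γ.postcomp (e : C →ₐ[A] C')) := by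
  intro X _ _ F
  obtain ⟨f, hf, huniq⟩ := hγ X F
  refine ⟨f.comp (e.symm : C' →ₐ[A] C), ?_, fun g hg => ?_⟩
  · show _root_.PolLaw.postcomp _ (_root_.PolLaw.postcomp _ γ.law) = _
    rw [← Gamma.postcomp_comp, ← AlgHom.comp_toLinearMap, AlgHom.comp_assoc, AlgEquiv.symm_comp, AlgHom.comp_id]
    exact hf
  · have h' : g.comp (e : C →ₐ[A] C') = f := huniq _ (by
      show _root_.PolLaw.postcomp _ γ.law = _
      rw [AlgHom.comp_toLinearMap, Gamma.postcomp_comp]
      exact hg)
    rw [← h', AlgHom.comp_assoc, AlgEquiv.comp_symm, AlgHom.comp_id]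

/-- Two divided power algebras are isomorphic. -/
theorem nonempty_equiv {C : Type u} [CommRing C] [Algebra A C] {γ : _root_.PolLaw.MulLaw A B C d}
    (hγ : _root_.PolLaw.IsGammaD γ) : Nonempty (Gamma.Alg A B d ≃ₐ[A] C) := by
  obtain ⟨g, hg, -⟩ := hγ _ (Gamma.univ A B d)
  have hg' : ∀ (n : ℕ) (b : Fin n → B) (ν : Fin n →₀ ℕ), g (coef γ.law b ν) = coef (Gamma.univ A B d).law b ν :=
    fun n b ν => Gamma.apply_coef hg b ν
  refine ⟨AlgEquiv.ofAlgHom (Gamma.lift γ) g (Gamma.hom_ext hγ fun n b ν => ?_)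
    (Gamma.hom_ext (Gamma.isGammaD_univ A B d) fun n b ν => ?_)⟩
  · rw [AlgHom.comp_apply, hg', Gamma.apply_coef (Gamma.postcomp_lift_univ γ)]
    rfl
  · rw [AlgHom.comp_apply, Gamma.apply_coef (Gamma.postcomp_lift_univ γ), hg']
    rfl

theorem flat_TS [Module.Flat A B] : Module.Flat A (SymTen.TS A B d) :=
  flat_of_forall (Subalgebra.toSubmodule (SymTen.TS A B d)) fun _ => Iff.rfl

end Groth.Agent.Lib.PolLaw.GammaTS
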