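import Groth.Agent.Lib.PolLaw.Kernel
import Mathlib.RingTheory.Localization.Basic
import Mathlib.RingTheory.Localization.Module
import Mathlib.Algebra.Polynomial.Basis

/-!
# Kernels under extension of scalars
-/

universe u

open scoped TensorProduct
open Polynomial

namespace Groth.Agent.Lib.PolLaw.BaseChange

open Coeff Val Kernel

variable {A : Type u} [CommRing A] {B : Type u} [CommRing B] [Algebra A B] {d : ℕ}

/-- The `e`-coordinate of an element. -/
noncomputable def coord {A' : Type u} [CommRing A'] [Algebra A A'] (e : A' →ₗ[A] A) : A' ⊗[A] B →ₗ[A] B :=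
  (TensorProduct.lid A B).toLinearMap ∘ₗ e.rTensor B

theorem coord_tmul {A' : Type u} [CommRing A'] [Algebra A A'] (e : A' →ₗ[A] A) (p : A') (b : B) :
    coord e (p ⊗ₜ[A] b) = e p • b := by simp [coord]

theorem coord_mem {A' : Type u} [CommRing A'] [Algebra A A'] {I : Ideal B} {z : A' ⊗[A] B}
    (hz : z ∈ I.map (Algebra.TensorProduct.includeRight : B →ₐ[A] A' ⊗[A] B)) (e : A' →ₗ[A] A) :
    coord e z ∈ I := by
  rw [Ideal.map] at hz
  induction hz using Submodule.span_induction generalizing e with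
  | mem z hz =>
    obtain ⟨b, hb, rfl⟩ := hz
    rw [Algebra.TensorProduct.includeRight_apply, coord_tmul]
    exact Submodule.smul_of_tower_mem I _ hb
  | zero => simp
  | add x y _ _ hx hy => rw [map_add]; exact add_mem (hx e) (hy e)
  | smul w z _ hz =>
    rw [smul_eq_mul]
    induction w using TensorProduct.induction_on with
    | zero => simp
    | tmul p b =>
      have : ∀ z, coord e (p ⊗ₜ[A] b * z) = b * coord (e ∘ₗ LinearMap.mulLeft A p) z := by
        intro z
        induction z using TensorProduct.induction_on with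
        | zero => simp
        | tmul q c => simp [coord_tmul]
        | add x y hx hy => simp only [mul_add, map_add, hx, hy]
      rw [this]
      exact I.mul_mem_left _ (hz _)
    | add x y hx hy => rw [add_mul, map_add]; exact add_mem hx hy

theorem mem_kerBC_of_smul_mem {A' : Type u} [CommRing A'] [Algebra A A'] {F : _root_.PolLaw.MulLaw A B A d}
    {a : A'} (ha : ∀ c : A', a * c = 0 → c = 0) {z : A' ⊗[A] B}
    (h : a • z ∈ _root_.PolLaw.kerBC F.law A') : z ∈ _root_.PolLaw.kerBC F.law A' := by
  rw [mem_kerBC_iff]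
  intro n x w
  let R := MvPolynomial (Fin n) A'
  let u : R ⊗[A] B := w * toTest R z
  let c : R →ₐ[A] R[X] := Polynomial.CAlgHom (R := A) (A := R)
  let D : R[X] := val₀ F (toPoly R B x + (X : R[X]) • toPoly R B u) - Polynomial.C (val₀ F x)
  let a' : R := algebraMap A' R a
  let σ : R[X] →ₐ[A] R[X] := ((Polynomial.aeval (Polynomial.C a' * X) : R[X] →ₐ[R] R[X]).restrictScalars A)
  have hσc : ∀ v : R ⊗[A] B, Algebra.TensorProduct.map σ (AlgHom.id A B) (toPoly R B v) = toPoly R B v := by
    intro v
    rw [toPoly, ← AlgHom.comp_apply, ← Algebra.TensorProduct.map_comp]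
    congr 2
    exact AlgHom.ext fun r => by simp [σ]
  have hmap : ∀ (r : R[X]) (v : R[X] ⊗[A] B), Algebra.TensorProduct.map σ (AlgHom.id A B) (r • v) =
      σ r • Algebra.TensorProduct.map σ (AlgHom.id A B) v := fun r v => by
    rw [← OfPoly.rTensor_eq_map, ← OfPoly.rTensor_eq_map, OfPoly.rTensor_smul_scalar]
  have hσD : σ D = 0 := by
    rw [map_sub, map_val₀, map_add, hmap, hσc, hσc, sub_eq_zero]
    have hX : σ X = Polynomial.C a' * X := by simp [σ]
    rw [hX, show σ (Polynomial.C (val₀ F x)) = c (val₀ F x) by simp [σ, c], map_val₀ F c x,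
      show Algebra.TensorProduct.map c (AlgHom.id A B) x = toPoly R B x from rfl]
    have htest : (Polynomial.C a' * X : R[X]) • toPoly R B u =
        ((X : R[X]) • toPoly R B w) * toTest R[X] (a • z) := by
      have h1 : ∀ q : A' ⊗[A] B, toTest R[X] (a • q) = (Polynomial.C a' : R[X]) • toPoly R B (toTest R q) := by
        intro q
        induction q using TensorProduct.induction_on with
        | zero => simp
        | tmul q b => simp [toTest, toPoly, a', TensorProduct.smul_tmul', R]
        | add p q hp hq => simp only [smul_add, map_add, hp, hq]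
      rw [h1, smul_mul_smul_comm, ← map_mul, mul_comm X]
    rw [htest]
    exact val₀_of_mem_kerBC h _ _
  have hD : D = 0 := by
    refine Polynomial.ext fun k => ?_
    have h1 : (σ D).coeff k = a' ^ k * D.coeff k := by
      rw [show σ D = D.comp (Polynomial.C a' * X) from rfl,
        Polynomial.comp_C_mul_X_coeff, mul_comm]
    rw [hσD, Polynomial.coeff_zero] at h1
    rw [Polynomial.coeff_zero]
    revert h1
    generalize D.coeff k = e
    intro h1
    induction k with
    | zero => simpa using h1.symm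
    | succ k ih =>
      refine ih ?_
      refine MvPolynomial.ext _ _ fun ν => ?_
      have h2 := congrArg (MvPolynomial.coeff ν) h1
      rw [pow_succ', mul_assoc, MvPolynomial.coeff_zero, show a' = MvPolynomial.C a from rfl,
        MvPolynomial.coeff_C_mul] at h2
      rw [MvPolynomial.coeff_zero, show a' = MvPolynomial.C a from rfl]
      exact (ha _ h2.symm).symm
  let ev : R[X] →ₐ[A] R := (Polynomial.aeval (1 : R) : R[X] →ₐ[R] R).restrictScalars A
  have hevc : ∀ v : R ⊗[A] B, Algebra.TensorProduct.map ev (AlgHom.id A B) (toPoly R B v) = v := by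
    intro v
    rw [toPoly, ← AlgHom.comp_apply, ← Algebra.TensorProduct.map_comp,
      show ev.comp (Polynomial.CAlgHom (R := A) (A := R)) = AlgHom.id A R from AlgHom.ext fun r => by simp [ev]]
    simp
  have := congrArg ev hD
  rw [map_sub, map_zero, sub_eq_zero, map_val₀, map_add, ← OfPoly.rTensor_eq_map _ ((X : R[X]) • toPoly R B u),
    OfPoly.rTensor_smul_scalar, OfPoly.rTensor_eq_map, hevc, hevc, show ev X = 1 by simp [ev], one_smul] at this
  rw [this]
  simp [ev]

theorem exists_range_rep (z : A[X] ⊗[A] B) :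
    ∃ (N : ℕ) (b : ℕ → B), z = ∑ k ∈ Finset.range N, (X ^ k : A[X]) ⊗ₜ[A] b k := by
  classical
  obtain ⟨g, rfl⟩ := (TensorProduct.equivFinsuppOfBasisLeft (Polynomial.basisMonomials A)).symm.surjective z
  refine ⟨g.support.sup id + 1, g, ?_⟩
  rw [TensorProduct.equivFinsuppOfBasisLeft_symm_apply,
    Finsupp.sum_of_support_subset g (s := Finset.range (g.support.sup id + 1))
      (fun k hk => Finset.mem_range.2 (Nat.lt_succ_of_le (Finset.le_sup (f := id) hk))) _ (by simp)]
  simp [Polynomial.monomial_one_right_eq_X_pow]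

theorem map_ker_eq_kerBC_polynomial (F : _root_.PolLaw.MulLaw A B A d) :
    (_root_.PolLaw.ker F.law).map (Algebra.TensorProduct.includeRight : B →ₐ[A] A[X] ⊗[A] B) =
      _root_.PolLaw.kerBC F.law A[X] := by
  refine le_antisymm (map_ker_le_kerBC F) fun z hz => ?_
  obtain ⟨N, b, rfl⟩ := exists_range_rep z
  induction N generalizing b with
  | zero => simp
  | succ N ih =>
    have h0 : b 0 ∈ _root_.PolLaw.ker F.law := by
      refine mem_ker_of_kerBC_self ?_
      have := map_mem_kerBC (Polynomial.aeval (0 : A)) hz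
      simpa [Finset.sum_range_succ', TensorProduct.tmul_sum, zero_pow] using this
    have hrest : (X : A[X]) • (∑ k ∈ Finset.range N, (X ^ k : A[X]) ⊗ₜ[A] b (k + 1)) ∈
        _root_.PolLaw.kerBC F.law A[X] := by
      have := Ideal.sub_mem _ hz (includeRight_mem_kerBC (A' := A[X]) h0)
      rw [Finset.sum_range_succ', pow_zero, add_sub_cancel_right] at this
      simpa [Finset.smul_sum, TensorProduct.smul_tmul', pow_succ'] using this
    rw [Finset.sum_range_succ', pow_zero]
    refine Ideal.add_mem _ ?_ (Ideal.mem_map_of_mem _ h0)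
    rw [show ∑ k ∈ Finset.range N, (X ^ (k + 1) : A[X]) ⊗ₜ[A] b (k + 1) =
      ((X : A[X]) ⊗ₜ[A] (1 : B)) * ∑ k ∈ Finset.range N, (X ^ k : A[X]) ⊗ₜ[A] b (k + 1) by
        simp [Finset.mul_sum, pow_succ']]
    refine Ideal.mul_mem_left _ _ (ih (fun k => b (k + 1)) (mem_kerBC_of_smul_mem (fun c hc => ?_) hrest))
    exact Polynomial.ext fun k => by simpa [hc] using (Polynomial.coeff_X_mul c k).symm

open scoped Classical in
theorem map_ker_eq_kerBC_mvPolynomial (F : _root_.PolLaw.MulLaw A B A d) (n : ℕ) :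
    (_root_.PolLaw.ker F.law).map
        (Algebra.TensorProduct.includeRight : B →ₐ[A] MvPolynomial (Fin n) A ⊗[A] B) =
      _root_.PolLaw.kerBC F.law (MvPolynomial (Fin n) A) := by
  refine le_antisymm (map_ker_le_kerBC F) fun z hz => ?_
  obtain ⟨g, rfl⟩ := coefEquiv.symm.surjective z
  rw [coefEquiv_symm] at hz ⊢
  let N := (g.support.sup fun ν => (Finset.univ : Finset (Fin n)).sup ν) + 1
  let w : (Fin n →₀ ℕ) → ℕ := fun ν => ∑ i, ν i * N ^ (i : ℕ)
  let φ : MvPolynomial (Fin n) A →ₐ[A] A[X] := MvPolynomial.aeval fun i => X ^ N ^ (i : ℕ)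
  have hφ : ∀ ν, φ (MvPolynomial.monomial ν 1) = X ^ w ν := fun ν => by
    simp only [φ, aeval_monomial_one, w, ← pow_mul, Finset.prod_pow_eq_pow_sum, mul_comm]
  have hlt : ∀ ν ∈ g.support, ∀ i, ν i < N := fun ν hν i =>
    Nat.lt_succ_of_le ((Finset.le_sup (f := fun i => ν i) (Finset.mem_univ i)).trans
      (Finset.le_sup (f := fun ν : Fin n →₀ ℕ => (Finset.univ : Finset (Fin n)).sup ν) hν))
  have hinj : Set.InjOn w g.support := by
    intro ν hν μ hμ h
    have : finFunctionFinEquiv (fun i => (⟨ν i, hlt ν hν i⟩ : Fin N)) =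
        finFunctionFinEquiv (fun i => (⟨μ i, hlt μ hμ i⟩ : Fin N)) := Fin.ext (by simpa [w] using h)
    exact Finsupp.ext fun i => congrArg Fin.val (congrFun (finFunctionFinEquiv.injective this) i)
  have hz' := map_mem_kerBC φ hz
  rw [← map_ker_eq_kerBC_polynomial] at hz'
  have hg : ∀ ν ∈ g.support, g ν ∈ _root_.PolLaw.ker F.law := by
    intro ν hν
    have := coord_mem hz' (Polynomial.lcoeff A (w ν))
    rw [map_finsuppSum, map_finsuppSum] at this
    simp only [Algebra.TensorProduct.map_tmul, AlgHom.id_apply, coord_tmul, hφ, Polynomial.lcoeff_apply,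
      Polynomial.coeff_X_pow, Finsupp.sum] at this
    rw [Finset.sum_eq_single ν] at this
    · simpa using this
    · intro μ hμ hne
      rw [if_neg fun h => hne (hinj hμ hν h.symm), zero_smul]
    · exact fun h => absurd hν h
  refine Ideal.sum_mem _ fun ν hν => ?_
  dsimp only
  rw [show MvPolynomial.monomial ν (1 : A) ⊗ₜ[A] g ν =
    (MvPolynomial.monomial ν (1 : A) ⊗ₜ[A] (1 : B)) * (1 ⊗ₜ[A] g ν) by simp]
  exact Ideal.mul_mem_left _ _ (Ideal.mem_map_of_mem _ (hg ν hν))

theorem aeval_chi₀_mem_map (F : _root_.PolLaw.MulLaw A B A d) {A' : Type u} [CommRing A'] [Algebra A A']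
    (z : A' ⊗[A] B) :
    Polynomial.aeval z (chi₀ F z) ∈
      (_root_.PolLaw.ker F.law).map (Algebra.TensorProduct.includeRight : B →ₐ[A] A' ⊗[A] B) := by
  obtain ⟨n, φ, z', rfl⟩ := Extend.rep A' z
  rw [OfPoly.rTensor_eq_map, ← map_aeval_chi₀]
  have h := Ideal.mem_map_of_mem (Algebra.TensorProduct.map φ (AlgHom.id A B))
    (show Polynomial.aeval z' (chi₀ F z') ∈ (_root_.PolLaw.ker F.law).map
      (Algebra.TensorProduct.includeRight : B →ₐ[A] MvPolynomial (Fin n) A ⊗[A] B) by
      rw [map_ker_eq_kerBC_mvPolynomial]; exact aeval_chi₀_mem_kerBC F z')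
  rw [Ideal.map_mapₐ] at h
  convert h using 2
  exact AlgHom.ext fun b => by simp

theorem pow_mem_map (F : _root_.PolLaw.MulLaw A B A d) {A' : Type u} [CommRing A'] [Algebra A A']
    {z : A' ⊗[A] B} (hz : z ∈ _root_.PolLaw.kerBC F.law A') :
    z ^ d ∈ (_root_.PolLaw.ker F.law).map (Algebra.TensorProduct.includeRight : B →ₐ[A] A' ⊗[A] B) :=
  pow_mem_of_mem_kerBC hz (aeval_chi₀_mem_map F z)

theorem radical_kerBC (F : _root_.PolLaw.MulLaw A B A d) (A' : Type u) [CommRing A'] [Algebra A A'] :
    (_root_.PolLaw.kerBC F.law A').radical =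
      ((_root_.PolLaw.ker F.law).map (Algebra.TensorProduct.includeRight : B →ₐ[A] A' ⊗[A] B)).radical := by
  refine le_antisymm ?_ (Ideal.radical_mono (map_ker_le_kerBC F))
  exact Ideal.radical_le_radical_iff.2 fun z hz => ⟨d, pow_mem_map F hz⟩

end Groth.Agent.Lib.PolLaw.BaseChange
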