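import Groth.Agent.Lib.PolLaw.Val

/-!
# The Cayley-Hamilton property and points over algebraically closed fields
-/

universe u

open scoped TensorProduct
open Polynomial

namespace Groth.Agent.Lib.PolLaw.CayleyHamilton

open Coeff Val

variable {A : Type u} [CommRing A] {B C : Type u} [CommRing B] [Algebra A B] [CommRing C] [Algebra A C] {d : ℕ}
variable {R : Type u} [CommRing R] [Algebra A R]

/-- `chi` in the tensor power annihilates each factor. -/
theorem fac_aeval_chi_tpow {P : Type u} [CommRing P] [Algebra A P] (h : (⨂[A] _ : Fin d, P) →ₐ[A] R)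
    (z : R ⊗[A] P) (j : Fin d) :
    fac h j (Polynomial.aeval z (chi (SymTen.tpowLaw A P d) h z)) = 0 := by
  rw [← Polynomial.aeval_algHom_apply, chi_tpow, map_prod]
  exact Finset.prod_eq_zero (Finset.mem_univ j) (by simp)

open scoped Classical in
/-- The identity over `S ⊗ Γ`, for a law which becomes the tensor power law after an injection. -/
theorem key_identity {P Γ S : Type u} [CommRing P] [Algebra A P] [CommRing Γ] [Algebra A Γ] [CommRing S] [Algebra A S]
    [Module.Flat A S] (U : _root_.PolLaw.MulLaw A P Γ d) (jj : Γ →ₐ[A] ⨂[A] _ : Fin d, P)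
    (hj : Function.Injective jj) (hU : _root_.PolLaw.postcomp jj.toLinearMap U.law = (SymTen.tpowLaw A P d).law)
    (px py pw : S ⊗[A] P) :
    let i : S ⊗[A] P →ₐ[A] (S ⊗[A] Γ) ⊗[A] P :=
      Algebra.TensorProduct.map (Algebra.TensorProduct.includeLeft : S →ₐ[A] S ⊗[A] Γ) (AlgHom.id A P)
    val U (Algebra.TensorProduct.includeRight : Γ →ₐ[A] S ⊗[A] Γ)
        (i py + i pw * Polynomial.aeval (i px) (chi U (Algebra.TensorProduct.includeRight : Γ →ₐ[A] S ⊗[A] Γ) (i px))) =
      val U (Algebra.TensorProduct.includeRight : Γ →ₐ[A] S ⊗[A] Γ) (i py) := by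
  intro i
  let iΓ : Γ →ₐ[A] S ⊗[A] Γ := Algebra.TensorProduct.includeRight
  show val U iΓ (i py + i pw * Polynomial.aeval (i px) (chi U iΓ (i px))) = val U iΓ (i py)
  let J : S ⊗[A] Γ →ₐ[A] S ⊗[A] (⨂[A] _ : Fin d, P) := Algebra.TensorProduct.map (AlgHom.id A S) jj
  have hJi : Function.Injective J := by
    intro x y h
    refine Module.Flat.lTensor_preserves_injective_linearMap (M := S) jj.toLinearMap hj ?_
    rw [_root_.PolLaw.lTensor_algHom_apply, _root_.PolLaw.lTensor_algHom_apply]
    exact h
  apply hJi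
  let r : (⨂[A] _ : Fin d, P) →ₐ[A] S ⊗[A] (⨂[A] _ : Fin d, P) := Algebra.TensorProduct.includeRight
  have hJ : J.comp iΓ = r.comp jj := AlgHom.ext fun c => by simp [J, iΓ, r]
  have hval : ∀ z, val U (r.comp jj) z = val (SymTen.tpowLaw A P d) r z :=
    fun z => (val_postcomp U _ jj hU r z).symm
  rw [map_val, map_val, hJ, hval, hval, val_tpow, val_tpow]
  refine Finset.prod_congr rfl fun j _ => ?_
  rw [map_add, map_mul, map_add, map_mul, add_eq_left]
  refine mul_eq_zero_of_right _ ?_
  have haev : Algebra.TensorProduct.map J (AlgHom.id A P) (Polynomial.aeval (i px) (chi U iΓ (i px))) =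
      Polynomial.aeval (Algebra.TensorProduct.map J (AlgHom.id A _) (i px))
        ((chi U iΓ (i px)).map J.toRingHom) := by
    rw [Polynomial.aeval_def, Polynomial.aeval_def, Polynomial.eval₂_map,
      ← AlgHom.coe_toRingHom (Algebra.TensorProduct.map J (AlgHom.id A P)), Polynomial.hom_eval₂]
    congr 1
  rw [haev, chi_map, hJ]
  have hchi : ∀ z, chi U (r.comp jj) z = chi (SymTen.tpowLaw A P d) r z := fun z => by
    rw [chi, chi, ← AlgHom.comp_assoc]
    exact (val_postcomp U _ jj hU _ _).symm
  rw [hchi]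
  exact fac_aeval_chi_tpow r _ j

open scoped Classical in
/-- The Cayley-Hamilton property, relative to a universal law. -/
theorem val_add_mul_aeval_aux {Γ : Type u} [CommRing Γ] [Algebra A Γ]
    (U : _root_.PolLaw.MulLaw A (Universal.Cov A B) Γ d) (jj : Γ →ₐ[A] ⨂[A] _ : Fin d, Universal.Cov A B)
    (hj : Function.Injective jj)
    (hU : _root_.PolLaw.postcomp jj.toLinearMap U.law = (SymTen.tpowLaw A (Universal.Cov A B) d).law)
    (F : _root_.PolLaw.MulLaw A B C d) (cl : Γ →ₐ[A] C)
    (hF : ∀ (R : Type u) [CommRing R] [Algebra A R] (h : C →ₐ[A] R) (z : R ⊗[A] Universal.Cov A B),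
      val F h (Universal.bc R (Universal.proj A B) z) = val U (h.comp cl) z ∧
      chi F h (Universal.bc R (Universal.proj A B) z) = chi U (h.comp cl) z)
    (h : C →ₐ[A] R) (x y w : R ⊗[A] B) :
    val F h (y + w * Polynomial.aeval x (chi F h x)) = val F h y := by
  obtain ⟨n, ψ, x', y', -, hx, hy, -⟩ := OfPoly.lift₂ x y 0
  obtain ⟨m, ψ', w', -, -, hw, -, -⟩ := OfPoly.lift₂ w 0 0
  let χ : MvPolynomial (Fin (n + m)) A →ₐ[A] R :=
    MvPolynomial.aeval (Fin.append (fun i => ψ (MvPolynomial.X i)) fun i => ψ' (MvPolynomial.X i))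
  let l : MvPolynomial (Fin n) A →ₐ[A] MvPolynomial (Fin (n + m)) A := MvPolynomial.rename (Fin.castAdd m)
  let l' : MvPolynomial (Fin m) A →ₐ[A] MvPolynomial (Fin (n + m)) A := MvPolynomial.rename (Fin.natAdd n)
  have hl : χ.comp l = ψ := MvPolynomial.algHom_ext fun i => by simp [χ, l]
  have hl' : χ.comp l' = ψ' := MvPolynomial.algHom_ext fun i => by simp [χ, l']
  have lift : ∀ z : (MvPolynomial (Fin (n + m)) A) ⊗[A] B, ∃ z' : (MvPolynomial (Fin (n + m)) A) ⊗[A] Universal.Cov A B, Universal.bc (MvPolynomial (Fin (n + m)) A) (Universal.proj A B) z' = z := by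
    intro z
    obtain ⟨z', hz'⟩ := LinearMap.lTensor_surjective (MvPolynomial (Fin (n + m)) A)
      (g := (Universal.proj A B).toLinearMap) Universal.proj_surjective z
    exact ⟨z', by rw [← hz', _root_.PolLaw.lTensor_algHom_apply]⟩
  obtain ⟨px, hpx⟩ := lift (l.toLinearMap.rTensor B x')
  obtain ⟨py, hpy⟩ := lift (l.toLinearMap.rTensor B y')
  obtain ⟨pw, hpw⟩ := lift (l'.toLinearMap.rTensor B w')
  let iS : (MvPolynomial (Fin (n + m)) A) →ₐ[A] (MvPolynomial (Fin (n + m)) A ⊗[A] Γ) := Algebra.TensorProduct.includeLeft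
  let iΓ : Γ →ₐ[A] (MvPolynomial (Fin (n + m)) A ⊗[A] Γ) := Algebra.TensorProduct.includeRight
  let i : (MvPolynomial (Fin (n + m)) A) ⊗[A] Universal.Cov A B →ₐ[A] (MvPolynomial (Fin (n + m)) A ⊗[A] Γ) ⊗[A] Universal.Cov A B :=
    Algebra.TensorProduct.map iS (AlgHom.id A _)
  have key : val U iΓ (i py + i pw * Polynomial.aeval (i px) (chi U iΓ (i px))) = val U iΓ (i py) :=
    key_identity U jj hj hU px py pw
  -- specialise
  let φ : (MvPolynomial (Fin (n + m)) A ⊗[A] Γ) →ₐ[A] R := Algebra.TensorProduct.lift χ (h.comp cl) fun _ _ => Commute.all _ _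
  have hφΓ : φ.comp iΓ = h.comp cl := AlgHom.ext fun c => by simp [φ, iΓ]
  have hφS : φ.comp iS = χ := AlgHom.ext fun c => by simp [φ, iS]
  have himg : ∀ (pz : (MvPolynomial (Fin (n + m)) A) ⊗[A] Universal.Cov A B) (k : ℕ) (g : MvPolynomial (Fin k) A →ₐ[A] (MvPolynomial (Fin (n + m)) A))
      (z' : MvPolynomial (Fin k) A ⊗[A] B) (z : R ⊗[A] B),
      Universal.bc (MvPolynomial (Fin (n + m)) A) (Universal.proj A B) pz = g.toLinearMap.rTensor B z' →
      (χ.comp g).toLinearMap.rTensor B z' = z →
      Universal.bc R (Universal.proj A B) (Algebra.TensorProduct.map φ (AlgHom.id A _) (i pz)) = z := by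
    intro pz k g z' z h1 h2
    rw [← h2, AlgHom.comp_toLinearMap, LinearMap.rTensor_comp_apply, ← h1, OfPoly.rTensor_eq_map,
      ← AlgHom.comp_apply (Algebra.TensorProduct.map φ _), ← Algebra.TensorProduct.map_comp, hφS]
    induction pz using TensorProduct.induction_on generalizing z z' with
    | zero => simp
    | tmul s p => simp [Universal.bc]
    | add a b ha hb =>
      simp only [map_add]
      congr 1
      · clear ha hb h1 h2
        induction a using TensorProduct.induction_on with
        | zero => simp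
        | tmul s p => simp [Universal.bc]
        | add a b ha hb => simp only [map_add, ha, hb]
      · clear ha hb h1 h2
        induction b using TensorProduct.induction_on with
        | zero => simp
        | tmul s p => simp [Universal.bc]
        | add a b ha hb => simp only [map_add, ha, hb]
  have ex := himg px n l x' x hpx (by rw [hl, hx])
  have ey := himg py n l y' y hpy (by rw [hl, hy])
  have ew := himg pw m l' w' w hpw (by rw [hl', hw])
  have := congrArg φ key
  rw [map_val, map_val, hφΓ, ← (hF R h _).1, ← (hF R h _).1, map_add, map_add, map_mul, map_mul, ey, ew] at this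
  rw [← this]
  congr 3
  rw [Polynomial.aeval_def, Polynomial.aeval_def,
    ← AlgHom.coe_toRingHom (Algebra.TensorProduct.map φ (AlgHom.id A (Universal.Cov A B))),
    Polynomial.hom_eval₂, ← AlgHom.coe_toRingHom (Universal.bc R (Universal.proj A B)),
    Polynomial.hom_eval₂]
  simp only [AlgHom.coe_toRingHom, ex]
  conv_lhs => rw [← ex, (hF R h _).2, ← hφΓ, ← chi_map, Polynomial.eval₂_map, ex]
  congr 1
  exact RingHom.ext fun t => by simp

/-- The Cayley-Hamilton property of multiplicative laws. -/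
theorem val_add_mul_aeval (F : _root_.PolLaw.MulLaw A B C d) (h : C →ₐ[A] R) (x y w : R ⊗[A] B) :
    val F h (y + w * Polynomial.aeval x (chi F h x)) = val F h y :=
  val_add_mul_aeval_aux (Gamma.univ A (Universal.Cov A B) d) (Tpow.toTensor A (Universal.Cov A B) d)
    (Tpow.toTensor_injective A _ d) (Gamma.postcomp_lift_univ _) F (Universal.classify F)
    (fun R _ _ h z => ⟨val_classify F h z, chi_classify F h z⟩) h x y w

/-- The decomposition of a law over an algebraically closed field into `d` points. -/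
theorem exists_points {K : Type u} [Field K] [IsAlgClosed K] [Algebra A K] (F : _root_.PolLaw.MulLaw A B C d)
    (g : C →ₐ[A] K) :
    ∃ ψ : Fin d → (B →ₐ[A] K), ∀ (R : Type u) [CommRing R] [Algebra A R] (φ : K →ₐ[A] R) (z : R ⊗[A] B),
      val F (φ.comp g) z = ∏ j, evalHom (φ.comp (ψ j)) z := by
  classical
  let P := Universal.Cov A B
  obtain ⟨Ψ₀, hΨ₀⟩ := Universal.exists_extension (Tpow.toTensor A P d).toRingHom
    (Tpow.toTensor_injective A P d) (Universal.toTensor_isIntegral A P d) (g.comp (Universal.classify F)).toRingHom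
  let Ψ : (⨂[A] _ : Fin d, P) →ₐ[A] K :=
    { Ψ₀ with
      commutes' := fun a => by
        rw [← AlgHom.commutes (Tpow.toTensor A P d) a]
        exact (RingHom.congr_fun hΨ₀ _).trans ((g.comp (Universal.classify F)).commutes a) }
  have hΨ : Ψ.comp (Tpow.toTensor A P d) = g.comp (Universal.classify F) :=
    AlgHom.ext fun c => RingHom.congr_fun hΨ₀ c
  let ι : Fin d → (P →ₐ[A] K) := fun j => Ψ.comp (PiTensorProduct.singleAlgHom (A := fun _ : Fin d => P) j)
  have hval : ∀ (R : Type u) [CommRing R] [Algebra A R] (φ : K →ₐ[A] R) (z : R ⊗[A] P),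
      val F (φ.comp g) (Universal.bc R (Universal.proj A B) z) = ∏ j, evalHom (φ.comp (ι j)) z := by
    intro R _ _ φ z
    rw [val_classify, AlgHom.comp_assoc, ← hΨ, ← AlgHom.comp_assoc, val_toTensor, val_tpow]
    refine Finset.prod_congr rfl fun j _ => ?_
    rw [fac, AlgHom.comp_assoc]
  have hker : ∀ (j : Fin d) (p : P), Universal.proj A B p = 0 → ι j p = 0 := by
    intro j p hp
    let r : K := ι j p
    have h1 := hval K (AlgHom.id A K) ((1 : K) ⊗ₜ[A] p - r • 1)
    rw [map_sub, map_smul, map_one, show Universal.bc K (Universal.proj A B) ((1 : K) ⊗ₜ[A] p) = 0 by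
        simp [Universal.bc, hp], zero_sub, ← neg_smul, val_smul, val_one, mul_one] at h1
    rw [Finset.prod_eq_zero (Finset.mem_univ j) (by simp [r])] at h1
    simpa [r] using (pow_eq_zero_iff'.1 h1).1
  refine ⟨fun j => AlgHom.liftOfSurjective (Universal.proj A B) Universal.proj_surjective (ι j) (fun p hp => hker j p hp),
    fun R _ _ φ z => ?_⟩
  obtain ⟨z', hz'⟩ := LinearMap.lTensor_surjective R
    (g := (Universal.proj A B).toLinearMap) Universal.proj_surjective z
  rw [_root_.PolLaw.lTensor_algHom_apply] at hz'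
  rw [← hz', hval R φ z']
  refine Finset.prod_congr rfl fun j _ => ?_
  rw [evalHom_bc]
  congr 2
  exact AlgHom.ext fun p => congrArg φ (AlgHom.liftOfSurjective_apply (Universal.proj A B) Universal.proj_surjective (ι j)
    (fun p hp => hker j p hp) p).symm

end Groth.Agent.Lib.PolLaw.CayleyHamilton
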