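import Groth.Prelude.Def_PolLaw
import Mathlib.LinearAlgebra.TensorProduct.Basis
import Mathlib.RingTheory.MvPolynomial.Basic
import Mathlib.RingTheory.TensorProduct.MvPolynomial
import Mathlib.Algebra.Order.Antidiag.Finsupp
import Mathlib.Algebra.Polynomial.AlgebraMap

/-!
# Coefficients of polynomial laws

For a law `F : M →ₚₗ[A] N` and a finite family `b : ι → M`, the coefficients `coef F b ν` of the value of `F`
at the generic combination `∑ X i ⊗ b i`.
-/

universe u

open scoped TensorProduct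

namespace Groth.Agent.Lib.PolLaw.Coeff

variable {A : Type u} [CommRing A] {M N P : Type u} [AddCommGroup M] [Module A M]
  [AddCommGroup N] [Module A N] [AddCommGroup P] [Module A P]
variable {ι κ : Type}

open scoped Classical in
/-- Coordinates of `A[ι] ⊗ N` along the monomials. -/
noncomputable def coefEquiv : MvPolynomial ι A ⊗[A] N ≃ₗ[A] (ι →₀ ℕ) →₀ N :=
  TensorProduct.equivFinsuppOfBasisLeft (MvPolynomial.basisMonomials ι A)

theorem coefEquiv_tmul (p : MvPolynomial ι A) (c : N) (ν : ι →₀ ℕ) :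
    coefEquiv (p ⊗ₜ[A] c) ν = MvPolynomial.coeff ν p • c := by
  classical
  rw [coefEquiv, TensorProduct.equivFinsuppOfBasisLeft_apply_tmul_apply]
  rfl

theorem coefEquiv_symm (g : (ι →₀ ℕ) →₀ N) :
    coefEquiv.symm g = g.sum fun ν c => MvPolynomial.monomial ν (1 : A) ⊗ₜ[A] c := by
  classical
  rw [coefEquiv, TensorProduct.equivFinsuppOfBasisLeft_symm_apply]
  simp

theorem coefEquiv_lTensor (g : N →ₗ[A] P) (z : MvPolynomial ι A ⊗[A] N) (ν : ι →₀ ℕ) :
    coefEquiv (g.lTensor _ z) ν = g (coefEquiv z ν) := by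
  induction z using TensorProduct.induction_on with
  | zero => simp
  | tmul p c => simp [coefEquiv_tmul]
  | add x y hx hy => simp [hx, hy]

section Fintype

variable [Fintype ι]

theorem monomial_one_eq (ν : ι →₀ ℕ) :
    (∏ i, MvPolynomial.X i ^ ν i : MvPolynomial ι A) = MvPolynomial.monomial ν 1 := by
  rw [MvPolynomial.monomial_eq, map_one, one_mul, Finsupp.prod_fintype _ _ (fun i => pow_zero _)]

theorem aeval_monomial_one {S : Type u} [CommSemiring S] [Algebra A S] (s : ι → S) (ν : ι →₀ ℕ) :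
    MvPolynomial.aeval s (MvPolynomial.monomial ν (1 : A)) = ∏ i, s i ^ ν i := by
  rw [← monomial_one_eq, map_prod]
  simp

theorem rTensor_aeval {S : Type u} [CommSemiring S] [Algebra A S] (s : ι → S)
    (z : MvPolynomial ι A ⊗[A] N) :
    (MvPolynomial.aeval s).toLinearMap.rTensor N z =
      (coefEquiv z).sum fun ν c => (∏ i, s i ^ ν i) ⊗ₜ[A] c := by
  obtain ⟨g, rfl⟩ := coefEquiv.symm.surjective z
  rw [LinearEquiv.apply_symm_apply, coefEquiv_symm, map_finsuppSum]
  simp [aeval_monomial_one]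

/-- The generic combination of a finite family. -/
noncomputable def gen (b : ι → M) : MvPolynomial ι A ⊗[A] M :=
  ∑ i, MvPolynomial.X i ⊗ₜ[A] b i

theorem rTensor_gen {S : Type u} [CommSemiring S] [Algebra A S] (φ : MvPolynomial ι A →ₐ[A] S) (b : ι → M) :
    φ.toLinearMap.rTensor M (gen b) = ∑ i, φ (MvPolynomial.X i) ⊗ₜ[A] b i := by
  simp [gen]

theorem aeval_gen {S : Type u} [CommSemiring S] [Algebra A S] (s : ι → S) (b : ι → M) :
    (MvPolynomial.aeval s).toLinearMap.rTensor M (gen b : MvPolynomial ι A ⊗[A] M) =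
      ∑ i, s i ⊗ₜ[A] b i := by
  simp [rTensor_gen]

theorem lTensor_gen (g : M →ₗ[A] N) (b : ι → M) :
    g.lTensor _ (gen b : MvPolynomial ι A ⊗[A] M) = gen (fun i => g (b i)) := by
  simp [gen]

/-- All coefficients of `F` along the family `b`. -/
noncomputable def coefs (F : M →ₚₗ[A] N) (b : ι → M) : (ι →₀ ℕ) →₀ N :=
  coefEquiv (F.toFun' _ (gen b))

/-- The coefficient of `F` along `b` at the exponent `ν`. -/
noncomputable def coef (F : M →ₚₗ[A] N) (b : ι → M) (ν : ι →₀ ℕ) : N := coefs F b ν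

theorem compat (F : M →ₚₗ[A] N) {S : Type u} [CommSemiring S] [Algebra A S] {S' : Type u}
    [CommSemiring S'] [Algebra A S'] (φ : S →ₐ[A] S') (x : S ⊗[A] M) :
    φ.toLinearMap.rTensor N (F.toFun' S x) = F.toFun' S' (φ.toLinearMap.rTensor M x) :=
  F.isCompat_apply' φ x

theorem expand (F : M →ₚₗ[A] N) {S : Type u} [CommSemiring S] [Algebra A S] (s : ι → S) (b : ι → M) :
    F.toFun' S (∑ i, s i ⊗ₜ[A] b i) = (coefs F b).sum fun ν c => (∏ i, s i ^ ν i) ⊗ₜ[A] c := by
  rw [← aeval_gen s b, ← compat F, rTensor_aeval, coefs]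

/-- The coefficient of the value at a combination with polynomial scalars lies in the span of the coefficients. -/
theorem coefEquiv_apply_mem_span [Fintype κ] (F : M →ₚₗ[A] N) (p : ι → MvPolynomial κ A) (b : ι → M)
    (μ : κ →₀ ℕ) :
    coefEquiv (F.toFun' _ (∑ i, p i ⊗ₜ[A] b i)) μ ∈ Submodule.span A (Set.range (coef F b)) := by
  rw [expand, map_finsuppSum, Finsupp.sum, Finsupp.finsetSum_apply]
  refine Submodule.sum_mem _ fun ν _ => ?_
  rw [coefEquiv_tmul]
  exact Submodule.smul_mem _ _ (Submodule.subset_span ⟨ν, rfl⟩)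

/-- Coefficients along combinations of a family lie in the span of the coefficients along the family. -/
theorem coef_mem_span_of_mem_span [Fintype κ] (F : M →ₚₗ[A] N) (b : ι → M) (b' : κ → M)
    (h : ∀ k, b' k ∈ Submodule.span A (Set.range b)) (μ : κ →₀ ℕ) :
    coef F b' μ ∈ Submodule.span A (Set.range (coef F b)) := by
  choose L hL using fun k => (Submodule.mem_span_range_iff_exists_fun A).1 (h k)
  have hgen : gen b' = ∑ i, (∑ k, L k i • MvPolynomial.X k : MvPolynomial κ A) ⊗ₜ[A] b i := by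
    simp only [gen, TensorProduct.sum_tmul, ← hL, TensorProduct.tmul_sum, TensorProduct.smul_tmul]
    rw [Finset.sum_comm]
  rw [coef, coefs, hgen]
  exact coefEquiv_apply_mem_span F _ b μ

omit [Fintype ι] in
theorem exists_rep {S : Type u} [CommSemiring S] [Algebra A S] (x : S ⊗[A] M) :
    ∃ (n : ℕ) (s : Fin n → S) (b : Fin n → M), x = ∑ i, s i ⊗ₜ[A] b i := by
  induction x using TensorProduct.induction_on with
  | zero => exact ⟨0, Fin.elim0, Fin.elim0, by simp⟩
  | tmul a m => exact ⟨1, ![a], ![m], by simp⟩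
  | add x y hx hy =>
    obtain ⟨n, s, b, rfl⟩ := hx
    obtain ⟨m, t, c, rfl⟩ := hy
    exact ⟨n + m, Fin.append s t, Fin.append b c, by simp [Fin.sum_univ_add]⟩

omit [Fintype ι] in
/-- Two laws with the same coefficients are equal. -/
theorem ext_coef {F G : M →ₚₗ[A] N}
    (h : ∀ (n : ℕ) (b : Fin n → M), coefs F b = coefs G b) : F = G := by
  ext S _ _ x
  obtain ⟨n, s, b, rfl⟩ := exists_rep x
  rw [expand, expand, h]

omit [Fintype ι] in
/-- Two laws which agree on the polynomial rings in finitely many variables are equal. -/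
theorem ext_poly {F G : M →ₚₗ[A] N}
    (h : ∀ (n : ℕ) (z : MvPolynomial (Fin n) A ⊗[A] M), F.toFun' _ z = G.toFun' _ z) : F = G :=
  ext_coef fun n b => by rw [coefs, coefs, h]

omit [Fintype ι] in
/-- Two elements of an extension of scalars, and a scalar, lift to one polynomial ring. -/
theorem exists_lift₂ {S : Type u} [CommSemiring S] [Algebra A S] (x y : S ⊗[A] M) (a : S) :
    ∃ (n : ℕ) (φ : MvPolynomial (Fin n) A →ₐ[A] S) (x' y' : MvPolynomial (Fin n) A ⊗[A] M)
      (a' : MvPolynomial (Fin n) A), φ.toLinearMap.rTensor M x' = x ∧ φ.toLinearMap.rTensor M y' = y ∧ φ a' = a := by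
  obtain ⟨n, s, b, rfl⟩ := exists_rep x
  obtain ⟨m, t, c, rfl⟩ := exists_rep y
  refine ⟨n + m + 1, MvPolynomial.aeval (Fin.append (Fin.append s t) ![a]),
    ∑ i, MvPolynomial.X (Fin.castAdd 1 (Fin.castAdd m i)) ⊗ₜ[A] b i,
    ∑ i, MvPolynomial.X (Fin.castAdd 1 (Fin.natAdd n i)) ⊗ₜ[A] c i,
    MvPolynomial.X (Fin.natAdd (n + m) 0), ?_, ?_, ?_⟩ <;> simp

/-! ### Functoriality -/

theorem coef_postcomp {M N P : Type u} [AddCommGroup M] [Module A M] [AddCommGroup N] [Module A N]
    [AddCommGroup P] [Module A P] (g : N →ₗ[A] P) (F : M →ₚₗ[A] N) (b : ι → M) (ν : ι →₀ ℕ) :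
    coef (_root_.PolLaw.postcomp g F) b ν = g (coef F b ν) := by
  rw [coef, coefs, coef, coefs, ← coefEquiv_lTensor]
  rfl

theorem coef_precomp {M N P : Type u} [AddCommGroup M] [Module A M] [AddCommGroup N] [Module A N]
    [AddCommGroup P] [Module A P] (F : N →ₚₗ[A] P) (g : M →ₗ[A] N) (b : ι → M) (ν : ι →₀ ℕ) :
    coef (_root_.PolLaw.precomp F g) b ν = coef F (fun i => g (b i)) ν := by
  rw [coef, coefs, coef, coefs, ← lTensor_gen]
  rfl

/-! ### Homogeneity -/

open Polynomial in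
theorem coef_eq_zero_of_sum_ne {F : M →ₚₗ[A] N} {d : ℕ} (hF : _root_.PolLaw.IsHomog F d) (b : ι → M)
    (ν : ι →₀ ℕ) (hν : ∑ i, ν i ≠ d) : coef F b ν = 0 := by
  classical
  have key := hF (Polynomial (MvPolynomial ι A)) Polynomial.X (∑ i, C (MvPolynomial.X i) ⊗ₜ[A] b i)
  simp only [Finset.smul_sum, TensorProduct.smul_tmul', smul_eq_mul] at key
  rw [expand, expand, Finsupp.smul_sum] at key
  let e : Polynomial (MvPolynomial ι A) →ₗ[A] MvPolynomial ι A :=
    (Polynomial.lcoeff (MvPolynomial ι A) (∑ i, ν i)).restrictScalars A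
  have he : ∀ (m : ℕ) (μ : ι →₀ ℕ), e (X ^ m * ∏ i, C (MvPolynomial.X i : MvPolynomial ι A) ^ μ i) =
      if m = ∑ i, ν i then MvPolynomial.monomial μ 1 else 0 := by
    intro m μ
    simp only [e, LinearMap.coe_restrictScalars, Polynomial.lcoeff_apply]
    simp_rw [← map_pow, ← map_prod, monomial_one_eq]
    rw [mul_comm, Polynomial.coeff_C_mul_X_pow]
    simp [eq_comm]
  have key2 := congrArg (fun z => coefEquiv (e.rTensor N z) ν) key
  simp only [map_finsuppSum, map_sum, LinearMap.rTensor_tmul, TensorProduct.smul_tmul', smul_eq_mul,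
    mul_pow, Finset.prod_mul_distrib, Finset.prod_pow_eq_pow_sum, he, Finsupp.sum,
    Finsupp.finsetSum_apply, coefEquiv_tmul] at key2
  rw [Finset.sum_eq_single ν (by
      intro μ _ hμ
      split_ifs <;> simp [MvPolynomial.coeff_monomial, hμ]) (by simp),
    if_pos rfl, MvPolynomial.coeff_monomial, if_pos rfl, one_smul] at key2
  simp only [hν.symm, if_false, MvPolynomial.coeff_zero, zero_smul, Finset.sum_const_zero] at key2
  exact key2

open scoped Classical in
/-- The exponents of total degree `d`. -/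
noncomputable def degSet (ι : Type) [Fintype ι] (d : ℕ) : Finset (ι →₀ ℕ) :=
  (Finset.univ : Finset ι).finsuppAntidiag d

@[simp] theorem mem_degSet {d : ℕ} {ν : ι →₀ ℕ} : ν ∈ degSet ι d ↔ ∑ i, ν i = d := by
  classical
  simp [degSet, Finset.mem_finsuppAntidiag]

theorem support_coefs {F : M →ₚₗ[A] N} {d : ℕ} (hF : _root_.PolLaw.IsHomog F d) (b : ι → M) :
    (coefs F b).support ⊆ degSet ι d := fun ν hν => by
  rw [mem_degSet]
  by_contra h
  exact Finsupp.mem_support_iff.1 hν (coef_eq_zero_of_sum_ne hF b ν h)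

theorem expand_homog {F : M →ₚₗ[A] N} {d : ℕ} (hF : _root_.PolLaw.IsHomog F d) {S : Type u}
    [CommSemiring S] [Algebra A S] (s : ι → S) (b : ι → M) :
    F.toFun' S (∑ i, s i ⊗ₜ[A] b i) = ∑ ν ∈ degSet ι d, (∏ i, s i ^ ν i) ⊗ₜ[A] coef F b ν := by
  rw [expand, Finsupp.sum_of_support_subset _ (support_coefs hF b) _ (by simp)]
  rfl

end Fintype

/-! ### Multiplicativity -/

section Mult

variable {B C : Type u} [CommRing B] [Algebra A B] [CommRing C] [Algebra A C]

open scoped Classical in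
theorem coef_mul_mem_span [Fintype ι] [Fintype κ] {F : B →ₚₗ[A] C} (hF : _root_.PolLaw.IsMult F)
    (b : ι → B) (b' : κ → B) (ν : ι →₀ ℕ) (μ : κ →₀ ℕ) :
    coef F b ν * coef F b' μ ∈
      Submodule.span A (Set.range (coef F fun p : ι × κ => b p.1 * b' p.2)) := by
  let ξ : ι → MvPolynomial (ι ⊕ κ) A := fun i => MvPolynomial.X (Sum.inl i)
  let η : κ → MvPolynomial (ι ⊕ κ) A := fun k => MvPolynomial.X (Sum.inr k)
  have hprod : (∑ i, ξ i ⊗ₜ[A] b i) * (∑ k, η k ⊗ₜ[A] b' k) =
      ∑ p : ι × κ, (ξ p.1 * η p.2) ⊗ₜ[A] (b p.1 * b' p.2) := by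
    simp [Finset.sum_mul_sum, Fintype.sum_prod_type]
  let τ : ι ⊕ κ →₀ ℕ := Finsupp.sumElim ν μ
  have hmem := coefEquiv_apply_mem_span F (fun p : ι × κ => ξ p.1 * η p.2) (fun p => b p.1 * b' p.2) τ
  rw [← hprod, (hF (MvPolynomial (ι ⊕ κ) A)).2, expand, expand, Finsupp.sum_mul] at hmem
  simp only [Finsupp.mul_sum, Algebra.TensorProduct.tmul_mul_tmul] at hmem
  have hmon : ∀ (ν' : ι →₀ ℕ) (μ' : κ →₀ ℕ), (∏ i, ξ i ^ ν' i) * (∏ k, η k ^ μ' k) =
      MvPolynomial.monomial (Finsupp.sumElim ν' μ') (1 : A) := by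
    intro ν' μ'
    rw [← monomial_one_eq, Fintype.prod_sum_type]
    rfl
  simp only [hmon, map_finsuppSum, map_sum, Finsupp.sum, Finsupp.finsetSum_apply, coefEquiv_tmul,
    MvPolynomial.coeff_monomial] at hmem
  rw [Finset.sum_eq_single ν, Finset.sum_eq_single μ, if_pos rfl, one_smul] at hmem
  · exact hmem
  · intro μ' _ hμ'
    rw [if_neg, zero_smul]
    intro h
    exact hμ' (Finsupp.ext fun k => by simpa [τ] using DFunLike.congr_fun h (Sum.inr k))
  · intro h
    simp [Finsupp.notMem_support_iff.1 h]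
  · intro ν' _ hν'
    refine Finset.sum_eq_zero fun μ' _ => ?_
    rw [if_neg, zero_smul]
    intro h
    exact hν' (Finsupp.ext fun i => by simpa [τ] using DFunLike.congr_fun h (Sum.inl i))
  · intro h
    simp [Finsupp.notMem_support_iff.1 h]

/-- The span of all coefficients of a law. -/
noncomputable def coefSpan (F : M →ₚₗ[A] N) : Submodule A N :=
  Submodule.span A {c | ∃ (n : ℕ) (b : Fin n → M) (ν : Fin n →₀ ℕ), c = coef F b ν}

theorem coef_mem_coefSpan [Fintype ι] (F : M →ₚₗ[A] N) (b : ι → M) (ν : ι →₀ ℕ) :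
    coef F b ν ∈ coefSpan F := by
  refine Submodule.span_le.2 ?_ (coef_mem_span_of_mem_span F (b ∘ (Fintype.equivFin ι).symm) b
    (fun i => Submodule.subset_span ⟨Fintype.equivFin ι i, by simp⟩) ν)
  rintro _ ⟨μ, rfl⟩
  exact Submodule.subset_span ⟨_, _, μ, rfl⟩

theorem one_mem_coefSpan {F : B →ₚₗ[A] C} (hF : _root_.PolLaw.IsMult F) : (1 : C) ∈ coefSpan F := by
  have h := congrArg (TensorProduct.lid A C) (expand F (fun _ : Fin 1 => (1 : A)) (fun _ => (1 : B)))
  simp only [Finset.univ_unique, Finset.sum_singleton, TensorProduct.lid_tmul, one_smul,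
    map_finsuppSum, one_pow, Finset.prod_const_one] at h
  rw [← Algebra.TensorProduct.one_def, (hF A).1, Algebra.TensorProduct.one_def,
    TensorProduct.lid_tmul, one_smul] at h
  rw [h]
  exact Submodule.sum_mem _ fun ν _ => coef_mem_coefSpan F (fun _ : Fin 1 => (1 : B)) ν

theorem mul_mem_coefSpan {F : B →ₚₗ[A] C} (hF : _root_.PolLaw.IsMult F) {x y : C} (hx : x ∈ coefSpan F)
    (hy : y ∈ coefSpan F) : x * y ∈ coefSpan F := by
  refine Submodule.span_induction₂ (p := fun a b _ _ => a * b ∈ coefSpan F) ?_ (fun _ _ => ?_) (fun _ _ => ?_) ?_ ?_ ?_ ?_ hx hy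
  · rintro _ _ ⟨n, b, ν, rfl⟩ ⟨m, b', μ, rfl⟩
    refine Submodule.span_le.2 ?_ (coef_mul_mem_span hF b b' ν μ)
    rintro _ ⟨τ, rfl⟩
    exact coef_mem_coefSpan F _ τ
  · rw [zero_mul]; exact Submodule.zero_mem _
  · rw [mul_zero]; exact Submodule.zero_mem _
  · intro x y z _ _ _ h1 h2
    rw [add_mul]
    exact add_mem h1 h2
  · intro x y z _ _ _ h1 h2
    rw [mul_add]
    exact add_mem h1 h2
  · intro a x y _ _ h
    rw [smul_mul_assoc]
    exact Submodule.smul_mem _ _ h
  · intro a x y _ _ h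
    rw [mul_smul_comm]
    exact Submodule.smul_mem _ _ h

/-- The coefficient subalgebra of a multiplicative law. -/
noncomputable def coefAlg (F : B →ₚₗ[A] C) (hF : _root_.PolLaw.IsMult F) : Subalgebra A C :=
  (coefSpan F).toSubalgebra (one_mem_coefSpan hF) (fun _ _ hx hy => mul_mem_coefSpan hF hx hy)

theorem mem_coefAlg (F : B →ₚₗ[A] C) (hF : _root_.PolLaw.IsMult F) (c : C) :
    c ∈ coefAlg F hF ↔ c ∈ coefSpan F := Iff.rfl

end Mult

end Groth.Agent.Lib.PolLaw.Coeff
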