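import Groth.Agent.Lib.PolLaw.FiniteType
import Mathlib.RingTheory.Extension.Presentation.Core
import Mathlib.RingTheory.RingHom.FinitePresentation

/-!
# Divided powers commute with base change, and finite presentation
-/

universe u

open scoped TensorProduct

namespace Groth.Agent.Lib.PolLaw.Descent

open Coeff

variable (A₀ A : Type u) [CommRing A₀] [CommRing A] [Algebra A₀ A]

section Iso

variable (S X : Type u) [CommSemiring S] [Algebra A₀ S] [CommRing X] [Algebra A X] [Algebra A₀ X] [IsScalarTower A₀ A X]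

/-- `(A ⊗ S) ⊗ X ≃ S ⊗ X`. -/
noncomputable def flat : (A ⊗[A₀] S) ⊗[A] X ≃+* S ⊗[A₀] X :=
  (Algebra.TensorProduct.comm A (A ⊗[A₀] S) X).toRingEquiv.trans
    ((Algebra.TensorProduct.cancelBaseChange A₀ A A X S).toRingEquiv.trans
      (Algebra.TensorProduct.comm A₀ X S).toRingEquiv)

variable {A₀ A S X}

theorem flat_tmul (a : A) (s : S) (c : X) : flat A₀ A S X ((a ⊗ₜ[A₀] s) ⊗ₜ[A] c) = s ⊗ₜ[A₀] (a • c) := by
  simp [flat]

theorem flat_symm_tmul (s : S) (c : X) : (flat A₀ A S X).symm (s ⊗ₜ[A₀] c) = ((1 : A) ⊗ₜ[A₀] s) ⊗ₜ[A] c := by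
  rw [RingEquiv.symm_apply_eq, flat_tmul, one_smul]

theorem flat_smul (r : S) (y : (A ⊗[A₀] S) ⊗[A] X) :
    flat A₀ A S X (((1 : A) ⊗ₜ[A₀] r) • y) = r • flat A₀ A S X y := by
  induction y using TensorProduct.induction_on with
  | zero => simp only [smul_zero, map_zero]
  | add u v hu hv => rw [smul_add, map_add, hu, hv, map_add, smul_add]
  | tmul z c =>
    induction z using TensorProduct.induction_on with
    | zero => simp only [TensorProduct.zero_tmul, smul_zero, map_zero]
    | add u v hu hv => rw [TensorProduct.add_tmul, smul_add, map_add, hu, hv, map_add, smul_add]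
    | tmul a s =>
      rw [TensorProduct.smul_tmul', smul_eq_mul, Algebra.TensorProduct.tmul_mul_tmul, one_mul, flat_tmul, flat_tmul,
        TensorProduct.smul_tmul', smul_eq_mul]

theorem flat_symm_smul (r : S) (y : S ⊗[A₀] X) :
    (flat A₀ A S X).symm (r • y) = ((1 : A) ⊗ₜ[A₀] r) • (flat A₀ A S X).symm y := by
  rw [RingEquiv.symm_apply_eq, flat_smul, RingEquiv.apply_symm_apply]

theorem flat_natural {S' : Type u} [CommSemiring S'] [Algebra A₀ S'] (φ : S →ₐ[A₀] S') (y : (A ⊗[A₀] S) ⊗[A] X) :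
    φ.toLinearMap.rTensor X (flat A₀ A S X y) =
      flat A₀ A S' X ((Algebra.TensorProduct.map (AlgHom.id A A) φ).toLinearMap.rTensor X y) := by
  induction y using TensorProduct.induction_on with
  | zero => simp only [map_zero]
  | add u v hu hv => simp only [map_add, hu, hv]
  | tmul z c =>
    induction z using TensorProduct.induction_on with
    | zero => simp only [TensorProduct.zero_tmul, map_zero]
    | add u v hu hv => simp only [TensorProduct.add_tmul, map_add, hu, hv]
    | tmul a s => simp [flat_tmul]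

end Iso

variable {A₀ A}
variable {B₀ : Type u} [CommRing B₀] [Algebra A₀ B₀] {B : Type u} [CommRing B] [Algebra A B] [Algebra A₀ B]
  [IsScalarTower A₀ A B] {C : Type u} [CommRing C] [Algebra A C] [Algebra A₀ C] [IsScalarTower A₀ A C] {d : ℕ}

/-- Restriction of a law along `A₀ → A`. -/
theorem exists_res (F : _root_.PolLaw.MulLaw A B C d) (j : B₀ →ₐ[A₀] B) :
    ∃ G : _root_.PolLaw.MulLaw A₀ B₀ C d, ∀ (n : ℕ) (b : Fin n → B₀) (ν : Fin n →₀ ℕ),
      coef G.law b ν = coef F.law (fun i => j (b i)) ν := by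
  let Ψ : ∀ (S : Type u) [CommSemiring S] [Algebra A₀ S], (S ⊗[A₀] B₀ →+* (A ⊗[A₀] S) ⊗[A] B) := fun S _ _ =>
    ((flat A₀ A S B).symm : S ⊗[A₀] B →+* _).comp (Algebra.TensorProduct.map (AlgHom.id A₀ S) j).toRingHom
  have hΨ : ∀ (S : Type u) [CommSemiring S] [Algebra A₀ S] (s : S) (b : B₀),
      Ψ S (s ⊗ₜ[A₀] b) = ((1 : A) ⊗ₜ[A₀] s) ⊗ₜ[A] j b := fun S _ _ s b => by simp [Ψ, flat_symm_tmul]
  let G : B₀ →ₚₗ[A₀] C :=
    { toFun' := fun S _ _ x => flat A₀ A S C (F.law.toFun' (A ⊗[A₀] S) (Ψ S x))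
      isCompat' := fun {S} _ _ {S'} _ _ φ => by
        funext x
        simp only [Function.comp_apply]
        rw [flat_natural, compat]
        congr 2
        induction x using TensorProduct.induction_on with
        | zero => simp only [map_zero]
        | add u v hu hv => simp only [map_add, hu, hv]
        | tmul s b => simp [hΨ] }
  refine ⟨⟨G, fun S _ _ r x => ?_, fun S _ _ => ⟨?_, fun x y => ?_⟩⟩, fun n b ν => ?_⟩
  · show flat A₀ A S C (F.law.toFun' _ (Ψ S (r • x))) = r ^ d • flat A₀ A S C (F.law.toFun' _ (Ψ S x))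
    have e : Ψ S (r • x) = ((1 : A) ⊗ₜ[A₀] r) • Ψ S x := by
      induction x using TensorProduct.induction_on with
      | zero => simp only [smul_zero, map_zero]
      | add u v hu hv => rw [smul_add, map_add, hu, hv, map_add, smul_add]
      | tmul s b =>
        rw [TensorProduct.smul_tmul', hΨ, hΨ, TensorProduct.smul_tmul', smul_eq_mul, smul_eq_mul,
          Algebra.TensorProduct.tmul_mul_tmul, one_mul]
    rw [e, F.homog, Algebra.TensorProduct.tmul_pow, one_pow, flat_smul]
  · show flat A₀ A S C (F.law.toFun' _ (Ψ S 1)) = 1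
    rw [map_one, (F.mult _).1, map_one]
  · show flat A₀ A S C (F.law.toFun' _ (Ψ S (x * y))) = flat A₀ A S C (F.law.toFun' _ (Ψ S x)) * flat A₀ A S C (F.law.toFun' _ (Ψ S y))
    rw [map_mul, (F.mult _).2, map_mul]
  · show coefEquiv (flat A₀ A _ C (F.law.toFun' _ (Ψ _ (gen b)))) ν = _
    rw [gen, map_sum]
    simp only [hΨ]
    rw [expand_homog F.homog, map_sum, map_sum, Finsupp.finsetSum_apply]
    have hterm : ∀ μ : Fin n →₀ ℕ, (∏ i, ((1 : A) ⊗ₜ[A₀] (MvPolynomial.X i : MvPolynomial (Fin n) A₀)) ^ μ i) =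
        (1 : A) ⊗ₜ[A₀] MvPolynomial.monomial μ (1 : A₀) := fun μ => by
      rw [← monomial_one_eq, ← Algebra.TensorProduct.includeRight_apply, map_prod]
      simp [Algebra.TensorProduct.includeRight_apply]
    simp only [hterm, flat_tmul, one_smul, coefEquiv_tmul, MvPolynomial.coeff_monomial, ite_smul, zero_smul]
    rw [Finset.sum_ite_eq' (degSet (Fin n) d) ν]
    split_ifs with h
    · rfl
    · exact (coef_eq_zero_of_sum_ne F.homog _ _ fun h' => h (mem_degSet.2 h')).symm

omit [Algebra A₀ B] [IsScalarTower A₀ A B] [Algebra A₀ C] [IsScalarTower A₀ A C] in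
/-- Extension of a law along `A₀ → A`. -/
theorem exists_ext {C₀ : Type u} [CommRing C₀] [Algebra A₀ C₀] (F : _root_.PolLaw.MulLaw A₀ B₀ C₀ d) :
    ∃ G : _root_.PolLaw.MulLaw A (A ⊗[A₀] B₀) (A ⊗[A₀] C₀) d, ∀ (n : ℕ) (b : Fin n → B₀) (ν : Fin n →₀ ℕ),
      coef G.law (fun i => (1 : A) ⊗ₜ[A₀] b i) ν = (1 : A) ⊗ₜ[A₀] coef F.law b ν := by
  let G : A ⊗[A₀] B₀ →ₚₗ[A] A ⊗[A₀] C₀ :=
    { toFun' := fun S _ _ x =>
        letI : Algebra A₀ S := Algebra.compHom S (algebraMap A₀ A)
        haveI : IsScalarTower A₀ A S := IsScalarTower.of_algebraMap_eq fun _ => rfl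
        (Algebra.TensorProduct.cancelBaseChange A₀ A S S C₀).symm
          (F.law.toFun' S (Algebra.TensorProduct.cancelBaseChange A₀ A S S B₀ x))
      isCompat' := fun {S} _ _ {S'} _ _ φ => by
        letI : Algebra A₀ S := Algebra.compHom S (algebraMap A₀ A)
        haveI : IsScalarTower A₀ A S := IsScalarTower.of_algebraMap_eq fun _ => rfl
        letI : Algebra A₀ S' := Algebra.compHom S' (algebraMap A₀ A)
        haveI : IsScalarTower A₀ A S' := IsScalarTower.of_algebraMap_eq fun _ => rfl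
        funext x
        simp only [Function.comp_apply]
        have hB : (φ.restrictScalars A₀).toLinearMap.rTensor B₀ (Algebra.TensorProduct.cancelBaseChange A₀ A S S B₀ x) =
            Algebra.TensorProduct.cancelBaseChange A₀ A S' S' B₀ (φ.toLinearMap.rTensor (A ⊗[A₀] B₀) x) := by
          induction x using TensorProduct.induction_on with
          | zero => simp only [map_zero]
          | add u v hu hv => simp only [map_add, hu, hv]
          | tmul s z =>
            induction z using TensorProduct.induction_on with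
            | zero => simp only [TensorProduct.tmul_zero, map_zero]
            | add u v hu hv => simp only [TensorProduct.tmul_add, map_add, hu, hv]
            | tmul a b => simp
        have hC : ∀ y, φ.toLinearMap.rTensor (A ⊗[A₀] C₀) ((Algebra.TensorProduct.cancelBaseChange A₀ A S S C₀).symm y) =
            (Algebra.TensorProduct.cancelBaseChange A₀ A S' S' C₀).symm ((φ.restrictScalars A₀).toLinearMap.rTensor C₀ y) := by
          intro y
          induction y using TensorProduct.induction_on with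
          | zero => simp only [map_zero]
          | add u v hu hv => simp only [map_add, hu, hv]
          | tmul s c => simp
        rw [hC, compat, hB] }
  refine ⟨⟨G, fun S _ _ r x => ?_, fun S _ _ => ?_⟩, fun n b ν => ?_⟩
  · letI : Algebra A₀ S := Algebra.compHom S (algebraMap A₀ A)
    haveI : IsScalarTower A₀ A S := IsScalarTower.of_algebraMap_eq fun _ => rfl
    show (Algebra.TensorProduct.cancelBaseChange A₀ A S S C₀).symm (F.law.toFun' S (Algebra.TensorProduct.cancelBaseChange A₀ A S S B₀ (r • x))) = _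
    rw [map_smul, F.homog, map_smul]
  · letI : Algebra A₀ S := Algebra.compHom S (algebraMap A₀ A)
    haveI : IsScalarTower A₀ A S := IsScalarTower.of_algebraMap_eq fun _ => rfl
    refine ⟨?_, fun x y => ?_⟩
    · show (Algebra.TensorProduct.cancelBaseChange A₀ A S S C₀).symm (F.law.toFun' S (Algebra.TensorProduct.cancelBaseChange A₀ A S S B₀ 1)) = 1
      rw [map_one, (F.mult S).1, map_one]
    · show (Algebra.TensorProduct.cancelBaseChange A₀ A S S C₀).symm (F.law.toFun' S (Algebra.TensorProduct.cancelBaseChange A₀ A S S B₀ (x * y))) = _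
      rw [map_mul, (F.mult S).2, map_mul]
  · letI : Algebra A₀ (MvPolynomial (Fin n) A) := Algebra.compHom _ (algebraMap A₀ A)
    haveI : IsScalarTower A₀ A (MvPolynomial (Fin n) A) := IsScalarTower.of_algebraMap_eq fun _ => rfl
    show coefEquiv ((Algebra.TensorProduct.cancelBaseChange A₀ A (MvPolynomial (Fin n) A) (MvPolynomial (Fin n) A) C₀).symm
      (F.law.toFun' _ (Algebra.TensorProduct.cancelBaseChange A₀ A (MvPolynomial (Fin n) A) (MvPolynomial (Fin n) A) B₀
        (gen fun i => (1 : A) ⊗ₜ[A₀] b i)))) ν = _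
    rw [gen, map_sum]
    simp only [Algebra.TensorProduct.cancelBaseChange_tmul, one_smul]
    rw [expand_homog F.homog, map_sum, map_sum, Finsupp.finsetSum_apply]
    simp only [Algebra.TensorProduct.cancelBaseChange_symm_tmul, monomial_one_eq, coefEquiv_tmul,
      MvPolynomial.coeff_monomial, ite_smul, one_smul, zero_smul]
    rw [Finset.sum_ite_eq' (degSet (Fin n) d) ν]
    split_ifs with h
    · rfl
    · rw [coef_eq_zero_of_sum_ne F.homog _ _ fun h' => h (mem_degSet.2 h'), TensorProduct.tmul_zero]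

theorem nonempty_algEquiv {C₀ : Type u} [CommRing C₀] [Algebra A₀ C₀] {γ₀ : _root_.PolLaw.MulLaw A₀ B₀ C₀ d}
    (hγ₀ : _root_.PolLaw.IsGammaD γ₀) (e : A ⊗[A₀] B₀ ≃ₐ[A] B) {γ : _root_.PolLaw.MulLaw A B C d}
    (hγ : _root_.PolLaw.IsGammaD γ) : Nonempty ((A ⊗[A₀] C₀) ≃ₐ[A] C) := by
  classical
  let j : B₀ →ₐ[A₀] B := (e.toAlgHom.restrictScalars A₀).comp Algebra.TensorProduct.includeRight
  obtain ⟨Fr, hFr⟩ := exists_res γ j
  obtain ⟨u₀, hu₀, -⟩ := hγ₀ C Fr
  obtain ⟨Fe, hFe⟩ := exists_ext (A := A) γ₀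
  obtain ⟨g, hg, -⟩ := hγ (A ⊗[A₀] C₀) (Fe.precomp e.symm.toAlgHom)
  let v : A ⊗[A₀] C₀ →ₐ[A] C := Algebra.TensorProduct.lift (Algebra.ofId A C) u₀ fun _ _ => Commute.all _ _
  have hg' : ∀ (n : ℕ) (b : Fin n → B₀) (ν : Fin n →₀ ℕ), g (coef γ.law (fun i => j (b i)) ν) = (1 : A) ⊗ₜ[A₀] coef γ₀.law b ν := by
    intro n b ν
    rw [Gamma.apply_coef hg, show coef (Fe.precomp e.symm.toAlgHom).law (fun i => j (b i)) ν =
      coef Fe.law (fun i => e.symm (j (b i))) ν from coef_precomp _ _ _ _, ← hFe]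
    simp [j]
  have hv : ∀ (n : ℕ) (b : Fin n → B₀) (ν : Fin n →₀ ℕ), v ((1 : A) ⊗ₜ[A₀] coef γ₀.law b ν) = coef γ.law (fun i => j (b i)) ν := by
    intro n b ν
    rw [Algebra.TensorProduct.lift_tmul, map_one, one_mul, Gamma.apply_coef hu₀, hFr]
  have h1 : v.comp g = AlgHom.id A C := by
    refine Gamma.hom_ext hγ fun n b ν => ?_
    choose m s c hc using fun k => exists_rep (e.symm (b k))
    let ι := Σ k, Fin (m k)
    let N := Fintype.card ι
    let r : Fin N ≃ ι := (Fintype.equivFin ι).symm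
    let w : Fin N → B₀ := fun t => c (r t).1 (r t).2
    have hb : ∀ k, b k ∈ Submodule.span A (Set.range fun t => j (w t)) := by
      intro k
      rw [show b k = ∑ i, s k i • j (c k i) by
        conv_lhs => rw [← e.apply_symm_apply (b k), hc k, map_sum]
        refine Finset.sum_congr rfl fun i _ => ?_
        rw [show s k i ⊗ₜ[A₀] c k i = s k i • ((1 : A) ⊗ₜ[A₀] c k i) by simp [TensorProduct.smul_tmul'], map_smul]
        rfl]
      refine Submodule.sum_mem _ fun i _ => Submodule.smul_mem _ _ (Submodule.subset_span ⟨r.symm ⟨k, i⟩, ?_⟩)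
      show j (w (r.symm ⟨k, i⟩)) = _
      simp only [w]
      rw [r.apply_symm_apply]
    have hmem := coef_mem_span_of_mem_span γ.law (fun t => j (w t)) b hb ν
    refine LinearMap.eqOn_span (f := (v.comp g).toLinearMap) (g := (AlgHom.id A C).toLinearMap) ?_ hmem
    rintro _ ⟨μ, rfl⟩
    show v (g _) = _
    rw [hg', hv]
    rfl
  have h2 : g.comp v = AlgHom.id A (A ⊗[A₀] C₀) := by
    refine Algebra.TensorProduct.ext (by ext) ?_
    apply Gamma.hom_ext hγ₀
    intro n b ν
    show g (v ((1 : A) ⊗ₜ[A₀] coef γ₀.law b ν)) = (1 : A) ⊗ₜ[A₀] coef γ₀.law b ν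
    rw [hv, hg']
  exact ⟨AlgEquiv.ofAlgHom v g h1 h2⟩

theorem finitePresentation [IsNoetherianRing A₀] [Algebra.FiniteType A₀ B₀] (e : A ⊗[A₀] B₀ ≃ₐ[A] B)
    {γ : _root_.PolLaw.MulLaw A B C d} (hγ : _root_.PolLaw.IsGammaD γ) : Algebra.FinitePresentation A C := by
  have hft : Algebra.FiniteType A₀ (Gamma.Alg A₀ B₀ d) := FiniteType.finiteType (Gamma.isGammaD_univ A₀ B₀ d)
  have hfp : Algebra.FinitePresentation A₀ (Gamma.Alg A₀ B₀ d) := Algebra.FinitePresentation.of_finiteType.1 hft
  obtain ⟨E⟩ := nonempty_algEquiv (Gamma.isGammaD_univ A₀ B₀ d) e hγ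
  exact Algebra.FinitePresentation.equiv E

end Groth.Agent.Lib.PolLaw.Descent
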