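import Groth.Agent.Lib.PolLaw.Tpow
import Groth.Prelude.Def_PolLaw2
import Mathlib.LinearAlgebra.Determinant
import Mathlib.LinearAlgebra.TensorProduct.Basis

/-!
# Coefficients of determinant laws
-/

universe u

open scoped TensorProduct

namespace Groth.Agent.Lib.PolLaw.DetLaw

open Coeff

variable {A : Type u} [CommRing A] {B : Type u} [CommRing B] [Algebra A B]
  {M : Type u} [AddCommGroup M] [Module A M] [Module B M] [IsScalarTower A B M]
  [Module.Free A M] [Module.Finite A M] {d n : ℕ}

theorem det_baseChange {ι : Type} [Fintype ι] [DecidableEq ι] (S : Type u) [CommRing S] [Algebra A S]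
    (e : Module.Basis ι A M) (w : ι → M) :
    (e.baseChange S).det (fun k => (1 : S) ⊗ₜ[A] w k) = algebraMap A S (e.det w) := by
  rw [Module.Basis.det_apply, Module.Basis.det_apply, RingHom.map_det]
  congr 1
  ext i j
  simp [Module.Basis.toMatrix_apply, Algebra.smul_def]

open scoped Classical in
/-- The coefficients of the determinant law, through alternating forms. -/
theorem sum_det_eq (hd : Module.finrank A M = d) (e : Module.Basis (Fin d) A M) (b : Fin n → B)
    (ν : Fin n →₀ ℕ) (v : Fin d → M) :
    (∑ c : Fin d → Fin n, if Tpow.cnt c = ν then e.det (fun k => b (c k) • v k) else 0) =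
      coef (_root_.PolLaw.detLaw (A := A) (B := B) (M := M) d hd).law b ν * e.det v := by
  let S := MvPolynomial (Fin n) A
  let eS := e.baseChange S
  let X : Module.End S (S ⊗[A] M) := _root_.PolLaw.actEnd M S (gen b)
  have hX : ∀ k, X ((1 : S) ⊗ₜ[A] v k) = ∑ i, (MvPolynomial.X i : S) • ((1 : S) ⊗ₜ[A] (b i • v k)) := by
    intro k
    simp only [X, gen, map_sum, LinearMap.sum_apply, _root_.PolLaw.actEnd_tmul_tmul, mul_one,
      TensorProduct.smul_tmul', smul_eq_mul]
  have h1 : eS.det (⇑X ∘ fun k => (1 : S) ⊗ₜ[A] v k) = LinearMap.det X * algebraMap A S (e.det v) := by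
    rw [Module.Basis.det_comp, det_baseChange]
  have h2 : eS.det (⇑X ∘ fun k => (1 : S) ⊗ₜ[A] v k) =
      ∑ c : Fin d → Fin n, (∏ k, (MvPolynomial.X (c k) : S)) * algebraMap A S (e.det fun k => b (c k) • v k) := by
    rw [show (⇑X ∘ fun k => (1 : S) ⊗ₜ[A] v k) = fun k => ∑ i, (MvPolynomial.X i : S) • ((1 : S) ⊗ₜ[A] (b i • v k))
      from funext hX]
    show eS.det.toMultilinearMap _ = _
    rw [MultilinearMap.map_sum]
    refine Finset.sum_congr rfl fun c _ => ?_
    rw [MultilinearMap.map_smul_univ, smul_eq_mul]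
    exact congrArg _ (det_baseChange S e fun k => b (c k) • v k)
  have hcoef : coef (_root_.PolLaw.detLaw (A := A) (B := B) (M := M) d hd).law b ν =
      MvPolynomial.coeff ν (LinearMap.det X) := by
    rw [coef, coefs, _root_.PolLaw.detLaw_toFun', _root_.PolLaw.detFun_eq_detAct, coefEquiv_tmul, smul_eq_mul,
      mul_one]
    rfl
  have h := congrArg (MvPolynomial.coeff ν) (h2.symm.trans h1)
  rw [MvPolynomial.algebraMap_eq, mul_comm (LinearMap.det X), MvPolynomial.coeff_C_mul, MvPolynomial.coeff_sum] at h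
  rw [hcoef, mul_comm, ← h]
  refine Finset.sum_congr rfl fun c _ => ?_
  rw [Tpow.prod_eq_pow_cnt, monomial_one_eq, mul_comm, MvPolynomial.coeff_C_mul, MvPolynomial.coeff_monomial]
  split_ifs <;> simp

/-- An alternating map in the top degree turns the symmetrised action into the determinant. -/
theorem alternating_sum (hd : Module.finrank A M = d) {Q : Type u} [AddCommGroup Q] [Module A Q]
    (ω : M [⋀^Fin d]→ₗ[A] Q) (b : Fin n → B) (ν : Fin n →₀ ℕ) (v : Fin d → M) :
    (∑ c : Fin d → Fin n, if Tpow.cnt c = ν then ω (fun k => b (c k) • v k) else 0) =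
      coef (_root_.PolLaw.detLaw (A := A) (B := B) (M := M) d hd).law b ν • ω v := by
  classical
  rcases subsingleton_or_nontrivial A with h | h
  · have := Module.subsingleton A Q
    exact Subsingleton.elim _ _
  let e : Module.Basis (Fin d) A M := (Module.finBasis A M).reindex (finCongr hd)
  have hω : ∀ w : Fin d → M, ω w = e.det w • ω e := by
    have : ω = (LinearMap.toSpanSingleton A Q (ω e)).compAlternatingMap e.det := e.ext_alternating fun p hp => by
      obtain ⟨σ, rfl⟩ : ∃ σ : Equiv.Perm (Fin d), p = σ :=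
        ⟨Equiv.ofBijective p (Finite.injective_iff_bijective.1 hp), rfl⟩
      show ω (⇑e ∘ ⇑σ) = e.det (⇑e ∘ ⇑σ) • ω e
      rw [AlternatingMap.map_perm, AlternatingMap.map_perm, e.det_self, Units.smul_def, Units.smul_def,
        smul_assoc, one_smul]
    intro w
    exact congrArg (fun f : M [⋀^Fin d]→ₗ[A] Q => f w) this
  rw [hω v, smul_smul, ← sum_det_eq hd e b ν v, Finset.sum_smul]
  refine Finset.sum_congr rfl fun c _ => ?_
  split_ifs
  · exact hω _
  · rw [zero_smul]

end Groth.Agent.Lib.PolLaw.DetLaw
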