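import Groth.Agent.Lib.PolLaw.OfPoly
import Groth.Prelude.Def_PolLaw2
import Mathlib.LinearAlgebra.Matrix.SchurComplement
import Mathlib.RingTheory.Spectrum.Prime.FreeLocus
import Mathlib.RingTheory.LocalProperties.Basic
import Mathlib.RingTheory.LocalRing.Module

/-!
# The determinant law of a module finite projective over the base
-/

universe u

open scoped TensorProduct

namespace Groth.Agent.Lib.PolLaw.DetProj

open Coeff

theorem det_one_add_comp_comm {R M N : Type*} [CommRing R] [AddCommGroup M] [Module R M] [AddCommGroup N]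
    [Module R N] [Module.Free R M] [Module.Finite R M] [Module.Free R N] [Module.Finite R N]
    (f : N →ₗ[R] M) (g : M →ₗ[R] N) :
    LinearMap.det (LinearMap.id + f ∘ₗ g) = LinearMap.det (LinearMap.id + g ∘ₗ f) := by
  classical
  let bM := Module.Free.chooseBasis R M
  let bN := Module.Free.chooseBasis R N
  rw [← LinearMap.det_toMatrix bM, ← LinearMap.det_toMatrix bN, map_add, map_add, LinearMap.toMatrix_id,
    LinearMap.toMatrix_id, LinearMap.toMatrix_comp bM bN bM, LinearMap.toMatrix_comp bN bM bN,
    Matrix.det_one_add_mul_comm]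

variable {A : Type u} [CommRing A] {B : Type u} [CommRing B] [Algebra A B]
  {M : Type u} [AddCommGroup M] [Module A M] [Module B M] [IsScalarTower A B M]
  {n : ℕ} (p : (Fin n → A) →ₗ[A] M) (q : M →ₗ[A] (Fin n → A))

/-- The action extended by the identity on a complement. -/
noncomputable def extAct (R : Type u) [CommRing R] [Algebra A R] (x : R ⊗[A] B) :
    Module.End R (R ⊗[A] (Fin n → A)) :=
  LinearMap.id + q.baseChange R ∘ₗ (_root_.PolLaw.actEnd M R x - LinearMap.id) ∘ₗ p.baseChange R

/-- The determinant of the extended action. -/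
noncomputable def detExt (R : Type u) [CommRing R] [Algebra A R] (x : R ⊗[A] B) : R :=
  LinearMap.det (extAct p q R x)

variable (hpq : p ∘ₗ q = LinearMap.id)

theorem detExt_one (R : Type u) [CommRing R] [Algebra A R] : detExt p q R (1 : R ⊗[A] B) = 1 := by
  rw [detExt, show extAct p q R (1 : R ⊗[A] B) = 1 from LinearMap.ext fun v => by simp [extAct], map_one]

include hpq in
theorem detExt_mul (R : Type u) [CommRing R] [Algebra A R] (x y : R ⊗[A] B) :
    detExt p q R (x * y) = detExt p q R x * detExt p q R y := by
  rw [detExt, detExt, detExt, ← map_mul]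
  congr 1
  have hR : p.baseChange R ∘ₗ q.baseChange R = LinearMap.id := by
    rw [← LinearMap.baseChange_comp, hpq, LinearMap.baseChange_id]
  have hR' : ∀ z, p.baseChange R (q.baseChange R z) = z := LinearMap.congr_fun hR
  refine LinearMap.ext fun v => ?_
  simp only [extAct, Module.End.mul_apply, LinearMap.add_apply, LinearMap.id_apply, LinearMap.comp_apply,
    LinearMap.sub_apply, map_mul, map_add, map_sub, hR']
  abel

include hpq in
theorem detExt_eq (R : Type u) [CommRing R] [Algebra A R] [Module.Free R (R ⊗[A] M)] [Module.Finite A M]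
    (x : R ⊗[A] B) : detExt p q R x = _root_.PolLaw.detAct M R x := by
  rw [detExt, extAct, det_one_add_comp_comm, LinearMap.comp_assoc, ← LinearMap.baseChange_comp, hpq,
    LinearMap.baseChange_id, LinearMap.comp_id]
  rw [show LinearMap.id + (_root_.PolLaw.actEnd M R x - LinearMap.id : R ⊗[A] M →ₗ[R] R ⊗[A] M) =
    _root_.PolLaw.actEnd M R x from LinearMap.ext fun v => by simp]
  rfl

theorem rTensor_baseChange {N P : Type u} [AddCommGroup N] [Module A N] [AddCommGroup P] [Module A P]
    {R R' : Type u} [CommRing R] [Algebra A R] [CommRing R'] [Algebra A R'] (ψ : R →ₐ[A] R') (g : N →ₗ[A] P)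
    (z : R ⊗[A] N) : ψ.toLinearMap.rTensor P (g.baseChange R z) = g.baseChange R' (ψ.toLinearMap.rTensor N z) := by
  induction z using TensorProduct.induction_on with
  | zero => simp
  | tmul a m => simp
  | add z z' h h' => simp only [map_add, h, h']

theorem detExt_map {R R' : Type u} [CommRing R] [Algebra A R] [CommRing R'] [Algebra A R']
    (ψ : R →ₐ[A] R') (x : R ⊗[A] B) :
    detExt p q R' (ψ.toLinearMap.rTensor B x) = ψ (detExt p q R x) := by
  classical
  let e := Pi.basisFun A (Fin n)
  have hrepr : ∀ (z : R ⊗[A] (Fin n → A)) (i : Fin n),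
      (Algebra.TensorProduct.basis R' e).repr (ψ.toLinearMap.rTensor (Fin n → A) z) i =
        ψ ((Algebra.TensorProduct.basis R e).repr z i) := by
    intro z i
    induction z using TensorProduct.induction_on with
    | zero => simp
    | tmul a m => simp [Algebra.TensorProduct.basis_repr_tmul, Finsupp.mapRange_apply]
    | add z z' h h' => simp only [map_add, Finsupp.add_apply, h, h']
  have hext : ∀ v, ψ.toLinearMap.rTensor (Fin n → A) (extAct p q R x v) =
      extAct p q R' (ψ.toLinearMap.rTensor B x) (ψ.toLinearMap.rTensor (Fin n → A) v) := fun v => by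
    simp only [extAct, LinearMap.add_apply, LinearMap.id_apply, LinearMap.comp_apply, LinearMap.sub_apply,
      map_add, map_sub, rTensor_baseChange, _root_.PolLaw.rTensor_actEnd,
      _root_.PolLaw.rTensor_algHom_apply ψ x]
  unfold detExt
  rw [← LinearMap.det_toMatrix (Algebra.TensorProduct.basis R' e),
    ← LinearMap.det_toMatrix (Algebra.TensorProduct.basis R e), AlgHom.map_det]
  congr 1
  ext i j
  simp only [AlgHom.mapMatrix_apply, Matrix.map_apply, LinearMap.toMatrix_apply,
    Algebra.TensorProduct.basis_apply]
  rw [← hrepr, hext, LinearMap.rTensor_tmul, AlgHom.toLinearMap_apply, map_one]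

/-- The law, from its values on polynomial rings. -/
noncomputable def law : B →ₚₗ[A] A :=
  Extend.ofPoly (fun m z => detExt p q (MvPolynomial (Fin m) A) z ⊗ₜ[A] (1 : A)) fun m k φ z => by
    rw [detExt_map p q φ z]
    rfl

theorem law_apply (R : Type u) [CommRing R] [Algebra A R] (x : R ⊗[A] B) :
    (law p q).toFun' R x = detExt p q R x ⊗ₜ[A] (1 : A) := by
  obtain ⟨m, φ, z, rfl⟩ := Extend.rep R x
  refine ((compat (law p q) φ z).symm).trans ?_
  rw [law, Extend.ofPoly_apply, LinearMap.rTensor_tmul, detExt_map]
  rfl

include hpq in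
theorem isMult_law : _root_.PolLaw.IsMult (law (B := B) p q) := fun S _ _ =>
  OfPoly.mult_of_poly _ (fun m => by rw [law_apply, detExt_one]; rfl)
    (fun m x y => by rw [law_apply, law_apply, law_apply, detExt_mul p q hpq, Algebra.TensorProduct.tmul_mul_tmul,
      mul_one]) S

include hpq in
theorem law_eq_detAct [Module.Finite A M] [Module.Projective A M] (S : Type u) [CommRing S] [IsLocalRing S]
    [Algebra A S] (x : S ⊗[A] B) : (law p q).toFun' S x = _root_.PolLaw.detAct M S x ⊗ₜ[A] (1 : A) := by
  have : Module.Free S (S ⊗[A] M) := Module.free_of_flat_of_isLocalRing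
  rw [law_apply, detExt_eq p q hpq]

/-- Scalars on polynomial rings are detected on the local rings. -/
theorem ext_local {B' : Type u} [AddCommGroup B'] [Module A B'] {F G : B' →ₚₗ[A] A}
    (h : ∀ (S : Type u) [CommRing S] [IsLocalRing S] [Algebra A S] (x : S ⊗[A] B'), F.toFun' S x = G.toFun' S x) :
    F = G := by
  refine ext_poly fun m z => ?_
  refine (TensorProduct.rid A (MvPolynomial (Fin m) A)).injective ?_
  refine sub_eq_zero.1 (eq_zero_of_localization _ fun J hJ => ?_)
  have := hJ
  let ψ := IsScalarTower.toAlgHom A (MvPolynomial (Fin m) A) (Localization.AtPrime J)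
  have key : ∀ w : MvPolynomial (Fin m) A ⊗[A] A, TensorProduct.rid A (Localization.AtPrime J)
      (ψ.toLinearMap.rTensor A w) = algebraMap _ _ (TensorProduct.rid A (MvPolynomial (Fin m) A) w) := fun w => by
    induction w using TensorProduct.induction_on with
    | zero => simp
    | tmul a b => simp [ψ, Algebra.smul_def, IsScalarTower.algebraMap_apply A (MvPolynomial (Fin m) A) (Localization.AtPrime J)]
    | add a b ha hb => simp only [map_add, ha, hb]
  rw [map_sub, ← key, ← key, compat, compat, h, sub_self]

theorem exists_retraction [Module.Finite A M] [Module.Projective A M] :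
    ∃ (n : ℕ) (p : (Fin n → A) →ₗ[A] M) (q : M →ₗ[A] (Fin n → A)), p ∘ₗ q = LinearMap.id := by
  obtain ⟨n, p, q, -, -, hpq⟩ := Module.Finite.exists_comp_eq_id_of_projective A M
  exact ⟨n, p, q, hpq⟩

end Groth.Agent.Lib.PolLaw.DetProj
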