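import Groth.Agent.Lib.PolLaw.Coeff
import Mathlib.LinearAlgebra.TensorProduct.RightExactness
import Mathlib.Algebra.MvPolynomial.Rename

/-!
# Polynomial laws from their values on polynomial rings
-/

universe u v w

open scoped TensorProduct

namespace Groth.Agent.Lib.PolLaw.Extend

variable {A : Type u} [CommRing A] {M : Type v} [AddCommGroup M] [Module A M]
  {N : Type w} [AddCommGroup N] [Module A N]

theorem rep (S : Type u) [CommSemiring S] [Algebra A S] (x : S ⊗[A] M) :
    ∃ (n : ℕ) (φ : MvPolynomial (Fin n) A →ₐ[A] S) (z : MvPolynomial (Fin n) A ⊗[A] M),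
      φ.toLinearMap.rTensor M z = x :=
  PolynomialLaw.exists_lift x

/-- Elements with the same image under a surjection differ by a combination with coefficients in the kernel. -/
theorem exists_sum_of_rTensor_eq {P S : Type u} [CommRing P] [Algebra A P] [CommRing S] [Algebra A S]
    (φ : P →ₐ[A] S) (hφ : Function.Surjective φ) {z z' : P ⊗[A] M}
    (h : φ.toLinearMap.rTensor M z = φ.toLinearMap.rTensor M z') :
    ∃ (K : ℕ) (f : Fin K → P) (m : Fin K → M), (∀ k, φ (f k) = 0) ∧ z = z' + ∑ k, f k ⊗ₜ[A] m k := by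
  have hex := rTensor_exact M (LinearMap.exact_subtype_ker_map φ.toLinearMap) hφ
  obtain ⟨y, hy⟩ := (hex (z - z')).1 (by rw [map_sub, h, sub_self])
  suffices ∀ y : LinearMap.ker φ.toLinearMap ⊗[A] M, ∃ (K : ℕ) (f : Fin K → P) (m : Fin K → M),
      (∀ k, φ (f k) = 0) ∧ (LinearMap.ker φ.toLinearMap).subtype.rTensor M y = ∑ k, f k ⊗ₜ[A] m k by
    obtain ⟨K, f, m, hf, hy'⟩ := this y
    exact ⟨K, f, m, hf, by rw [← hy', hy, add_sub_cancel]⟩
  intro y
  induction y using TensorProduct.induction_on with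
  | zero => exact ⟨0, Fin.elim0, Fin.elim0, fun k => k.elim0, by simp⟩
  | tmul p m => exact ⟨1, ![p.1], ![m], fun k => by fin_cases k; exact p.2, by simp⟩
  | add y y' hy hy' =>
    obtain ⟨K, f, m, hf, hy⟩ := hy
    obtain ⟨K', f', m', hf', hy'⟩ := hy'
    refine ⟨K + K', Fin.append f f', Fin.append m m', fun k => ?_, by simp [hy, hy', Fin.sum_univ_add]⟩
    refine Fin.addCases (fun i => ?_) (fun i => ?_) k <;> simp [hf, hf']

variable (T : ∀ n : ℕ, MvPolynomial (Fin n) A ⊗[A] M → MvPolynomial (Fin n) A ⊗[A] N)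
  (hT : ∀ (n m : ℕ) (φ : MvPolynomial (Fin n) A →ₐ[A] MvPolynomial (Fin m) A)
    (z : MvPolynomial (Fin n) A ⊗[A] M),
      φ.toLinearMap.rTensor N (T n z) = T m (φ.toLinearMap.rTensor M z))

include hT in
/-- Two lifts of an element give the same value. -/
theorem value_wd {S : Type u} [CommSemiring S] [Algebra A S] {n n' : ℕ}
    (φ : MvPolynomial (Fin n) A →ₐ[A] S) (φ' : MvPolynomial (Fin n') A →ₐ[A] S)
    (z : MvPolynomial (Fin n) A ⊗[A] M) (z' : MvPolynomial (Fin n') A ⊗[A] M)
    (h : φ.toLinearMap.rTensor M z = φ'.toLinearMap.rTensor M z') :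
    φ.toLinearMap.rTensor N (T n z) = φ'.toLinearMap.rTensor N (T n' z') := by
  classical
  letI : CommRing S := { Algebra.semiringToRing A (A := S) with mul_comm := mul_comm }
  let π : MvPolynomial S A →ₐ[A] S := MvPolynomial.aeval id
  let ρ : MvPolynomial (Fin n) A →ₐ[A] MvPolynomial S A :=
    MvPolynomial.rename fun i => φ (MvPolynomial.X i)
  let ρ' : MvPolynomial (Fin n') A →ₐ[A] MvPolynomial S A :=
    MvPolynomial.rename fun i => φ' (MvPolynomial.X i)
  have hρ : π.comp ρ = φ := MvPolynomial.algHom_ext fun i => by simp [π, ρ]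
  have hρ' : π.comp ρ' = φ' := MvPolynomial.algHom_ext fun i => by simp [π, ρ']
  rw [← hρ, ← hρ'] at h
  simp only [AlgHom.comp_toLinearMap, LinearMap.rTensor_comp_apply] at h
  obtain ⟨K, f, m, hf, hz⟩ := exists_sum_of_rTensor_eq π
    (fun s => ⟨MvPolynomial.X s, by simp [π]⟩) h
  let V : Finset S := (Finset.univ.image fun i => φ (MvPolynomial.X i)) ∪
    (Finset.univ.image fun i => φ' (MvPolynomial.X i)) ∪ Finset.univ.biUnion fun k => (f k).vars
  let r : MvPolynomial S A →ₐ[A] MvPolynomial (Fin V.card) A :=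
    MvPolynomial.aeval fun y => if hy : y ∈ V then MvPolynomial.X (V.equivFin ⟨y, hy⟩) else 0
  let ψ : MvPolynomial (Fin V.card) A →ₐ[A] S := MvPolynomial.aeval fun i => (V.equivFin.symm i : S)
  have hψr : ∀ y ∈ V, ψ (r (MvPolynomial.X y)) = y := fun y hy => by simp [ψ, r, hy]
  have hψf : ∀ k, ψ (r (f k)) = 0 := by
    intro k
    have : (ψ.comp r).toRingHom (f k) = π.toRingHom (f k) := by
      refine MvPolynomial.hom_congr_vars ?_ (fun y hy _ => ?_) rfl
      · ext a
        simp [π, ψ, r]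
      · simp only [AlgHom.toRingHom_eq_coe, RingHom.coe_coe, AlgHom.comp_apply]
        rw [hψr y (Finset.mem_union_right _ (Finset.mem_biUnion.2 ⟨k, Finset.mem_univ _, hy⟩))]
        simp [π]
    exact this.trans (hf k)
  have hψρ : ψ.comp (r.comp ρ) = φ := MvPolynomial.algHom_ext fun i => by
    simp only [AlgHom.comp_apply, ρ, MvPolynomial.rename_X]
    exact hψr _ (Finset.mem_union_left _ (Finset.mem_union_left _ (by simp)))
  have hψρ' : ψ.comp (r.comp ρ') = φ' := MvPolynomial.algHom_ext fun i => by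
    simp only [AlgHom.comp_apply, ρ', MvPolynomial.rename_X]
    exact hψr _ (Finset.mem_union_left _ (Finset.mem_union_right _ (by simp)))
  let g : (Fin K → MvPolynomial (Fin V.card) A) →
      (MvPolynomial (Fin (V.card + K)) A →ₐ[A] MvPolynomial (Fin V.card) A) :=
    fun u => MvPolynomial.aeval (Fin.append MvPolynomial.X u)
  let ι : MvPolynomial (Fin V.card) A →ₐ[A] MvPolynomial (Fin (V.card + K)) A :=
    MvPolynomial.rename (Fin.castAdd K)
  have hgι : ∀ u, (g u).comp ι = AlgHom.id A _ := fun u => MvPolynomial.algHom_ext fun i => by simp [g, ι]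
  let w : MvPolynomial (Fin (V.card + K)) A ⊗[A] M :=
    ι.toLinearMap.rTensor M ((r.comp ρ').toLinearMap.rTensor M z') +
      ∑ k, MvPolynomial.X (Fin.natAdd V.card k) ⊗ₜ[A] m k
  have hg : ∀ u, (g u).toLinearMap.rTensor M w =
      (r.comp ρ').toLinearMap.rTensor M z' + ∑ k, u k ⊗ₜ[A] m k := by
    intro u
    rw [map_add, ← LinearMap.rTensor_comp_apply, ← AlgHom.comp_toLinearMap, hgι, map_sum]
    simp [g]
  have e1 : (g fun k => r (f k)).toLinearMap.rTensor M w = (r.comp ρ).toLinearMap.rTensor M z := by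
    rw [hg, AlgHom.comp_toLinearMap, AlgHom.comp_toLinearMap, LinearMap.rTensor_comp_apply,
      LinearMap.rTensor_comp_apply, hz, map_add, map_sum]
    simp
  have e0 : (g fun _ => 0).toLinearMap.rTensor M w = (r.comp ρ').toLinearMap.rTensor M z' := by
    rw [hg]
    simp
  have hψg : ψ.comp (g fun k => r (f k)) = ψ.comp (g fun _ => 0) := by
    refine MvPolynomial.algHom_ext fun i => ?_
    refine Fin.addCases (fun i => ?_) (fun i => ?_) i <;> simp [g, hψf]
  rw [← hψρ, ← hψρ', AlgHom.comp_toLinearMap (r.comp ρ) ψ, AlgHom.comp_toLinearMap (r.comp ρ') ψ,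
    LinearMap.rTensor_comp_apply, LinearMap.rTensor_comp_apply, hT, hT, ← e1, ← e0, ← hT, ← hT,
    ← LinearMap.rTensor_comp_apply, ← LinearMap.rTensor_comp_apply, ← AlgHom.comp_toLinearMap,
    ← AlgHom.comp_toLinearMap, hψg]

/-- The law with prescribed values on the polynomial rings. -/
noncomputable def ofPoly : M →ₚₗ[A] N where
  toFun' S _ _ := fun x =>
    (rep S x).choose_spec.choose.toLinearMap.rTensor N (T _ (rep S x).choose_spec.choose_spec.choose)
  isCompat' {S} _ _ {S'} _ _ φ := by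
    funext x
    simp only [Function.comp_apply]
    rw [← LinearMap.rTensor_comp_apply, ← AlgHom.comp_toLinearMap]
    refine value_wd T hT _ _ _ _ ?_
    rw [AlgHom.comp_toLinearMap, LinearMap.rTensor_comp_apply,
      (rep S x).choose_spec.choose_spec.choose_spec,
      (rep S' (φ.toLinearMap.rTensor M x)).choose_spec.choose_spec.choose_spec]

theorem ofPoly_apply (n : ℕ) (z : MvPolynomial (Fin n) A ⊗[A] M) :
    (ofPoly T hT).toFun' _ z = T n z := by
  have h := (rep (MvPolynomial (Fin n) A) z).choose_spec.choose_spec.choose_spec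
  exact (value_wd T hT _ (AlgHom.id A _) _ z (by rw [h]; simp)).trans (by simp)

/-- Two laws which agree on the polynomial rings are equal. -/
theorem ext_poly' {F G : M →ₚₗ[A] N}
    (h : ∀ (n : ℕ) (z : MvPolynomial (Fin n) A ⊗[A] M), F.toFun' _ z = G.toFun' _ z) : F = G := by
  ext S _ _ x
  obtain ⟨n, φ, z, rfl⟩ := rep S x
  rw [← F.isCompat_apply', ← G.isCompat_apply', h]

end Groth.Agent.Lib.PolLaw.Extend
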