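import Groth.Agent.Lib.PolLaw.Points
import Mathlib.RingTheory.Spectrum.Prime.Topology
import Mathlib.RingTheory.LocalRing.ResidueField.Ideal
import Mathlib.RingTheory.Ideal.GoingUp

/-!
# The fibres of the image of a law
-/

universe u

open scoped TensorProduct
open Polynomial

namespace Groth.Agent.Lib.PolLaw.Fibre

open Coeff Val Kernel BaseChange Points

variable {A : Type u} [CommRing A] {B : Type u} [CommRing B] [Algebra A B] {d : ℕ}
  (F : _root_.PolLaw.MulLaw A B A d) (A' : Type u) [CommRing A'] [Algebra A A']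

/-- The image after base change. -/
abbrev Z : Type u := A' ⊗[A] _root_.PolLaw.image F.law

/-- The projection to the image after base change. -/
noncomputable def proj : A' ⊗[A] B →ₐ[A'] Z F A' :=
  Algebra.TensorProduct.map (AlgHom.id A' A') (Ideal.Quotient.mkₐ A (_root_.PolLaw.ker F.law))

theorem proj_surjective : Function.Surjective (proj F A') := by
  intro y
  induction y using TensorProduct.induction_on with
  | zero => exact ⟨0, map_zero _⟩
  | tmul a b =>
    obtain ⟨b, rfl⟩ := Ideal.Quotient.mk_surjective b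
    exact ⟨a ⊗ₜ[A] b, rfl⟩
  | add x y hx hy =>
    obtain ⟨⟨x, rfl⟩, ⟨y, rfl⟩⟩ := And.intro hx hy
    exact ⟨x + y, map_add _ _ _⟩

variable {A'}

theorem aeval_chi_eq_zero (z : A' ⊗[A] B) : Polynomial.aeval (proj F A' z) (chi₀ F z) = 0 := by
  rw [Polynomial.aeval_algHom_apply]
  have hle : (_root_.PolLaw.ker F.law).map (Algebra.TensorProduct.includeRight : B →ₐ[A] A' ⊗[A] B) ≤
      RingHom.ker (proj F A') :=
    Ideal.map_le_iff_le_comap.2 fun b hb => by
      show (1 : A') ⊗ₜ[A] Ideal.Quotient.mk _ b = 0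
      rw [Ideal.Quotient.eq_zero_iff_mem.2 hb, TensorProduct.tmul_zero]
  exact hle (aeval_chi₀_mem_map F z)

theorem isIntegral : Algebra.IsIntegral A' (Z F A') := by
  refine ⟨fun y => ?_⟩
  obtain ⟨z, rfl⟩ := proj_surjective F A' y
  obtain ⟨p, hp, hp'⟩ := exists_monic F z
  refine ⟨p, hp, ?_⟩
  show Polynomial.aeval (proj F A' z) p = 0
  rw [hp', map_mul, aeval_chi_eq_zero, mul_zero]

theorem mem_of_coeff_mem (Q : Ideal (Z F A')) [Q.IsPrime] (z : A' ⊗[A] B)
    (h : ∀ k < d, algebraMap A' (Z F A') ((chi₀ F z).coeff k) ∈ Q) : proj F A' z ∈ Q := by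
  have h0 := aeval_chi_eq_zero F z
  rw [Polynomial.aeval_def, Polynomial.eval₂_eq_sum_range' _ (Nat.lt_succ_of_le (natDegree_chi₀_le F z).1),
    Finset.sum_range_succ, (natDegree_chi₀_le F z).2] at h0
  have hs : ∑ k ∈ Finset.range d, algebraMap A' (Z F A') ((chi₀ F z).coeff k) * proj F A' z ^ k ∈ Q :=
    Q.sum_mem fun k hk => Q.mul_mem_right _ (h k (Finset.mem_range.1 hk))
  rw [add_eq_zero_iff_eq_neg] at h0
  rw [h0, neg_mem_iff, map_pow, map_neg, map_one] at hs
  exact ‹Q.IsPrime›.mem_of_pow_mem d ((Q.unit_mul_mem_iff_mem ((isUnit_one (M := Z F A')).neg.pow d)).1 hs)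

section Point

variable {K : Type u} [Field K] [IsAlgClosed K] [Algebra A K] [Algebra A' K] [IsScalarTower A A' K]

/-- The points of the fibre over a geometric point. -/
noncomputable def point (ψ : Fin d → (B →ₐ[A] K)) (hψ : IsPoints F (Algebra.ofId A K) ψ) (j : Fin d) :
    Z F A' →ₐ[A'] K :=
  Algebra.TensorProduct.lift (Algebra.ofId A' K)
    (Ideal.Quotient.liftₐ (_root_.PolLaw.ker F.law) (ψ j) fun _ hb => apply_eq_zero_of_mem_ker hψ hb j)
    fun _ _ => Commute.all _ _

variable {ψ : Fin d → (B →ₐ[A] K)} (hψ : IsPoints F (Algebra.ofId A K) ψ)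

theorem map_chi (z : A' ⊗[A] B) :
    (chi₀ F z).map (algebraMap A' K) = ∏ j, (Polynomial.C (point F ψ hψ j (proj F A' z)) - X) := by
  let h := IsScalarTower.toAlgHom A A' K
  have hw : ∀ j, evalHom (ψ j) (Algebra.TensorProduct.map h (AlgHom.id A B) z) = point F ψ hψ j (proj F A' z) := by
    intro j
    induction z using TensorProduct.induction_on with
    | zero => simp
    | tmul a b => simp [point, proj, h, Algebra.ofId_apply]
    | add x y hx hy => simp only [map_add, hx, hy]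
  rw [show algebraMap A' K = h.toRingHom from rfl, chi₀_map, chi₀_eq, val₀,
    Subsingleton.elim (Algebra.ofId A K[X]) ((Polynomial.CAlgHom (R := A) (A := K)).comp (Algebra.ofId A K)), hψ]
  refine Finset.prod_congr rfl fun j _ => ?_
  rw [map_sub, map_smul, map_one, smul_eq_mul, mul_one, toPoly, ← evalHom_map, hw]
  rfl

theorem coeff_eq_zero_of_forall (z : A' ⊗[A] B) (hz : ∀ j, point F ψ hψ j (proj F A' z) = 0) :
    ∀ k < d, algebraMap A' K ((chi₀ F z).coeff k) = 0 := by
  intro k hk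
  rw [← Polynomial.coeff_map, map_chi F hψ, Finset.prod_congr rfl (g := fun _ => (-X : K[X]))
    (fun j _ => by rw [hz j, map_zero, zero_sub]), Finset.prod_const, Finset.card_univ, Fintype.card_fin, neg_pow,
    ← map_one (Polynomial.C (R := K)), ← map_neg, ← map_pow, Polynomial.coeff_C_mul, Polynomial.coeff_X_pow,
    if_neg hk.ne, mul_zero]

include hψ in
theorem exists_point_of_prime (p : Ideal A') (hp : p = RingHom.ker (algebraMap A' K)) (Q : Ideal (Z F A')) [Q.IsPrime]
    (hQ : Q.comap (algebraMap A' (Z F A')) = p) : ∃ j, RingHom.ker (point (A' := A') F ψ hψ j) = Q := by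
  have := isIntegral F (A' := A')
  subst hp
  let φ := Ideal.quotientMap Q (algebraMap A' (Z F A')) (le_of_eq hQ.symm)
  have hφ : Function.Injective φ := Ideal.quotientMap_injective' (le_of_eq hQ)
  have hint : φ.IsIntegral := by
    intro y
    obtain ⟨y, rfl⟩ := Ideal.Quotient.mk_surjective y
    obtain ⟨f, hf, hf'⟩ := Algebra.IsIntegral.isIntegral (R := A') y
    refine ⟨f.map (Ideal.Quotient.mk _), hf.map _, ?_⟩
    rw [Polynomial.eval₂_map, show φ.comp (Ideal.Quotient.mk _) = (Ideal.Quotient.mk Q).comp (algebraMap A' (Z F A')) from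
      RingHom.ext fun _ => rfl, ← Polynomial.hom_eval₂, hf', map_zero]
  obtain ⟨χ, hχ⟩ := Universal.exists_extension (R := A' ⧸ RingHom.ker (algebraMap A' K)) (S := Z F A' ⧸ Q) (K := K) φ hφ hint (RingHom.kerLift (algebraMap A' K))
  let Θ : Z F A' →ₐ[A'] K :=
    { χ.comp (Ideal.Quotient.mk Q) with
      commutes' := fun a => by
        show χ (φ (Ideal.Quotient.mk _ a)) = _
        rw [← RingHom.comp_apply, hχ]
        rfl }
  have hker : RingHom.ker Θ = Q := by
    have h1 : RingHom.ker χ = ⊥ := by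
      letI : Algebra (A' ⧸ RingHom.ker (algebraMap A' K)) (Z F A' ⧸ Q) :=
        RingHom.toAlgebra (R := A' ⧸ RingHom.ker (algebraMap A' K)) (S := Z F A' ⧸ Q) φ
      have : Algebra.IsIntegral (A' ⧸ RingHom.ker (algebraMap A' K)) (Z F A' ⧸ Q) := ⟨hint⟩
      have : (RingHom.ker χ).IsPrime := RingHom.ker_isPrime χ
      have : (RingHom.ker (algebraMap A' K)).IsPrime := RingHom.ker_isPrime _
      have : IsDomain (Z F A' ⧸ Q) := Ideal.Quotient.isDomain Q
      refine Ideal.eq_bot_of_comap_eq_bot (R := A' ⧸ RingHom.ker (algebraMap A' K)) ?_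
      show (RingHom.ker χ).comap φ = ⊥
      rw [RingHom.comap_ker, hχ]
      exact (RingHom.injective_iff_ker_eq_bot _).1 (RingHom.kerLift_injective _)
    show RingHom.ker (χ.comp (Ideal.Quotient.mk Q)) = Q
    rw [← RingHom.comap_ker, h1]
    exact Ideal.mk_ker
  let θ : B →ₐ[A] K := ((Θ.restrictScalars A).comp Algebra.TensorProduct.includeRight).comp (Ideal.Quotient.mkₐ A _)
  obtain ⟨j, hj⟩ := exists_eq_of_kills_ker hψ θ fun b hb => by
    simp only [θ, AlgHom.comp_apply, Ideal.Quotient.mkₐ_eq_mk, Ideal.Quotient.eq_zero_iff_mem.2 hb, map_zero]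
  refine ⟨j, ?_⟩
  rw [show point F ψ hψ j = Θ from ?_, hker]
  refine Algebra.TensorProduct.ext_ring (Ideal.Quotient.algHom_ext A (AlgHom.ext fun b => ?_))
  show point F ψ hψ j ((1 : A') ⊗ₜ[A] Ideal.Quotient.mk _ b) = θ b
  rw [hj]
  simp [point]

end Point

/-- A geometric point of the base over a prime, and the points above it. -/
theorem exists_points (p : Ideal A') [p.IsPrime] :
    ∃ Q : Fin d → Ideal (Z F A'), (∀ j, (Q j).IsPrime ∧ (Q j).comap (algebraMap A' (Z F A')) = p) ∧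
      (∀ P : Ideal (Z F A'), P.IsPrime → P.comap (algebraMap A' (Z F A')) = p → ∃ j, Q j = P) ∧
      ∀ z, (∀ j, proj F A' z ∈ Q j) → ∀ k < d, (chi₀ F z).coeff k ∈ p := by
  let K := AlgebraicClosure p.ResidueField
  have hp : ∀ a : A', algebraMap A' K a = 0 ↔ a ∈ p := fun a => by
    rw [IsScalarTower.algebraMap_apply A' p.ResidueField K]
    rw [map_eq_zero_iff _ (algebraMap p.ResidueField K).injective]
    exact Ideal.algebraMap_residueField_eq_zero
  have hp' : p = RingHom.ker (algebraMap A' K) := Ideal.ext fun a => (hp a).symm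
  obtain ⟨ψ, hψ⟩ := Points.exists_isPoints F (Algebra.ofId A K)
  refine ⟨fun j => RingHom.ker (point F ψ hψ j), fun j => ⟨RingHom.ker_isPrime _, ?_⟩, ?_, ?_⟩
  · refine Ideal.ext fun a => ?_
    rw [Ideal.mem_comap, RingHom.mem_ker, AlgHom.commutes, hp]
  · intro P hP hPp
    exact exists_point_of_prime F hψ p hp' P hPp
  · intro z hz k hk
    exact (hp _).1 (coeff_eq_zero_of_forall F hψ z (fun j => hz j) k hk)

theorem isOpenMap : IsOpenMap (PrimeSpectrum.comap (algebraMap A' (Z F A'))) := by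
  rw [PrimeSpectrum.isTopologicalBasis_basic_opens.isOpenMap_iff]
  rintro - ⟨y, rfl⟩
  obtain ⟨z, rfl⟩ := proj_surjective F A' y
  rw [show PrimeSpectrum.comap (algebraMap A' (Z F A')) '' (PrimeSpectrum.basicOpen (proj F A' z) : Set _) =
    ⋃ k : Fin d, (PrimeSpectrum.basicOpen ((chi₀ F z).coeff k) : Set _) from Set.ext fun p => ?_]
  · exact isOpen_iUnion fun k => (PrimeSpectrum.basicOpen _).isOpen
  simp only [Set.mem_image, Set.mem_iUnion, SetLike.mem_coe, PrimeSpectrum.mem_basicOpen]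
  constructor
  · rintro ⟨Q, hQ, rfl⟩
    by_contra hall
    simp only [not_exists, not_not] at hall
    exact hQ (mem_of_coeff_mem F Q.asIdeal z fun k hk => hall ⟨k, hk⟩)
  · rintro ⟨k, hk⟩
    obtain ⟨Q, hQ, -, hz⟩ := exists_points F p.asIdeal
    obtain ⟨j, hj⟩ : ∃ j, proj F A' z ∉ Q j := by
      by_contra hall
      simp only [not_exists, not_not] at hall
      exact hk (hz z hall k k.2)
    exact ⟨⟨Q j, (hQ j).1⟩, hj, PrimeSpectrum.ext (hQ j).2⟩

theorem exists_le (P : Ideal (Z F A')) [P.IsPrime] (q : Ideal A') [q.IsPrime]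
    (hq : q ≤ P.comap (algebraMap A' (Z F A'))) :
    ∃ Q : Ideal (Z F A'), Q.IsPrime ∧ Q ≤ P ∧ Q.comap (algebraMap A' (Z F A')) = q := by
  obtain ⟨Q, hQ, -, hz⟩ := exists_points F q
  by_contra hne
  have hb : ∀ j, ∃ y ∈ Q j, y ∉ P := fun j => by
    by_contra hall
    simp only [not_exists, not_and, not_not] at hall
    exact hne ⟨Q j, (hQ j).1, hall, (hQ j).2⟩
  choose y hy hyP using hb
  obtain ⟨z, hz'⟩ := proj_surjective F A' (∏ j, y j)
  refine (‹P.IsPrime›.prod_mem_iff).not.2 (by simpa using hyP) (hz' ▸ mem_of_coeff_mem F P z fun k hk => hq (hz z (fun j => ?_) k hk) : ∏ j, y j ∈ P)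
  rw [hz']
  exact Ideal.mem_of_dvd _ (Finset.dvd_prod_of_mem y (Finset.mem_univ j)) (hy j)

theorem generalizingMap : GeneralizingMap (PrimeSpectrum.comap (algebraMap A' (Z F A'))) := by
  intro P q hq
  obtain ⟨Q, hQ, hle, hQq⟩ := exists_le F P.asIdeal q.asIdeal ((PrimeSpectrum.le_iff_specializes q _).2 hq)
  exact ⟨⟨Q, hQ⟩, (PrimeSpectrum.le_iff_specializes ⟨Q, hQ⟩ P).1 hle, PrimeSpectrum.ext hQq⟩

theorem card_fibre (p : PrimeSpectrum A') :
    (PrimeSpectrum.comap (algebraMap A' (Z F A')) ⁻¹' {p}).Finite ∧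
      (PrimeSpectrum.comap (algebraMap A' (Z F A')) ⁻¹' {p}).ncard ≤ d := by
  obtain ⟨Q, hQ, hall, -⟩ := exists_points F p.asIdeal
  let f : Fin d → PrimeSpectrum (Z F A') := fun j => ⟨Q j, (hQ j).1⟩
  have hsub : PrimeSpectrum.comap (algebraMap A' (Z F A')) ⁻¹' {p} ⊆ Set.range f := by
    intro P hP
    obtain ⟨j, hj⟩ := hall P.asIdeal P.2 (congrArg PrimeSpectrum.asIdeal hP)
    exact ⟨j, PrimeSpectrum.ext hj⟩
  refine ⟨(Set.finite_range f).subset hsub, (Set.ncard_le_ncard hsub (Set.finite_range f)).trans ?_⟩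
  rw [← Set.image_univ]
  exact (Set.ncard_image_le (Set.finite_univ)).trans (by simp [Set.ncard_univ])

end Groth.Agent.Lib.PolLaw.Fibre
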