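import Groth.Agent.Lib.PolLaw.Gamma
import Mathlib.RingTheory.IntegralClosure.Algebra.Basic
import Mathlib.RingTheory.Adjoin.FG

/-!
# Finiteness of coefficient spans
-/

universe u

open scoped TensorProduct

namespace Groth.Agent.Lib.PolLaw.Finite

open Coeff

variable {A : Type u} [CommRing A] {M N : Type u} [AddCommGroup M] [Module A M] [AddCommGroup N] [Module A N]

theorem fg_coefSpan [Module.Finite A M] (F : M →ₚₗ[A] N) : (coefSpan F).FG := by
  classical
  obtain ⟨m, e, he⟩ := Module.Finite.exists_fin (R := A) (M := M)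
  refine ⟨(coefs F e).support.image (coef F e), le_antisymm ?_ ?_⟩
  · refine Submodule.span_le.2 fun c hc => ?_
    obtain ⟨ν, -, rfl⟩ := Finset.mem_image.1 hc
    exact coef_mem_coefSpan F e ν
  · refine Submodule.span_le.2 ?_
    rintro _ ⟨n, b, ν, rfl⟩
    refine Submodule.span_le.2 ?_ (coef_mem_span_of_mem_span F e b (fun k => by simp [he]) ν)
    rintro _ ⟨μ, rfl⟩
    by_cases h : μ ∈ (coefs F e).support
    · exact Submodule.subset_span (Finset.mem_image.2 ⟨μ, h, rfl⟩)
    · rw [show coef F e μ = 0 from Finsupp.notMem_support_iff.1 h]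
      exact Submodule.zero_mem _

theorem moduleFinite {B C : Type u} [CommRing B] [Algebra A B] [CommRing C] [Algebra A C] {d : ℕ}
    {γ : _root_.PolLaw.MulLaw A B C d} (hγ : _root_.PolLaw.IsGammaD γ) [Module.Finite A B] :
    Module.Finite A C :=
  ⟨Gamma.coefSpan_eq_top hγ ▸ fg_coefSpan γ.law⟩

theorem isIntegral {B C : Type u} [CommRing B] [Algebra A B] [CommRing C] [Algebra A C] {d : ℕ}
    {γ : _root_.PolLaw.MulLaw A B C d} (hγ : _root_.PolLaw.IsGammaD γ) [Algebra.IsIntegral A B] :
    Algebra.IsIntegral A C := by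
  refine ⟨fun c => Gamma.mem_of_coef_mem hγ (integralClosure A C) (fun n b ν => ?_) c⟩
  let B₀ := Algebra.adjoin A (Set.range b)
  have : Module.Finite A B₀ := ⟨(Submodule.fg_top _).2
    (fg_adjoin_of_finite (Set.finite_range b) fun x _ => Algebra.IsIntegral.isIntegral x)⟩
  let G := γ.precomp B₀.val
  have hmem : coef γ.law b ν ∈ coefAlg G.law G.mult := by
    rw [mem_coefAlg]
    have h := coef_precomp γ.law B₀.val.toLinearMap
      (fun i => (⟨b i, Algebra.subset_adjoin ⟨i, rfl⟩⟩ : B₀)) ν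
    rw [show coef γ.law b ν = coef G.law (fun i => (⟨b i, Algebra.subset_adjoin ⟨i, rfl⟩⟩ : B₀)) ν from h.symm]
    exact coef_mem_coefSpan _ _ _
  exact IsIntegral.of_mem_of_fg (coefAlg G.law G.mult) (fg_coefSpan G.law) _ hmem

theorem surjective_of_surjective {B B' C C' : Type u} [CommRing B] [Algebra A B] [CommRing B'] [Algebra A B']
    [CommRing C] [Algebra A C] [CommRing C'] [Algebra A C'] {d : ℕ}
    (γ : _root_.PolLaw.MulLaw A B C d) (γ' : _root_.PolLaw.MulLaw A B' C' d) (hγ' : _root_.PolLaw.IsGammaD γ')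
    (π : B →ₐ[A] B') (hπ : Function.Surjective π) (φ : C →ₐ[A] C')
    (hφ : _root_.PolLaw.postcomp φ.toLinearMap γ.law = (γ'.precomp π).law) : Function.Surjective φ := by
  intro c
  refine Gamma.mem_of_coef_mem hγ' φ.range (fun n b' ν => ?_) c
  choose b hb using fun i => hπ (b' i)
  refine ⟨coef γ.law b ν, ?_⟩
  calc φ (coef γ.law b ν) = coef (_root_.PolLaw.postcomp φ.toLinearMap γ.law) b ν := (coef_postcomp φ.toLinearMap γ.law b ν).symm
    _ = coef (γ'.precomp π).law b ν := by rw [hφ]
    _ = coef γ'.law (fun i => π (b i)) ν := coef_precomp _ _ _ _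
    _ = coef γ'.law b' ν := by rw [funext hb]

end Groth.Agent.Lib.PolLaw.Finite
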