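import Mathlib.Topology.Connected.Clopen
import Mathlib.Data.Set.Card

/-!
# A space whose clopen sets all meet a given finite set has finitely many components
-/

universe u

namespace Groth.Agent.Lib.PolLaw.FiniteComponents

variable {X : Type u} [TopologicalSpace X] (S : Set X)

theorem isClopen_connectedComponent (hS : S.Finite) (hmeet : ∀ W : Set X, IsClopen W → W.Nonempty → (W ∩ S).Nonempty)
    (x : X) : IsClopen (connectedComponent x) := by
  classical
  let T := {W : Set X | IsClopen W ∧ x ∈ W}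
  have hinj : Set.InjOn (fun W => W ∩ S) {W : Set X | IsClopen W} := by
    have key : ∀ W W' : Set X, IsClopen W → IsClopen W' → W ∩ S = W' ∩ S → W ⊆ W' := by
      intro W W' hW hW' h
      by_contra hsub
      obtain ⟨y, hy, hyS⟩ := hmeet (W ∩ W'ᶜ) (hW.inter hW'.compl) (Set.not_subset.1 hsub)
      exact hy.2 (h ▸ (⟨hy.1, hyS⟩ : y ∈ W ∩ S) : y ∈ W' ∩ S).1
    exact fun W hW W' hW' h => (key W W' hW hW' h).antisymm (key W' W hW' hW h.symm)
  have hT : T.Finite := by
    refine Set.Finite.of_finite_image (hS.finite_subsets.subset ?_) (hinj.mono fun W hW => hW.1)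
    rintro _ ⟨W, -, rfl⟩
    exact Set.inter_subset_right
  let W₀ := ⋂ W ∈ T, W
  have hW₀ : IsClopen W₀ := hT.isClopen_biInter fun W hW => hW.1
  have hx : x ∈ W₀ := Set.mem_iInter₂.2 fun W hW => hW.2
  have hconn : IsPreconnected W₀ := by
    refine isPreconnected_iff_subset_of_fully_disjoint_closed hW₀.1 |>.2 fun u v hu hv hsub hdisj => ?_
    have hU : IsClopen (W₀ ∩ u) := by
      refine ⟨hW₀.1.inter hu, ?_⟩
      rw [show W₀ ∩ u = W₀ ∩ vᶜ from Set.ext fun y => ⟨fun h => ⟨h.1, fun hy => Set.disjoint_left.1 hdisj h.2 hy⟩,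
        fun h => ⟨h.1, (hsub h.1).resolve_right h.2⟩⟩]
      exact hW₀.2.inter hv.isOpen_compl
    by_cases hxu : x ∈ u
    · exact Or.inl fun y hy => (Set.mem_iInter₂.1 hy (W₀ ∩ u) ⟨hU, hx, hxu⟩).2
    · refine Or.inr fun y hy => ?_
      have := Set.mem_iInter₂.1 hy (W₀ \ (W₀ ∩ u)) ⟨hW₀.diff hU, hx, fun h => hxu h.2⟩
      exact (hsub hy).resolve_left fun hyu => this.2 ⟨hy, hyu⟩
  rw [Set.Subset.antisymm (isPreconnected_connectedComponent.subset_isClopen hW₀ ⟨x, mem_connectedComponent, hx⟩)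
    (hconn.subset_connectedComponent hx)]
  exact hW₀

theorem card_le (hS : S.Finite) (hmeet : ∀ W : Set X, IsClopen W → W.Nonempty → (W ∩ S).Nonempty) :
    Finite (ConnectedComponents X) ∧ Nat.card (ConnectedComponents X) ≤ S.ncard := by
  have := hS.to_subtype
  have hsurj : Function.Surjective fun s : S => (ConnectedComponents.mk (s : X)) := by
    intro c
    obtain ⟨x, rfl⟩ := ConnectedComponents.surjective_coe c
    obtain ⟨y, hy, hyS⟩ := hmeet _ (isClopen_connectedComponent S hS hmeet x) ⟨x, mem_connectedComponent⟩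
    exact ⟨⟨y, hyS⟩, ConnectedComponents.coe_eq_coe'.2 hy⟩
  refine ⟨Finite.of_surjective _ hsurj, (Nat.card_le_card_of_surjective _ hsurj).trans ?_⟩
  rw [Nat.card_coe_set_eq]

end Groth.Agent.Lib.PolLaw.FiniteComponents
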