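import Groth.Agent.Lib.PolLaw.CayleyHamilton
import Mathlib.RingTheory.FiniteType

/-!
# Divided powers of an algebra of finite type are of finite type
-/

universe u

open scoped TensorProduct

namespace Groth.Agent.Lib.PolLaw.FiniteType

open Coeff Val

variable {A : Type u} [CommRing A] {B C : Type u} [CommRing B] [Algebra A B] [CommRing C] [Algebra A C] {d : ℕ}

/-- The elements of `C ⊗ B` by which the law is invariant. -/
def nullIdeal (F : _root_.PolLaw.MulLaw A B C d) : Ideal (C ⊗[A] B) where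
  carrier := {z | ∀ (R : Type u) [CommRing R] [Algebra A R] (h : C →ₐ[A] R) (y w : R ⊗[A] B),
    val F h (y + w * Algebra.TensorProduct.map h (AlgHom.id A B) z) = val F h y}
  add_mem' {z z'} hz hz' := fun R _ _ h y w => by
    rw [map_add, mul_add, ← add_assoc, hz' R h _ w, hz R h y w]
  zero_mem' := fun R _ _ h y w => by rw [map_zero, mul_zero, add_zero]
  smul_mem' a z hz := fun R _ _ h y w => by
    rw [smul_eq_mul, map_mul, ← mul_assoc]
    exact hz R h y _

theorem mem_nullIdeal {F : _root_.PolLaw.MulLaw A B C d} {z : C ⊗[A] B} : z ∈ nullIdeal F ↔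
    ∀ (R : Type u) [CommRing R] [Algebra A R] (h : C →ₐ[A] R) (y w : R ⊗[A] B),
      val F h (y + w * Algebra.TensorProduct.map h (AlgHom.id A B) z) = val F h y := Iff.rfl

/-- The equation of degree `d` satisfied by `x`. -/
theorem sum_coef_mem_nullIdeal (F : _root_.PolLaw.MulLaw A B C d) (x : B) :
    ∑ ν ∈ degSet (Fin 2) d, ((-1) ^ (ν 0) * coef F.law ![1, x] ν) ⊗ₜ[A] (x ^ ν 0) ∈
      nullIdeal F := by
  classical
  have h1 : Polynomial.aeval ((1 : C) ⊗ₜ[A] x) (chi F (AlgHom.id A C) ((1 : C) ⊗ₜ[A] x)) ∈ nullIdeal F := by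
    intro R _ _ h y w
    rw [← CayleyHamilton.val_add_mul_aeval F h (Algebra.TensorProduct.map h (AlgHom.id A B) ((1 : C) ⊗ₜ[A] x)) y w]
    congr 3
    have e1 := chi_map F h (AlgHom.id A C) ((1 : C) ⊗ₜ[A] x)
    rw [AlgHom.comp_id] at e1
    rw [← e1, Polynomial.aeval_def, Polynomial.aeval_def, Polynomial.eval₂_map,
      ← AlgHom.coe_toRingHom (Algebra.TensorProduct.map h (AlgHom.id A B)), Polynomial.hom_eval₂]
    congr 1
  have e : toPoly C B ((1 : C) ⊗ₜ[A] x) - (Polynomial.X : Polynomial C) • (1 : Polynomial C ⊗[A] B) =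
      ∑ i, ![-(Polynomial.X : Polynomial C), 1] i ⊗ₜ[A] ![1, x] i := by
    simp [toPoly, Fin.sum_univ_two, Algebra.TensorProduct.one_def, TensorProduct.smul_tmul', TensorProduct.neg_tmul,
      add_comm, sub_eq_add_neg]
  rw [chi, e, val_sum, map_sum] at h1
  convert h1 using 2 with ν
  rw [Fin.prod_univ_two, map_mul, map_mul, map_pow, map_pow]
  simp only [Matrix.cons_val_zero, Matrix.cons_val_one, map_neg, map_one, one_pow, mul_one, Polynomial.aeval_X,
    AlgHom.comp_apply, AlgHom.id_apply, Polynomial.CAlgHom_apply, Polynomial.aeval_C]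
  rw [← TensorProduct.neg_tmul, Algebra.TensorProduct.tmul_pow, Algebra.TensorProduct.algebraMap_apply,
    Algebra.algebraMap_self, RingHom.id_apply, Algebra.TensorProduct.tmul_mul_tmul, mul_one]

/-- A law is invariant under adding multiples of null elements. -/
theorem val_add_sum (F : _root_.PolLaw.MulLaw A B C d) {R : Type u} [CommRing R] [Algebra A R] (h : C →ₐ[A] R)
    {ι : Type*} (s : Finset ι) (w : ι → R ⊗[A] B) (z : ι → C ⊗[A] B) (hz : ∀ i, z i ∈ nullIdeal F) (y : R ⊗[A] B) :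
    val F h (y + ∑ i ∈ s, w i * Algebra.TensorProduct.map h (AlgHom.id A B) (z i)) = val F h y := by
  classical
  induction s using Finset.induction_on generalizing y with
  | empty => simp
  | insert i s hi ih =>
    rw [Finset.sum_insert hi, ← add_assoc, ih, hz i R h y (w i)]

/-- The monomials with small exponents. -/
def box {m : ℕ} (x : Fin m → B) (d : ℕ) (e : Fin m → Fin d) : B := ∏ i, x i ^ (e i : ℕ)

open scoped Classical in
theorem coef_mem_of_generators {m : ℕ} (x : Fin m → B) (hx : Algebra.adjoin A (Set.range x) = ⊤)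
    (F : _root_.PolLaw.MulLaw A B C d) (hd : 0 < d) (C₀ : Subalgebra A C)
    (h₁ : ∀ i, ∀ ν ∈ degSet (Fin 2) d, coef F.law ![1, x i] ν ∈ C₀)
    (h₂ : ∀ ν ∈ degSet (Fin m → Fin d) d, coef F.law (box x d) ν ∈ C₀)
    {n : ℕ} (b : Fin n → B) (ν : Fin n →₀ ℕ) : coef F.law b ν ∈ C₀ := by
  let M₀ : Submodule C₀ (C ⊗[A] B) :=
    Submodule.span C₀ (Set.range fun e => (1 : C) ⊗ₜ[A] box x d e) ⊔ (nullIdeal F).restrictScalars C₀
  have hN : ∀ z ∈ nullIdeal F, z ∈ M₀ := fun z hz => Submodule.mem_sup_right hz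
  have hbox : ∀ e, (1 : C) ⊗ₜ[A] box x d e ∈ M₀ := fun e =>
    Submodule.mem_sup_left (Submodule.subset_span ⟨e, rfl⟩)
  have hstep : ∀ i, ∀ y ∈ M₀, ((1 : C) ⊗ₜ[A] x i) * y ∈ M₀ := by
    intro i y hy
    obtain ⟨p, hp, q, hq, rfl⟩ := Submodule.mem_sup.1 hy
    rw [mul_add]
    refine add_mem ?_ (hN _ (Ideal.mul_mem_left _ _ hq))
    refine Submodule.span_induction (p := fun v _ => ((1 : C) ⊗ₜ[A] x i) * v ∈ M₀) ?_ (by simp)
      (fun u v _ _ hu hv => by rw [mul_add]; exact add_mem hu hv)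
      (fun c v _ hv => by rw [mul_smul_comm]; exact Submodule.smul_mem _ _ hv) hp
    rintro _ ⟨e, rfl⟩
    show ((1 : C) ⊗ₜ[A] x i) * ((1 : C) ⊗ₜ[A] box x d e) ∈ M₀
    let rest : B := ∏ j ∈ Finset.univ.erase i, x j ^ (e j : ℕ)
    have hupd : ∀ k : Fin d, box x d (Function.update e i k) = x i ^ (k : ℕ) * rest := fun k => by
      rw [box, ← Finset.mul_prod_erase _ _ (Finset.mem_univ i), Function.update_self]
      exact congrArg _ (Finset.prod_congr rfl fun j hj => by rw [Function.update_of_ne (Finset.mem_erase.1 hj).1])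
    have he : box x d e = x i ^ (e i : ℕ) * rest := by
      rw [← hupd (e i), Function.update_eq_self]
    rw [Algebra.TensorProduct.tmul_mul_tmul, one_mul, he, ← mul_assoc, ← pow_succ']
    by_cases hlt : (e i : ℕ) + 1 < d
    · rw [← hupd ⟨_, hlt⟩]
      exact hbox _
    have hed : (e i : ℕ) + 1 = d := by have := (e i).isLt; omega
    rw [hed]
    have hz := hN _ (Ideal.mul_mem_right ((1 : C) ⊗ₜ[A] rest) _ (sum_coef_mem_nullIdeal F (x i)))
    rw [Finset.sum_mul] at hz
    let ν₀ : Fin 2 →₀ ℕ := Finsupp.equivFunOnFinite.symm ![d, 0]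
    have hν₀ : ν₀ ∈ degSet (Fin 2) d := by simp [mem_degSet, ν₀, Fin.sum_univ_two]
    have hterm : ∀ ν : Fin 2 →₀ ℕ,
        ((-1) ^ (ν 0) * coef F.law ![1, x i] ν) ⊗ₜ[A] (x i ^ ν 0) * ((1 : C) ⊗ₜ[A] rest) =
          ((-1) ^ (ν 0) * coef F.law ![1, x i] ν) • ((1 : C) ⊗ₜ[A] (x i ^ ν 0 * rest)) := fun ν => by
      rw [Algebra.TensorProduct.tmul_mul_tmul, mul_one, TensorProduct.smul_tmul', smul_eq_mul, mul_one]
    rw [← Finset.add_sum_erase _ _ hν₀, hterm] at hz
    have hc : coef F.law ![1, x i] ν₀ = 1 := by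
      have h2 := expand_homog F.homog (S := A) ![(1 : A), 0] ![1, x i]
      rw [show (∑ j, ![(1 : A), 0] j ⊗ₜ[A] ![1, x i] j) = 1 by simp [Fin.sum_univ_two, Algebra.TensorProduct.one_def],
        (F.mult A).1, Finset.sum_eq_single ν₀] at h2
      · simpa [ν₀, Fin.prod_univ_two, Algebra.TensorProduct.one_def] using
          (congrArg (TensorProduct.lid A C) h2).symm
      · intro ν hν hne
        have : ν 1 ≠ 0 := fun h0 => hne (Finsupp.ext fun j => by
          have := mem_degSet.1 hν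
          simp only [Fin.sum_univ_two] at this
          fin_cases j <;> simp [ν₀] <;> omega)
        simp [Fin.prod_univ_two, zero_pow this]
      · exact fun h => absurd hν₀ h
    have hrest : ∀ ν ∈ (degSet (Fin 2) d).erase ν₀,
        ((-1) ^ (ν 0) * coef F.law ![1, x i] ν) ⊗ₜ[A] (x i ^ ν 0) * ((1 : C) ⊗ₜ[A] rest) ∈ M₀ := by
      intro ν hν
      obtain ⟨hne, hν⟩ := Finset.mem_erase.1 hν
      have hk : ν 0 < d := by
        have := mem_degSet.1 hν
        simp only [Fin.sum_univ_two] at this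
        rcases Nat.lt_or_ge (ν 0) d with h | h
        · exact h
        · exact absurd (Finsupp.ext fun j => by fin_cases j <;> simp [ν₀] <;> omega) hne
      rw [hterm, ← hupd ⟨_, hk⟩]
      have hmem : (-1) ^ (ν 0) * coef F.law ![1, x i] ν ∈ C₀ :=
        mul_mem (pow_mem (neg_mem (one_mem _)) _) (h₁ i ν hν)
      exact Submodule.smul_mem M₀ (⟨_, hmem⟩ : C₀) (hbox _)
    have h3 := (M₀.add_mem_iff_left (Submodule.sum_mem _ hrest)).1 hz
    rw [hc, mul_one, show ν₀ 0 = d by simp [ν₀]] at h3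
    have h4 := Submodule.smul_mem M₀ ((-1) ^ d : C₀) h3
    convert h4 using 1
    rw [Subalgebra.smul_def, smul_smul]
    simp [← pow_add, ← two_mul, pow_mul]
  have hone : (1 : C ⊗[A] B) ∈ M₀ := by
    have : box x d (fun _ => ⟨0, hd⟩) = 1 := by simp [box]
    have h5 := hbox fun _ => ⟨0, hd⟩
    rwa [this] at h5
  have hall : ∀ y : B, ∀ v ∈ M₀, ((1 : C) ⊗ₜ[A] y) * v ∈ M₀ := fun y => by
    have hy : y ∈ Algebra.adjoin A (Set.range x) := hx ▸ Algebra.mem_top
    induction hy using Algebra.adjoin_induction with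
    | mem y hy => obtain ⟨i, rfl⟩ := hy; exact hstep i
    | algebraMap a =>
      intro v hv
      rw [show (1 : C) ⊗ₜ[A] algebraMap A B a * v = (algebraMap A C₀ a) • v by
        rw [Algebra.algebraMap_eq_smul_one, TensorProduct.tmul_smul, ← Algebra.TensorProduct.one_def, smul_mul_assoc,
          one_mul, IsScalarTower.algebraMap_smul]]
      exact M₀.smul_mem _ hv
    | add y z _ _ hy hz => exact fun v hv => by rw [TensorProduct.tmul_add, add_mul]; exact add_mem (hy v hv) (hz v hv)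
    | mul y z _ _ hy hz =>
      exact fun v hv => by
        rw [show (1 : C) ⊗ₜ[A] (y * z) = ((1 : C) ⊗ₜ[A] y) * ((1 : C) ⊗ₜ[A] z) by simp, mul_assoc]
        exact hy _ (hz v hv)
  have hdec : ∀ k, ∃ (c : (Fin m → Fin d) → C₀) (z : C ⊗[A] B), z ∈ nullIdeal F ∧
      (1 : C) ⊗ₜ[A] b k = ∑ e, (c e : C) ⊗ₜ[A] box x d e + z := fun k => by
    obtain ⟨p, hp, q, hq, hpq⟩ := Submodule.mem_sup.1 (by simpa using hall (b k) 1 hone : (1 : C) ⊗ₜ[A] b k ∈ M₀)
    obtain ⟨c, rfl⟩ := (Submodule.mem_span_range_iff_exists_fun C₀).1 hp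
    exact ⟨c, q, hq, by simp [← hpq, Subalgebra.smul_def, TensorProduct.smul_tmul']⟩
  choose c z hz hb using hdec
  let R := MvPolynomial (Fin n) C
  let h : C →ₐ[A] R := IsScalarTower.toAlgHom A C R
  have hh : ∀ t, h t = MvPolynomial.C t := fun t => rfl
  have hexp : (∑ k, MvPolynomial.X k ⊗ₜ[A] b k : R ⊗[A] B) =
      ∑ e, (∑ k, MvPolynomial.X k * h (c k e)) ⊗ₜ[A] box x d e +
        ∑ k, (MvPolynomial.X k ⊗ₜ[A] (1 : B)) * Algebra.TensorProduct.map h (AlgHom.id A B) (z k) := by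
    simp only [TensorProduct.sum_tmul]
    rw [Finset.sum_comm, ← Finset.sum_add_distrib]
    refine Finset.sum_congr rfl fun k _ => ?_
    rw [show (MvPolynomial.X k ⊗ₜ[A] b k : R ⊗[A] B) =
      (MvPolynomial.X k ⊗ₜ[A] (1 : B)) * Algebra.TensorProduct.map h (AlgHom.id A B) ((1 : C) ⊗ₜ[A] b k) by simp,
      hb, map_add, map_sum, mul_add, Finset.mul_sum]
    simp
  have key := val_sum F h (fun k => (MvPolynomial.X k : R)) b
  rw [hexp, val_add_sum F h _ _ z hz, val_sum] at key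
  have hlhs : ∀ t : MvPolynomial (Fin n) C, t ∈ (MvPolynomial.mapAlgHom C₀.val).range → MvPolynomial.coeff ν t ∈ C₀ := by
    rintro _ ⟨p, rfl⟩
    show MvPolynomial.coeff ν (MvPolynomial.map _ p) ∈ C₀
    rw [MvPolynomial.coeff_map]
    exact (MvPolynomial.coeff ν p).2
  by_cases hν : ν ∈ degSet (Fin n) d
  swap
  · rw [coef_eq_zero_of_sum_ne F.homog _ _ (fun h' => hν (mem_degSet.2 h'))]
    exact zero_mem _
  have hmem := hlhs (∑ μ ∈ degSet (Fin n) d, (∏ i, MvPolynomial.X i ^ μ i) * h (coef F.law b μ)) ?_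
  · rw [MvPolynomial.coeff_sum, Finset.sum_eq_single ν] at hmem
    · simpa [monomial_one_eq, hh, MvPolynomial.coeff_monomial, mul_comm _ (MvPolynomial.C _), MvPolynomial.coeff_C_mul] using hmem
    · intro μ _ hne
      simp [monomial_one_eq, hh, MvPolynomial.coeff_monomial, hne, mul_comm _ (MvPolynomial.C _), MvPolynomial.coeff_C_mul]
    · exact fun h' => absurd hν h'
  · rw [← key]
    refine Subalgebra.sum_mem _ fun μ hμ => mul_mem (prod_mem fun e _ => pow_mem (sum_mem fun k _ => mul_mem ?_ ?_) _) ?_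
    · exact ⟨MvPolynomial.X k, by simp⟩
    · exact ⟨MvPolynomial.C (c k e), by simp [hh]⟩
    · exact ⟨MvPolynomial.C ⟨_, h₂ μ hμ⟩, by simp [hh]⟩

theorem finiteType {γ : _root_.PolLaw.MulLaw A B C d} (hγ : _root_.PolLaw.IsGammaD γ) [Algebra.FiniteType A B] :
    Algebra.FiniteType A C := by
  classical
  obtain ⟨s, hs⟩ := Algebra.FiniteType.out (R := A) (A := B)
  let x : Fin s.card → B := fun i => (s.equivFin.symm i : B)
  have hx : Algebra.adjoin A (Set.range x) = ⊤ := by
    rw [← hs]; congr 1; ext y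
    exact ⟨by rintro ⟨i, rfl⟩; exact (s.equivFin.symm i).2, fun hy => ⟨s.equivFin ⟨y, hy⟩, by simp [x]⟩⟩
  let T : Finset C := (Finset.univ.biUnion fun i => (degSet (Fin 2) d).image (coef γ.law ![1, x i])) ∪
    (degSet (Fin s.card → Fin d) d).image (coef γ.law (box x d))
  refine ⟨⟨T, top_unique fun c _ => Gamma.mem_of_coef_mem hγ _ (fun n b ν => ?_) c⟩⟩
  rcases Nat.eq_zero_or_pos d with hd | hd
  · -- a law of degree zero is constant
    subst hd
    by_cases hν : ν ∈ degSet (Fin n) 0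
    swap
    · rw [coef_eq_zero_of_sum_ne γ.homog _ _ (fun h' => hν (mem_degSet.2 h'))]
      exact zero_mem _
    have hν0 : ν = 0 := Finsupp.ext fun i => by
      have h0 := mem_degSet.1 hν
      exact Finset.sum_eq_zero_iff.1 h0 i (Finset.mem_univ i)
    have h0 : val γ (AlgHom.id A C) (0 : C ⊗[A] B) = val γ (AlgHom.id A C) 1 := by
      conv_lhs => rw [← zero_smul C (1 : C ⊗[A] B), val_smul, pow_zero, one_mul]
    rw [val_one, show (0 : C ⊗[A] B) = ∑ i, (0 : C) ⊗ₜ[A] b i by simp, val_sum, Finset.sum_eq_single ν] at h0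
    · simp [hν0] at h0
      rw [hν0, h0]
      exact one_mem _
    · intro μ hμ hne
      refine absurd ?_ hne
      rw [hν0]
      exact Finsupp.ext fun i => Finset.sum_eq_zero_iff.1 (mem_degSet.1 hμ) i (Finset.mem_univ i)
    · exact fun h' => absurd hν h'
  refine coef_mem_of_generators x hx γ hd _ (fun i μ hμ => Algebra.subset_adjoin ?_) (fun μ hμ => Algebra.subset_adjoin ?_) b ν
  · exact Finset.mem_union_left _ (Finset.mem_biUnion.2 ⟨i, Finset.mem_univ _, Finset.mem_image_of_mem _ hμ⟩)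
  · exact Finset.mem_union_right _ (Finset.mem_image_of_mem _ hμ)

end Groth.Agent.Lib.PolLaw.FiniteType
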