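import Groth.Agent.Lib.PolLaw.Tpow
import Mathlib.RingTheory.Flat.EquationalCriterion
import Mathlib.LinearAlgebra.PiTensorProduct.Basis
import Mathlib.LinearAlgebra.StdBasis

/-!
# Tensor powers of flat modules: reduction of relations to free modules of finite rank
-/

universe u

open scoped TensorProduct

namespace Groth.Agent.Lib.PolLaw.FlatTensor

variable {A : Type u} [CommRing A] {d : ℕ}

/-- The tensor power of a linear map. -/
noncomputable def tm {M N : Type u} [AddCommGroup M] [Module A M] [AddCommGroup N] [Module A N] (f : M →ₗ[A] N) :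
    (⨂[A] _ : Fin d, M) →ₗ[A] ⨂[A] _ : Fin d, N :=
  PiTensorProduct.map fun _ => f

variable {M N P : Type u} [AddCommGroup M] [Module A M] [AddCommGroup N] [Module A N] [AddCommGroup P] [Module A P]

@[simp]
theorem tm_tprod (f : M →ₗ[A] N) (x : Fin d → M) :
    tm f (PiTensorProduct.tprod A x) = PiTensorProduct.tprod A fun i => f (x i) := by
  simp [tm]

theorem tm_comp (g : N →ₗ[A] P) (f : M →ₗ[A] N) (t : ⨂[A] _ : Fin d, M) : tm (g ∘ₗ f) t = tm g (tm f t) := by
  induction t using PiTensorProduct.induction_on with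
  | smul_tprod a x => simp
  | add x y hx hy => simp only [map_add, hx, hy]

theorem tm_reindex (f : M →ₗ[A] N) (σ : Equiv.Perm (Fin d)) (t : ⨂[A] _ : Fin d, M) :
    tm f (PiTensorProduct.reindex A (fun _ : Fin d => M) σ t) =
      PiTensorProduct.reindex A (fun _ : Fin d => N) σ (tm f t) := by
  induction t using PiTensorProduct.induction_on with
  | smul_tprod a x => simp [PiTensorProduct.reindex_tprod]
  | add x y hx hy => simp only [map_add, hx, hy]

/-- The kernel of the tensor power of a surjection is spanned by pure tensors with a factor in the kernel. -/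
theorem mem_span_of_tm_eq_zero (π : M →ₗ[A] N) (hπ : Function.Surjective π) {t : ⨂[A] _ : Fin d, M}
    (ht : tm π t = 0) :
    t ∈ Submodule.span A {z | ∃ x : Fin d → M, (∃ i, π (x i) = 0) ∧ z = PiTensorProduct.tprod A x} := by
  set G := {z : ⨂[A] _ : Fin d, M | ∃ x : Fin d → M, (∃ i, π (x i) = 0) ∧ z = PiTensorProduct.tprod A x}
  let mk := (Submodule.span A G).mkQ
  have key : ∀ (x : Fin d → M) (i : Fin d) (y z : M), π y = π z →
      mk (PiTensorProduct.tprod A (Function.update x i y)) = mk (PiTensorProduct.tprod A (Function.update x i z)) := by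
    intro x i y z h
    rw [← sub_eq_zero, ← map_sub, ← MultilinearMap.map_update_sub]
    refine (Submodule.Quotient.mk_eq_zero _).2 (Submodule.subset_span ⟨_, ⟨i, ?_⟩, rfl⟩)
    simp [h]
  have upd : ∀ (x : Fin d → M) (x' : Fin d → M), (∀ i, π (x i) = π (x' i)) →
      mk (PiTensorProduct.tprod A x) = mk (PiTensorProduct.tprod A x') := by
    intro x x' h
    suffices ∀ s : Finset (Fin d), mk (PiTensorProduct.tprod A (s.piecewise x' x)) = mk (PiTensorProduct.tprod A x) by
      rw [← this Finset.univ, Finset.piecewise_univ]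
    intro s
    induction s using Finset.induction_on with
    | empty => rw [Finset.piecewise_empty]
    | insert i s hi ih =>
      rw [Finset.piecewise_insert, key (s.piecewise x' x) i (x' i) (x i) (h i).symm, ← ih]
      congr 2
      exact Function.update_eq_self_iff.2 (Finset.piecewise_eq_of_notMem _ _ _ hi).symm
  let s := Function.surjInv hπ
  have hs : ∀ y, π (s y) = y := Function.surjInv_eq hπ
  let m : MultilinearMap A (fun _ : Fin d => N) ((⨂[A] _ : Fin d, M) ⧸ Submodule.span A G) :=
    { toFun := fun y => mk (PiTensorProduct.tprod A fun i => s (y i))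
      map_update_add' := fun y i a b => by
        rw [upd (fun j => s (Function.update y i (a + b) j))
          (Function.update (fun j => s (y j)) i (s a + s b)) fun j => by by_cases hj : j = i <;> simp [hj, hs],
          upd (fun j => s (Function.update y i a j)) (Function.update (fun j => s (y j)) i (s a))
            fun j => by by_cases hj : j = i <;> simp [hj, hs],
          upd (fun j => s (Function.update y i b j)) (Function.update (fun j => s (y j)) i (s b))
            fun j => by by_cases hj : j = i <;> simp [hj, hs],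
          MultilinearMap.map_update_add, map_add]
      map_update_smul' := fun y i c a => by
        rw [upd (fun j => s (Function.update y i (c • a) j))
          (Function.update (fun j => s (y j)) i (c • s a)) fun j => by by_cases hj : j = i <;> simp [hj, hs],
          upd (fun j => s (Function.update y i a j)) (Function.update (fun j => s (y j)) i (s a))
            fun j => by by_cases hj : j = i <;> simp [hj, hs],
          MultilinearMap.map_update_smul, map_smul] }
  have hm : (PiTensorProduct.lift m).comp (tm π) = mk := by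
    refine PiTensorProduct.ext (MultilinearMap.ext fun x => ?_)
    simp only [LinearMap.compMultilinearMap_apply, LinearMap.comp_apply, tm_tprod, PiTensorProduct.lift.tprod]
    exact upd _ _ fun i => hs _
  refine (Submodule.Quotient.mk_eq_zero _).1 ?_
  show mk t = 0
  rw [← hm, LinearMap.comp_apply, ht, map_zero]

variable {B : Type u} [AddCommGroup B] [Module A B] [Module.Flat A B]

/-- A relation in the tensor power of a flat module holds after a map to a free module of finite rank. -/
theorem exists_kill {n : ℕ} (f : (Fin n → A) →ₗ[A] B) (t : ⨂[A] _ : Fin d, (Fin n → A)) (ht : tm f t = 0) :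
    ∃ (m : ℕ) (g : (Fin n → A) →ₗ[A] (Fin m → A)) (f' : (Fin m → A) →ₗ[A] B),
      f'.comp g = f ∧ tm g t = 0 := by
  classical
  let F := B →₀ A
  let π : F →ₗ[A] B := Finsupp.linearCombination A id
  have hπ : Function.Surjective π := fun b => ⟨Finsupp.single b 1,
    (Finsupp.linearCombination_single A 1 b).trans (one_smul A b)⟩
  let e := Pi.basisFun A (Fin n)
  let v : Fin n → F := fun i => Finsupp.single (f (e i)) 1
  let f₀ : (Fin n → A) →ₗ[A] F := e.constr A v
  have hf₀ : π ∘ₗ f₀ = f := e.ext fun i => by
    rw [LinearMap.comp_apply, Module.Basis.constr_basis]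
    exact (Finsupp.linearCombination_single A 1 (f (e i))).trans (one_smul A _)
  have h0 := mem_span_of_tm_eq_zero π hπ (t := tm f₀ t) (by rw [← tm_comp, hf₀, ht])
  obtain ⟨L, z, hz, hsum⟩ : ∃ (L : ℕ) (z : Fin L → ⨂[A] _ : Fin d, F),
      (∀ l, z l ∈ {z | ∃ x : Fin d → F, (∃ i, π (x i) = 0) ∧ z = PiTensorProduct.tprod A x}) ∧
        tm f₀ t ∈ Submodule.span A (Set.range z) := by
    obtain ⟨T, hT, hmem⟩ := Submodule.mem_span_finite_of_mem_span h0
    exact ⟨T.card, fun l => (T.equivFin.symm l : ⨂[A] _ : Fin d, F), fun l => hT (T.equivFin.symm l).2,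
      Submodule.span_mono (fun w hw => show w ∈ Set.range (fun l => (T.equivFin.symm l : ⨂[A] _ : Fin d, F)) from
        ⟨T.equivFin ⟨w, hw⟩, by simp⟩) hmem⟩
  choose x hx1 hx using hz
  choose i hi using hx1
  let S : Finset B := Finset.univ.image (fun j => f (e j)) ∪
    Finset.univ.biUnion fun p : Fin L × Fin d => (x p.1 p.2).support
  let r : F →ₗ[A] (S → A) := LinearMap.pi fun s => Finsupp.lapply (s : B)
  let πS : (S → A) →ₗ[A] B := ∑ s : S, (LinearMap.proj s : (S → A) →ₗ[A] A).smulRight (s : B)
  have hr : ∀ w : F, w.support ⊆ S → πS (r w) = π w := by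
    intro w hw
    rw [show πS (r w) = ∑ s : S, w (s : B) • (s : B) from (LinearMap.sum_apply _ _ _).trans rfl,
      show π w = w.sum fun b a => a • b from Finsupp.linearCombination_apply A w,
      Finset.sum_coe_sort S (fun b => w b • b)]
    exact (Finsupp.sum_of_support_subset _ hw (fun b a => a • b) (fun b _ => zero_smul A b)).symm
  let R : (Fin L → A) →ₗ[A] (S → A) := (Pi.basisFun A (Fin L)).constr A fun l => r (x l (i l))
  have hR : πS ∘ₗ R = 0 := (Pi.basisFun A (Fin L)).ext fun l => by
    simp only [LinearMap.comp_apply, LinearMap.zero_apply, R, Module.Basis.constr_basis]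
    rw [hr _ fun b hb => Finset.mem_union_right _ (Finset.mem_biUnion.2 ⟨(l, i l), Finset.mem_univ _, hb⟩), hi]
  obtain ⟨k, a, y, hy, haR⟩ := Module.Flat.exists_factorization_of_comp_eq_zero_of_free hR
  let c : (Fin k →₀ A) ≃ₗ[A] (Fin k → A) := Finsupp.linearEquivFunOnFinite A A (Fin k)
  refine ⟨k, c.toLinearMap ∘ₗ a ∘ₗ r ∘ₗ f₀, y ∘ₗ c.symm.toLinearMap, e.ext fun j => ?_, ?_⟩
  · simp only [LinearMap.comp_apply, LinearEquiv.coe_coe, LinearEquiv.symm_apply_apply]
    rw [← LinearMap.comp_apply y a, ← hy, hr, ← LinearMap.comp_apply π f₀, hf₀]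
    simp only [f₀, Module.Basis.constr_basis, v]
    refine Finsupp.support_single_subset.trans (Finset.singleton_subset_iff.2 ?_)
    exact Finset.mem_union_left _ (Finset.mem_image_of_mem _ (Finset.mem_univ j))
  · rw [tm_comp, tm_comp, tm_comp]
    suffices tm a (tm r (tm f₀ t)) = 0 by rw [this, map_zero]
    revert hsum
    generalize tm f₀ t = w
    intro hsum
    induction hsum using Submodule.span_induction with
    | mem w hw =>
      obtain ⟨l, rfl⟩ := hw
      rw [hx l, tm_tprod, tm_tprod]
      refine MultilinearMap.map_coord_zero _ (i l) ?_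
      have := LinearMap.congr_fun haR (Pi.basisFun A (Fin L) l)
      simpa [R] using this
    | zero => simp
    | add u w _ _ hu hw => simp [hu, hw]
    | smul c u _ hu => simp [hu]

/-- The same for finitely many relations. -/
theorem exists_kill_many {ι : Type*} (s : Finset ι) {n : ℕ} (f : (Fin n → A) →ₗ[A] B)
    (t : ι → ⨂[A] _ : Fin d, (Fin n → A)) (ht : ∀ i ∈ s, tm f (t i) = 0) :
    ∃ (m : ℕ) (g : (Fin n → A) →ₗ[A] (Fin m → A)) (f' : (Fin m → A) →ₗ[A] B),
      f'.comp g = f ∧ ∀ i ∈ s, tm g (t i) = 0 := by
  classical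
  induction s using Finset.induction_on with
  | empty => exact ⟨n, LinearMap.id, f, rfl, by simp⟩
  | insert i s _ ih =>
    obtain ⟨m, g, f', hf, hg⟩ := ih fun j hj => ht j (Finset.mem_insert_of_mem hj)
    obtain ⟨m', g', f'', hf', hg'⟩ := exists_kill f' (tm g (t i)) (by
      rw [← tm_comp, hf]
      exact ht i (Finset.mem_insert_self i s))
    refine ⟨m', g' ∘ₗ g, f'', by rw [← LinearMap.comp_assoc, hf', hf], fun j hj => ?_⟩
    rw [tm_comp]
    rcases Finset.mem_insert.1 hj with rfl | hj
    · exact hg'
    · rw [hg j hj, map_zero]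

omit [Module.Flat A B] in
/-- Every tensor comes from a free module of finite rank. -/
theorem exists_lift {ι : Type} [Fintype ι] (y : ι → ⨂[A] _ : Fin d, B) :
    ∃ (n : ℕ) (f : (Fin n → A) →ₗ[A] B) (t : ι → ⨂[A] _ : Fin d, (Fin n → A)), ∀ i, tm f (t i) = y i := by
  classical
  let F := B →₀ A
  let π : F →ₗ[A] B := Finsupp.linearCombination A id
  have one : ∀ z : ⨂[A] _ : Fin d, B, ∃ S : Finset B, ∀ S' : Finset B, S ⊆ S' → ∃ t : ⨂[A] _ : Fin d, (S' → A),
      tm (∑ s : S', (LinearMap.proj s : (S' → A) →ₗ[A] A).smulRight (s : B)) t = z := by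
    intro z
    induction z using PiTensorProduct.induction_on with
    | smul_tprod a x =>
      refine ⟨Finset.univ.image x, fun S' hS => ?_⟩
      refine ⟨a • PiTensorProduct.tprod A fun k =>
        Pi.single (⟨x k, hS (Finset.mem_image_of_mem x (Finset.mem_univ k))⟩ : S') 1, ?_⟩
      rw [map_smul, tm_tprod]
      congr 2
      funext k
      simp [LinearMap.sum_apply, Pi.single_apply]
    | add u w hu hw =>
      obtain ⟨S, hS⟩ := hu
      obtain ⟨S₂, hS₂⟩ := hw
      refine ⟨S ∪ S₂, fun S' hS' => ?_⟩
      obtain ⟨t, rfl⟩ := hS S' (Finset.union_subset_left hS')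
      obtain ⟨t', rfl⟩ := hS₂ S' (Finset.union_subset_right hS')
      exact ⟨t + t', map_add _ _ _⟩
  choose S hS using fun i => one (y i)
  let U : Finset B := Finset.univ.biUnion S
  choose t ht using fun i => hS i U (Finset.subset_biUnion_of_mem S (Finset.mem_univ i))
  let e : (Fin U.card → A) ≃ₗ[A] (U → A) :=
    LinearEquiv.funCongrLeft A A U.equivFin
  refine ⟨_, (∑ s : U,
    (LinearMap.proj s : (U → A) →ₗ[A] A).smulRight (s : B)) ∘ₗ e.toLinearMap,
      fun i => tm e.symm.toLinearMap (t i), fun i => ?_⟩
  rw [← tm_comp, LinearMap.comp_assoc, LinearEquiv.comp_symm, LinearMap.comp_id, ht]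

end Groth.Agent.Lib.PolLaw.FlatTensor
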