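import Groth.Agent.Lib.PolLaw.OfPoly
import Mathlib.RingTheory.Ideal.Quotient.Operations
import Mathlib.RingTheory.Flat.Basic

/-!
# Existence and generation of `Γ^d_A(B)`
-/

universe u

open scoped TensorProduct

namespace Groth.Agent.Lib.PolLaw.Gamma

open Coeff

variable {A : Type u} [CommRing A]

section Detect

variable {M N : Type u} [AddCommGroup M] [Module A M] [AddCommGroup N] [Module A N]

/-- An element of `A[ι] ⊗ N` is zero when all linear maps in a jointly injective family kill it. -/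
theorem eq_of_forall_coef {ι : Type} {z z' : MvPolynomial ι A ⊗[A] N}
    (h : ∀ ν, coefEquiv z ν = coefEquiv z' ν) : z = z' :=
  coefEquiv.injective (Finsupp.ext h)

end Detect

section Postcomp

variable {M N P Q : Type u} [AddCommGroup M] [Module A M] [AddCommGroup N] [Module A N]
  [AddCommGroup P] [Module A P] [AddCommGroup Q] [Module A Q]

theorem postcomp_comp (g : N →ₗ[A] P) (h : P →ₗ[A] Q) (F : M →ₚₗ[A] N) :
    _root_.PolLaw.postcomp (h ∘ₗ g) F = _root_.PolLaw.postcomp h (_root_.PolLaw.postcomp g F) :=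
  PolynomialLaw.ext (funext fun _ => funext fun _ => funext fun _ => funext fun _ =>
    LinearMap.lTensor_comp_apply _ _ _ _)

theorem postcomp_id (F : M →ₚₗ[A] N) : _root_.PolLaw.postcomp LinearMap.id F = F :=
  PolynomialLaw.ext (funext fun S => funext fun _ => funext fun _ => funext fun _ =>
    LinearMap.lTensor_id_apply _ _ _)

end Postcomp

section IsGamma

variable {B C : Type u} [CommRing B] [Algebra A B] [CommRing C] [Algebra A C] {d : ℕ}

/-- A multiplicative law takes values in any subalgebra containing its coefficients. -/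
theorem exists_codRestrict (F : _root_.PolLaw.MulLaw A B C d) (C₀ : Subalgebra A C)
    (h : ∀ (n : ℕ) (b : Fin n → B) (ν : Fin n →₀ ℕ), coef F.law b ν ∈ C₀) :
    ∃ F₀ : _root_.PolLaw.MulLaw A B C₀ d, _root_.PolLaw.postcomp C₀.val.toLinearMap F₀.law = F.law := by
  classical
  have hinj : ∀ n : ℕ, Function.Injective
      (C₀.val.toLinearMap.lTensor (MvPolynomial (Fin n) A)) :=
    fun n => Module.Flat.lTensor_preserves_injective_linearMap _ Subtype.val_injective
  have hex : ∀ (n : ℕ) (z : MvPolynomial (Fin n) A ⊗[A] B), ∃ y : MvPolynomial (Fin n) A ⊗[A] C₀,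
      C₀.val.toLinearMap.lTensor _ y = F.law.toFun' _ z := by
    intro n z
    obtain ⟨m, s, b, rfl⟩ := exists_rep z
    refine ⟨∑ ν ∈ degSet (Fin m) d, (∏ i, s i ^ ν i) ⊗ₜ[A] ⟨_, h m b ν⟩, ?_⟩
    rw [expand_homog F.homog, map_sum]
    rfl
  choose T hT using hex
  have mapEq : ∀ (n : ℕ) (y : MvPolynomial (Fin n) A ⊗[A] C₀), C₀.val.toLinearMap.lTensor _ y =
      Algebra.TensorProduct.map (AlgHom.id (MvPolynomial (Fin n) A) (MvPolynomial (Fin n) A)) C₀.val y :=
    fun n y => _root_.PolLaw.lTensor_algHom_apply C₀.val _ y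
  have hTc : ∀ (n m : ℕ) (φ : MvPolynomial (Fin n) A →ₐ[A] MvPolynomial (Fin m) A)
      (z : MvPolynomial (Fin n) A ⊗[A] B),
      φ.toLinearMap.rTensor C₀ (T n z) = T m (φ.toLinearMap.rTensor B z) := by
    intro n m φ z
    apply hinj m
    rw [← LinearMap.comp_apply, LinearMap.lTensor_comp_rTensor, ← LinearMap.rTensor_comp_lTensor,
      LinearMap.comp_apply, hT, hT, compat]
  refine ⟨OfPoly.mulLaw T hTc (fun n => ?_) (fun n x y => ?_) (fun n a x => ?_), ?_⟩
  · apply hinj n
    rw [hT, (F.mult _).1, mapEq, map_one]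
  · apply hinj n
    rw [hT, (F.mult _).2, mapEq, map_mul, ← mapEq, ← mapEq, hT, hT]
  · apply hinj n
    rw [hT, F.homog, mapEq, map_smul, ← mapEq, hT]
  · refine ext_poly fun n z => ?_
    show C₀.val.toLinearMap.lTensor _ ((OfPoly.mulLaw T hTc _ _ _).law.toFun' _ z) = _
    rw [OfPoly.mulLaw_apply, hT]

/-- A law is determined by an algebra map which is prescribed on the coefficients. -/
theorem algHom_ext_of_coefSpan {C' : Type u} [CommRing C'] [Algebra A C'] {γ : B →ₚₗ[A] C}
    (hγ : coefSpan γ = ⊤) {f g : C →ₐ[A] C'}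
    (h : _root_.PolLaw.postcomp f.toLinearMap γ = _root_.PolLaw.postcomp g.toLinearMap γ) : f = g := by
  refine AlgHom.toLinearMap_injective (LinearMap.ext_on (s := {c | ∃ (n : ℕ) (b : Fin n → B)
    (ν : Fin n →₀ ℕ), c = coef γ b ν}) hγ ?_)
  rintro _ ⟨n, b, ν, rfl⟩
  rw [← coef_postcomp, ← coef_postcomp, h]

/-- A subalgebra containing the coefficients of `Γ^d` is everything. -/
theorem mem_of_coef_mem {γ : _root_.PolLaw.MulLaw A B C d} (hγ : _root_.PolLaw.IsGammaD γ) (C₀ : Subalgebra A C)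
    (h : ∀ (n : ℕ) (b : Fin n → B) (ν : Fin n →₀ ℕ), coef γ.law b ν ∈ C₀) (c : C) : c ∈ C₀ := by
  obtain ⟨γ₀, hγ₀⟩ := exists_codRestrict γ C₀ h
  obtain ⟨f, hf, -⟩ := hγ _ γ₀
  obtain ⟨g, -, huniq⟩ := hγ C γ
  have h₁ : C₀.val.comp f = g := huniq _ (by
    dsimp only
    rw [AlgHom.comp_toLinearMap, postcomp_comp, hf, hγ₀])
  have h₂ : AlgHom.id A C = g := huniq _ (by
    dsimp only
    rw [show (AlgHom.id A C).toLinearMap = LinearMap.id from rfl, postcomp_id])
  rw [← AlgHom.id_apply (R := A) c, h₂, ← h₁]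
  exact (f c).2

/-- The coefficients span `Γ^d`. -/
theorem coefSpan_eq_top {γ : _root_.PolLaw.MulLaw A B C d} (hγ : _root_.PolLaw.IsGammaD γ) :
    coefSpan γ.law = ⊤ :=
  Submodule.eq_top_iff'.2 fun c => (mem_coefAlg γ.law γ.mult c).1
    (mem_of_coef_mem hγ _ (fun n b ν => (mem_coefAlg γ.law γ.mult _).2 (coef_mem_coefSpan γ.law b ν)) c)

/-- Algebra maps out of `Γ^d` agree when they agree on the coefficients. -/
theorem hom_ext {γ : _root_.PolLaw.MulLaw A B C d} (hγ : _root_.PolLaw.IsGammaD γ) {C' : Type u} [CommRing C']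
    [Algebra A C'] {f g : C →ₐ[A] C'}
    (h : ∀ (n : ℕ) (b : Fin n → B) (ν : Fin n →₀ ℕ), f (coef γ.law b ν) = g (coef γ.law b ν)) : f = g := by
  refine algHom_ext_of_coefSpan (coefSpan_eq_top hγ) (ext_coef fun n b => Finsupp.ext fun ν => ?_)
  show coef _ b ν = coef _ b ν
  rw [coef_postcomp, coef_postcomp]
  exact h n b ν

/-- The algebra map attached to a law, on coefficients. -/
theorem apply_coef {C' : Type u} [CommRing C'] [Algebra A C'] {γ : _root_.PolLaw.MulLaw A B C d}
    {F : _root_.PolLaw.MulLaw A B C' d} {f : C →ₐ[A] C'}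
    (hf : _root_.PolLaw.postcomp f.toLinearMap γ.law = F.law) {ι : Type} [Fintype ι] (b : ι → B) (ν : ι →₀ ℕ) :
    f (coef γ.law b ν) = coef F.law b ν := by
  rw [← hf, coef_postcomp]
  rfl

end IsGamma

section Exists

variable (A) (B : Type u) [CommRing B] [Algebra A B] (d : ℕ)

/-- Symbols for the coefficients. -/
abbrev Sym : Type u := Σ n : ℕ, (Fin n → B) × (Fin n →₀ ℕ)

variable {A B d}

/-- Evaluation of the symbols at a law. -/
noncomputable def ev {C' : Type u} [CommRing C'] [Algebra A C'] (F : _root_.PolLaw.MulLaw A B C' d) :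
    MvPolynomial (Sym B) A →ₐ[A] C' :=
  MvPolynomial.aeval fun t => coef F.law t.2.1 t.2.2

variable (A B d)

/-- The relations holding in every law. -/
noncomputable def relIdeal : Ideal (MvPolynomial (Sym B) A) where
  carrier := {p | ∀ (C' : Type u) [CommRing C'] [Algebra A C'] (F : _root_.PolLaw.MulLaw A B C' d), ev F p = 0}
  zero_mem' C' _ _ F := map_zero _
  add_mem' hp hq C' _ _ F := by rw [map_add, hp C' F, hq C' F, add_zero]
  smul_mem' c p hp C' _ _ F := by rw [smul_eq_mul, map_mul, hp C' F, mul_zero]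

/-- The algebra `Γ^d_A(B)`. -/
abbrev Alg : Type u := MvPolynomial (Sym B) A ⧸ relIdeal A B d

variable {A B d}

/-- The algebra map attached to a law. -/
noncomputable def lift {C' : Type u} [CommRing C'] [Algebra A C'] (F : _root_.PolLaw.MulLaw A B C' d) :
    Alg A B d →ₐ[A] C' :=
  Ideal.Quotient.liftₐ (relIdeal A B d) (ev F) fun p hp => hp C' F

/-- The universal coefficient. -/
noncomputable def cls {n : ℕ} (b : Fin n → B) (ν : Fin n →₀ ℕ) : Alg A B d :=
  Ideal.Quotient.mk _ (MvPolynomial.X ⟨n, b, ν⟩)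

theorem lift_cls {C' : Type u} [CommRing C'] [Algebra A C'] (F : _root_.PolLaw.MulLaw A B C' d) {n : ℕ}
    (b : Fin n → B) (ν : Fin n →₀ ℕ) : lift F (cls b ν) = coef F.law b ν := by
  show ev F (MvPolynomial.X ⟨n, b, ν⟩) = _
  simp [ev]

theorem eq_of_forall_lift {x y : Alg A B d}
    (h : ∀ (C' : Type u) [CommRing C'] [Algebra A C'] (F : _root_.PolLaw.MulLaw A B C' d),
      lift F x = lift F y) : x = y := by
  obtain ⟨p, rfl⟩ := Ideal.Quotient.mk_surjective x
  obtain ⟨q, rfl⟩ := Ideal.Quotient.mk_surjective y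
  refine Ideal.Quotient.eq.2 fun C' _ _ F => ?_
  rw [map_sub, sub_eq_zero]
  exact h C' F

theorem eq_of_forall_lTensor {n : ℕ} {z z' : MvPolynomial (Fin n) A ⊗[A] Alg A B d}
    (h : ∀ (C' : Type u) [CommRing C'] [Algebra A C'] (F : _root_.PolLaw.MulLaw A B C' d),
      (lift F).toLinearMap.lTensor _ z = (lift F).toLinearMap.lTensor _ z') : z = z' := by
  refine eq_of_forall_coef fun ν => eq_of_forall_lift fun C' _ _ F => ?_
  have := congrArg (fun w => coefEquiv w ν) (h C' F)
  simp only [coefEquiv_lTensor] at this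
  exact this

theorem exists_value (n : ℕ) (z : MvPolynomial (Fin n) A ⊗[A] B) :
    ∃ y : MvPolynomial (Fin n) A ⊗[A] Alg A B d,
      ∀ (C' : Type u) [CommRing C'] [Algebra A C'] (F : _root_.PolLaw.MulLaw A B C' d),
        (lift F).toLinearMap.lTensor _ y = F.law.toFun' _ z := by
  obtain ⟨m, s, b, rfl⟩ := exists_rep z
  refine ⟨∑ ν ∈ degSet (Fin m) d, (∏ i, s i ^ ν i) ⊗ₜ[A] cls b ν, fun C' _ _ F => ?_⟩
  rw [expand_homog F.homog, map_sum]
  simp [lift_cls]

variable (A B d) in
/-- Values of the universal law on polynomial rings. -/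
noncomputable def val (n : ℕ) (z : MvPolynomial (Fin n) A ⊗[A] B) : MvPolynomial (Fin n) A ⊗[A] Alg A B d :=
  (exists_value n z).choose

theorem lTensor_val {C' : Type u} [CommRing C'] [Algebra A C'] (F : _root_.PolLaw.MulLaw A B C' d) (n : ℕ)
    (z : MvPolynomial (Fin n) A ⊗[A] B) :
    (lift F).toLinearMap.lTensor _ (val A B d n z) = F.law.toFun' _ z :=
  (exists_value n z).choose_spec C' F

theorem val_compat (n m : ℕ) (φ : MvPolynomial (Fin n) A →ₐ[A] MvPolynomial (Fin m) A)
    (z : MvPolynomial (Fin n) A ⊗[A] B) :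
    φ.toLinearMap.rTensor _ (val A B d n z) = val A B d m (φ.toLinearMap.rTensor B z) := by
  refine eq_of_forall_lTensor fun C' _ _ F => ?_
  rw [← LinearMap.comp_apply, LinearMap.lTensor_comp_rTensor, ← LinearMap.rTensor_comp_lTensor,
    LinearMap.comp_apply, lTensor_val, lTensor_val, compat]

variable (A B d) in
/-- The universal multiplicative law of degree `d`. -/
noncomputable def univ : _root_.PolLaw.MulLaw A B (Alg A B d) d :=
  OfPoly.mulLaw (val A B d) val_compat
    (fun n => eq_of_forall_lTensor fun C' _ _ F => by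
      rw [lTensor_val, (F.mult _).1, _root_.PolLaw.lTensor_algHom_apply, map_one])
    (fun n x y => eq_of_forall_lTensor fun C' _ _ F => by
      rw [lTensor_val, (F.mult _).2, _root_.PolLaw.lTensor_algHom_apply, map_mul,
        ← _root_.PolLaw.lTensor_algHom_apply, ← _root_.PolLaw.lTensor_algHom_apply, lTensor_val, lTensor_val])
    (fun n a x => eq_of_forall_lTensor fun C' _ _ F => by
      rw [lTensor_val, F.homog, _root_.PolLaw.lTensor_algHom_apply, map_smul,
        ← _root_.PolLaw.lTensor_algHom_apply, lTensor_val])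

theorem postcomp_lift_univ {C' : Type u} [CommRing C'] [Algebra A C'] (F : _root_.PolLaw.MulLaw A B C' d) :
    _root_.PolLaw.postcomp (lift F).toLinearMap (univ A B d).law = F.law := by
  refine ext_poly fun n z => ?_
  show (lift F).toLinearMap.lTensor _ ((univ A B d).law.toFun' _ z) = _
  rw [univ, OfPoly.mulLaw_apply, lTensor_val]

theorem coef_univ {n : ℕ} (b : Fin n → B) (ν : Fin n →₀ ℕ) : coef (univ A B d).law b ν = cls b ν :=
  eq_of_forall_lift fun C' _ _ F => by
    rw [lift_cls, ← postcomp_lift_univ F, coef_postcomp]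
    rfl

variable (A B d) in
/-- `Γ^d_A(B)` exists. -/
theorem isGammaD_univ : _root_.PolLaw.IsGammaD (univ A B d) := by
  intro C' _ _ F
  refine ⟨lift F, postcomp_lift_univ F, fun f hf => ?_⟩
  refine Ideal.Quotient.algHom_ext A (MvPolynomial.algHom_ext fun t => ?_)
  show f (cls t.2.1 t.2.2) = lift F (cls t.2.1 t.2.2)
  rw [← coef_univ, apply_coef hf, coef_univ, lift_cls]

end Exists

end Groth.Agent.Lib.PolLaw.Gamma
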