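import Groth.Agent.Lib.PolLaw.Coeff
import Mathlib.Algebra.MvPolynomial.Rename

/-!
# The coefficients of a multiplicative law are generated by those along the pairs `(1, a)`
-/

universe u

open scoped TensorProduct

namespace Groth.Agent.Lib.PolLaw.Generate

open Coeff

variable {A : Type u} [CommRing A]

/-- Coefficients along a subfamily. -/
theorem coef_extend {M N : Type u} [AddCommGroup M] [Module A M] [AddCommGroup N] [Module A N]
    {ι κ : Type} [Fintype ι] [Fintype κ] (f : ι → κ) (hf : Function.Injective f) (F : M →ₚₗ[A] N) (b : κ → M)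
    (ν : ι →₀ ℕ) : coef F b (ν.mapDomain f) = coef F (fun i => b (f i)) ν := by
  classical
  let φ := MvPolynomial.killCompl (R := A) hf
  have hgen : φ.toLinearMap.rTensor M (gen b) = gen fun i => b (f i) := by
    rw [rTensor_gen, gen, ← Finset.sum_subset (Finset.subset_univ (Finset.univ.image f))]
    · rw [Finset.sum_image fun x _ y _ h => hf h]
      refine Finset.sum_congr rfl fun i _ => ?_
      congr 1
      rw [← MvPolynomial.rename_X (R := A) f i]
      exact MvPolynomial.killCompl_rename_app hf _
    · intro k _ hk
      have : k ∉ Set.range f := fun ⟨i, hi⟩ => hk (Finset.mem_image.2 ⟨i, Finset.mem_univ _, hi⟩)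
      rw [show φ (MvPolynomial.X k) = 0 from (MvPolynomial.aeval_X _ k).trans (dif_neg this), TensorProduct.zero_tmul]
  have hc : ∀ z : MvPolynomial κ A ⊗[A] N,
      coefEquiv (φ.toLinearMap.rTensor N z) ν = coefEquiv z (ν.mapDomain f) := by
    intro z
    induction z using TensorProduct.induction_on with
    | zero => simp
    | tmul p c =>
      rw [LinearMap.rTensor_tmul, coefEquiv_tmul, coefEquiv_tmul]
      congr 1
      exact MvPolynomial.coeff_killCompl hf
    | add x y hx hy => simp only [map_add, Finsupp.add_apply, hx, hy]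
  rw [coef, coefs, coef, coefs, ← hgen, ← compat F, hc]

variable {B C : Type u} [CommRing B] [Algebra A B] [CommRing C] [Algebra A C] {d : ℕ}

/-- A family extended by `1`. -/
def withOne {ι : Type} (b : ι → B) : Option ι → B := fun o => o.elim 1 b

/-- The weight of an exponent outside `1`. -/
noncomputable def weight {ι : Type} [Fintype ι] (ν : Option ι →₀ ℕ) : ℕ := ∑ i, ν (some i)

variable (F : _root_.PolLaw.MulLaw A B C d) (C₀ : Subalgebra A C)
  (h : ∀ (a : B) (ν : Fin 2 →₀ ℕ), coef F.law ![1, a] ν ∈ C₀)

open scoped Classical in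
/-- Multiplying by a coefficient of `1 + s a`. -/
theorem mul_coef (a : B) {n : ℕ} (b : Fin n → B) (k : ℕ) (μ : Option (Fin n) →₀ ℕ)
    (ν₀ : Fin 2 →₀ ℕ) (hν₀ : ν₀ ∈ degSet (Fin 2) d) (hk : ν₀ 1 = k) (hμ : μ ∈ degSet (Option (Fin n)) d) :
    coef F.law ![1, a] ν₀ * coef F.law (withOne b) μ =
      ∑ ν ∈ degSet (Option (Fin (n + 1) ⊕ Fin n)) d,
        if (ν (some (Sum.inl 0)) + ∑ i, ν (some (Sum.inr i)) = k ∧
            ∀ i, ν (some (Sum.inl (Fin.succ i))) + ν (some (Sum.inr i)) = μ (some i)) then
          coef F.law (withOne (Sum.elim (Fin.cons a b : Fin (n + 1) → B) fun i => a * b i)) ν else 0 := by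
  let s : (MvPolynomial (Option (Fin n)) A) := MvPolynomial.X none
  let t : Fin n → (MvPolynomial (Option (Fin n)) A) := fun i => MvPolynomial.X (some i)
  let sK : Option (Fin (n + 1) ⊕ Fin n) → (MvPolynomial (Option (Fin n)) A) :=
    fun o => o.elim 1 (Sum.elim (Fin.cons s t : Fin (n + 1) → (MvPolynomial (Option (Fin n)) A)) fun i => s * t i)
  let bK : Option (Fin (n + 1) ⊕ Fin n) → B := withOne (Sum.elim (Fin.cons a b : Fin (n + 1) → B) fun i => a * b i)
  have hprod : (∑ i, ![(1 : (MvPolynomial (Option (Fin n)) A)), s] i ⊗ₜ[A] ![1, a] i) * (∑ o : Option (Fin n), o.elim 1 t ⊗ₜ[A] withOne b o) =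
      ∑ o, sK o ⊗ₜ[A] bK o := by
    rw [Fin.sum_univ_two]
    simp only [Fintype.sum_option, Fintype.sum_sum_type, Fin.sum_univ_succ, Matrix.cons_val_zero,
      Matrix.cons_val_one, withOne, sK, bK, Option.elim, Sum.elim_inl, Sum.elim_inr, Fin.cons_zero, Fin.cons_succ,
      add_mul, mul_add, Algebra.TensorProduct.tmul_mul_tmul, Finset.mul_sum, one_mul, mul_one]
    rw [Finset.sum_add_distrib]
    abel
  have key := (F.mult (MvPolynomial (Option (Fin n)) A)).2 (∑ i, ![(1 : (MvPolynomial (Option (Fin n)) A)), s] i ⊗ₜ[A] ![1, a] i) (∑ o : Option (Fin n), o.elim 1 t ⊗ₜ[A] withOne b o)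
  rw [hprod, expand_homog F.homog, expand_homog F.homog, expand_homog F.homog, Finset.sum_mul_sum] at key
  let lam : Option (Fin n) →₀ ℕ := Finsupp.equivFunOnFinite.symm fun o => o.elim k fun i => μ (some i)
  have key2 := congrArg (fun z => coefEquiv z lam) key
  simp only [Algebra.TensorProduct.tmul_mul_tmul, map_sum, Finsupp.finsetSum_apply, coefEquiv_tmul] at key2
  have hL : ∀ (ν : Fin 2 →₀ ℕ) (μ' : Option (Fin n) →₀ ℕ),
      (∏ i, ![(1 : (MvPolynomial (Option (Fin n)) A)), s] i ^ ν i) * (∏ o : Option (Fin n), o.elim 1 t ^ μ' o) =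
        MvPolynomial.monomial (Finsupp.equivFunOnFinite.symm fun o : Option (Fin n) => o.elim (ν 1) fun i => μ' (some i))
          (1 : A) := fun ν μ' => by
    rw [← monomial_one_eq, Fin.prod_univ_two, Fintype.prod_option, Fintype.prod_option]
    simp [s, t]
  have hR : ∀ ν : Option (Fin (n + 1) ⊕ Fin n) →₀ ℕ, (∏ o, sK o ^ ν o) =
      MvPolynomial.monomial (Finsupp.equivFunOnFinite.symm fun o : Option (Fin n) =>
        o.elim (ν (some (Sum.inl 0)) + ∑ i, ν (some (Sum.inr i)))
          fun i => ν (some (Sum.inl (Fin.succ i))) + ν (some (Sum.inr i))) (1 : A) := fun ν => by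
    rw [← monomial_one_eq, Fintype.prod_option, Fintype.prod_option, Fintype.prod_sum_type, Fin.prod_univ_succ]
    simp only [sK, s, t, Option.elim, Sum.elim_inl, Sum.elim_inr, Fin.cons_zero, Fin.cons_succ, one_pow, one_mul,
      mul_pow, Finset.prod_mul_distrib, Finset.prod_pow_eq_pow_sum, pow_add, Finsupp.coe_equivFunOnFinite_symm]
    ring
  simp only [hL, hR, coefEquiv_tmul, MvPolynomial.coeff_monomial] at key2
  rw [Finset.sum_eq_single ν₀, Finset.sum_eq_single μ, if_pos (by rw [hk]), one_smul] at key2
  · refine key2.symm.trans (Finset.sum_congr rfl fun ν _ => ?_)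
    simp only [lam, Finsupp.equivFunOnFinite.symm.injective.eq_iff, funext_iff, Option.forall, Option.elim]
    split_ifs with h1
    · rw [one_smul]
    · rw [zero_smul]
  · intro μ' hμ' hne
    rw [if_neg, zero_smul]
    intro heq
    refine hne (Finsupp.ext fun o => ?_)
    have hsome : ∀ i, μ' (some i) = μ (some i) := fun i => by simpa [lam] using DFunLike.congr_fun heq (some i)
    rcases o with _ | i
    · have e1 := mem_degSet.1 hμ'
      have e2 := mem_degSet.1 hμ
      simp only [Fintype.sum_option, hsome] at e1 e2
      omega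
    · exact hsome i
  · exact fun hn => absurd hμ hn
  · intro ν hν hne
    refine Finset.sum_eq_zero fun μ' _ => ?_
    rw [if_neg, zero_smul]
    intro heq
    refine hne (Finsupp.ext fun i => ?_)
    have h1 : ν 1 = k := by simpa [lam] using DFunLike.congr_fun heq none
    have e1 := mem_degSet.1 hν
    have e2 := mem_degSet.1 hν₀
    simp only [Fin.sum_univ_two] at e1 e2
    fin_cases i
    · show ν 0 = ν₀ 0
      omega
    · exact h1.trans hk.symm
  · exact fun hn => absurd hν₀ hn

include h in
theorem coef_withOne_mem : ∀ (m n : ℕ) (b : Fin n → B) (ν : Option (Fin n) →₀ ℕ), weight ν ≤ m →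
    coef F.law (withOne b) ν ∈ C₀ := by
  intro m
  induction m using Nat.strong_induction_on with
  | _ m ihm =>
    intro n
    induction n with
    | zero =>
      intro b ν _
      let f : Option (Fin 0) → Fin 2 := fun _ => 0
      have hf : Function.Injective f := fun x y _ => by
        cases x with
        | none => cases y with
          | none => rfl
          | some i => exact i.elim0
        | some i => exact i.elim0
      have he : (fun i => (![1, 0] : Fin 2 → B) (f i)) = withOne b := funext fun o => by
        cases o with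
        | none => rfl
        | some i => exact i.elim0
      rw [← he, ← coef_extend f hf]
      exact h 0 _
    | succ n ihn =>
      intro b ν hν
      classical
      by_cases hd : ν ∈ degSet (Option (Fin (n + 1))) d
      swap
      · rw [coef_eq_zero_of_sum_ne F.homog _ _ (fun hh => hd (mem_degSet.2 hh))]
        exact zero_mem _
      rw [mem_degSet, Fintype.sum_option, Fin.sum_univ_succ] at hd
      rw [weight, Fin.sum_univ_succ] at hν
      let a := b 0
      let b' : Fin n → B := fun i => b i.succ
      have hb : b = Fin.cons a b' := (Fin.cons_self_tail b).symm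
      let k := ν (some 0)
      let μ : Option (Fin n) →₀ ℕ := Finsupp.equivFunOnFinite.symm fun o : Option (Fin n) =>
        o.elim (d - ∑ i : Fin n, ν (some i.succ)) fun i => ν (some i.succ)
      let ν₀ : Fin 2 →₀ ℕ := Finsupp.equivFunOnFinite.symm ![d - k, k]
      have hν₀ : ν₀ ∈ degSet (Fin 2) d := by
        rw [mem_degSet, Fin.sum_univ_two]
        simp only [ν₀, Finsupp.coe_equivFunOnFinite_symm, Matrix.cons_val_zero, Matrix.cons_val_one, k]
        omega
      have hμ : μ ∈ degSet (Option (Fin n)) d := by
        rw [mem_degSet, Fintype.sum_option]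
        simp only [μ, Finsupp.coe_equivFunOnFinite_symm, Option.elim]
        omega
      have hwμ : coef F.law (withOne b') μ ∈ C₀ := by
        refine ihn b' μ ?_
        simp only [weight, μ, Finsupp.coe_equivFunOnFinite_symm, Option.elim]
        omega
      have hmul := mul_mem (h a ν₀) hwμ
      rw [mul_coef F a b' k μ ν₀ hν₀ (by simp [ν₀]) hμ] at hmul
      let f : Option (Fin (n + 1)) → Option (Fin (n + 1) ⊕ Fin n) := Option.map Sum.inl
      have hf : Function.Injective f := Option.map_injective Sum.inl_injective
      let ν' := ν.mapDomain f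
      have hν'l : ∀ i, ν' (some (Sum.inl i)) = ν (some i) := fun i => Finsupp.mapDomain_apply hf ν (some i)
      have hν'r : ∀ i, ν' (some (Sum.inr i)) = 0 := fun i => Finsupp.mapDomain_of_notMem_range _ _ (by
        rintro ⟨_ | j, hj⟩ <;> simp [f] at hj)
      have hν'n : ν' none = ν none := Finsupp.mapDomain_apply hf ν none
      have hν'd : ν' ∈ degSet (Option (Fin (n + 1) ⊕ Fin n)) d := by
        rw [mem_degSet, Fintype.sum_option, Fintype.sum_sum_type, Fin.sum_univ_succ]
        simp only [hν'l, hν'r, hν'n, Finset.sum_const_zero, add_zero]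
        exact hd
      rw [← Finset.add_sum_erase _ _ hν'd, if_pos (by simp [hν'l, hν'r, k, μ])] at hmul
      have hrest : ∀ ν'' ∈ (degSet (Option (Fin (n + 1) ⊕ Fin n)) d).erase ν',
          (if (ν'' (some (Sum.inl 0)) + ∑ i, ν'' (some (Sum.inr i)) = k ∧
            ∀ i, ν'' (some (Sum.inl (Fin.succ i))) + ν'' (some (Sum.inr i)) = μ (some i)) then
            coef F.law (withOne (Sum.elim (Fin.cons a b' : Fin (n + 1) → B) fun i => a * b' i)) ν'' else 0) ∈ C₀ := by
        intro ν'' hν''
        obtain ⟨hne, hdeg⟩ := Finset.mem_erase.1 hν''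
        split_ifs with hc
        swap
        · exact zero_mem _
        obtain ⟨hc0, hci⟩ := hc
        simp only [μ, Finsupp.coe_equivFunOnFinite_symm, Option.elim] at hci
        have hsumi : (∑ i : Fin n, ν'' (some (Sum.inl i.succ))) + (∑ i, ν'' (some (Sum.inr i))) =
            ∑ i : Fin n, ν (some i.succ) := by
          rw [← Finset.sum_add_distrib]
          exact Finset.sum_congr rfl fun i _ => hci i
        have hpos : 0 < ∑ i, ν'' (some (Sum.inr i)) := by
          by_contra h0
          have hr : ∀ i, ν'' (some (Sum.inr i)) = 0 := fun i =>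
            Finset.sum_eq_zero_iff.1 (Nat.eq_zero_of_not_pos h0) i (Finset.mem_univ i)
          refine hne (Finsupp.ext ?_)
          have hsome : ∀ p, ν'' (some p) = ν' (some p) := by
            rintro (i | i)
            · rw [hν'l]
              induction i using Fin.cases with
              | zero =>
                simp only [hr, Finset.sum_const_zero, add_zero] at hc0
                exact hc0
              | succ i => simpa [hr] using hci i
            · rw [hr, hν'r]
          rintro (_ | p)
          · have e1 := mem_degSet.1 hdeg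
            have e2 := mem_degSet.1 hν'd
            simp only [Fintype.sum_option (fun o => ν'' o), Fintype.sum_option (fun o => ν' o), hsome] at e1 e2
            omega
          · exact hsome p
        let e : Fin (n + 1 + n) ≃ Fin (n + 1) ⊕ Fin n := finSumFinEquiv.symm
        let ν₁ : Option (Fin (n + 1 + n)) →₀ ℕ := Finsupp.equivFunOnFinite.symm fun o => ν'' (o.map e)
        have hν₁ : ν₁.mapDomain (Option.map e) = ν'' := Finsupp.ext fun o => by
          obtain ⟨o, rfl⟩ := (Equiv.optionCongr e).surjective o
          rw [Equiv.optionCongr_apply, Finsupp.mapDomain_apply (Option.map_injective e.injective)]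
          simp [ν₁]
        rw [← hν₁, coef_extend _ (Option.map_injective e.injective)]
        have hw : weight ν₁ = ∑ p, ν'' (some p) := by
          simp only [weight, ν₁, Finsupp.coe_equivFunOnFinite_symm, Option.map_some]
          exact Equiv.sum_comp e fun p => ν'' (some p)
        rw [show (fun i => withOne (Sum.elim (Fin.cons a b' : Fin (n + 1) → B) fun i => a * b' i) (Option.map e i)) =
          withOne (fun i => (Sum.elim (Fin.cons a b' : Fin (n + 1) → B) fun i => a * b' i) (e i)) from
            funext fun o => by cases o <;> rfl]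
        refine ihm (weight ν₁) ?_ _ _ _ le_rfl
        rw [hw, Fintype.sum_sum_type, Fin.sum_univ_succ]
        change ν (some 0) + ∑ i : Fin n, ν (some i.succ) ≤ m at hν
        simp only [k] at hc0
        omega
      have htarget := (sub_mem hmul (Subalgebra.sum_mem C₀ hrest))
      rw [add_sub_cancel_right, coef_extend f hf] at htarget
      rw [hb]
      convert htarget using 3 with o
      cases o <;> rfl

include h in
/-- All coefficients lie in a subalgebra containing those along the pairs `(1, a)`. -/
theorem coef_mem {ι : Type} [Fintype ι] (b : ι → B) (ν : ι →₀ ℕ) : coef F.law b ν ∈ C₀ := by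
  have e := Fintype.equivFin ι
  rw [show b = fun i => withOne (fun j => b (e.symm j)) (some (e i)) from funext fun i => by simp [withOne],
    ← coef_extend (fun i => some (e i)) (fun x y hxy => e.injective (Option.some_injective _ hxy))]
  exact coef_withOne_mem F C₀ h _ _ _ _ le_rfl

end Groth.Agent.Lib.PolLaw.Generate
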