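import Groth.Agent.Lib.PolLaw.CayleyHamilton

/-!
# Kernels of laws and of their base changes
-/

universe u

open scoped TensorProduct
open Polynomial

namespace Groth.Agent.Lib.PolLaw.Kernel

open Coeff Val

variable {A : Type u} [CommRing A] {B : Type u} [CommRing B] [Algebra A B] {d : ℕ}

/-- The scalar value of a law into the base. -/
noncomputable def val₀ (F : _root_.PolLaw.MulLaw A B A d) {R : Type u} [CommSemiring R] [Algebra A R]
    (x : R ⊗[A] B) : R :=
  val F (Algebra.ofId A R) x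

theorem toFun'_eq (F : _root_.PolLaw.MulLaw A B A d) {R : Type u} [CommSemiring R] [Algebra A R]
    (x : R ⊗[A] B) : F.law.toFun' R x = val₀ F x ⊗ₜ[A] (1 : A) := by
  rw [val₀, val]
  induction F.law.toFun' R x using TensorProduct.induction_on with
  | zero => simp
  | tmul r a =>
    rw [evalHom_tmul, Algebra.ofId_apply, mul_comm, ← Algebra.smul_def, TensorProduct.smul_tmul, smul_eq_mul, mul_one]
  | add x y hx hy => rw [map_add, TensorProduct.add_tmul, ← hx, ← hy]

theorem toFun'_eq_iff (F : _root_.PolLaw.MulLaw A B A d) {R : Type u} [CommSemiring R] [Algebra A R]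
    (x y : R ⊗[A] B) : F.law.toFun' R x = F.law.toFun' R y ↔ val₀ F x = val₀ F y := by
  refine ⟨fun h => by rw [val₀, val₀, val, val, h], fun h => by rw [toFun'_eq, toFun'_eq, h]⟩

theorem map_val₀ (F : _root_.PolLaw.MulLaw A B A d) {R R' : Type u} [CommSemiring R] [Algebra A R]
    [CommSemiring R'] [Algebra A R'] (φ : R →ₐ[A] R') (x : R ⊗[A] B) :
    φ (val₀ F x) = val₀ F (Algebra.TensorProduct.map φ (AlgHom.id A B) x) := by
  rw [val₀, map_val, Algebra.comp_ofId]
  rfl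

theorem mem_ker_iff (F : _root_.PolLaw.MulLaw A B A d) (b : B) :
    b ∈ _root_.PolLaw.ker F.law ↔ ∀ (n : ℕ) (x w : MvPolynomial (Fin n) A ⊗[A] B),
      val₀ F (x + w * (1 ⊗ₜ[A] b)) = val₀ F x := by
  refine ⟨fun h n x w => (toFun'_eq_iff F _ _).1 (h _ x w), fun h S _ _ x w => ?_⟩
  obtain ⟨n, φ, x', w', -, rfl, rfl, -⟩ := OfPoly.lift₂ x w 0
  rw [toFun'_eq_iff, OfPoly.rTensor_eq_map, OfPoly.rTensor_eq_map,
    show (1 : S) ⊗ₜ[A] b = Algebra.TensorProduct.map φ (AlgHom.id A B) (1 ⊗ₜ[A] b) by simp,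
    ← map_mul, ← map_add, ← map_val₀, ← map_val₀, h]

section BC

variable {A' : Type u} [CommRing A'] [Algebra A A']

/-- Base change of an element of `A' ⊗ B`. -/
noncomputable abbrev toTest (R : Type u) [CommSemiring R] [Algebra A R] [Algebra A' R] [IsScalarTower A A' R] :
    A' ⊗[A] B →ₐ[A] R ⊗[A] B :=
  Algebra.TensorProduct.map (IsScalarTower.toAlgHom A A' R) (AlgHom.id A B)

theorem val₀_of_mem_kerBC {F : _root_.PolLaw.MulLaw A B A d} {z : A' ⊗[A] B}
    (h : z ∈ _root_.PolLaw.kerBC F.law A') {R : Type u} [CommSemiring R] [Algebra A R] [Algebra A' R]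
    [IsScalarTower A A' R] (x w : R ⊗[A] B) : val₀ F (x + w * toTest R z) = val₀ F x :=
  (toFun'_eq_iff F _ _).1 (h R x w)

theorem mem_kerBC_iff (F : _root_.PolLaw.MulLaw A B A d) (z : A' ⊗[A] B) :
    z ∈ _root_.PolLaw.kerBC F.law A' ↔ ∀ (n : ℕ) (x w : MvPolynomial (Fin n) A' ⊗[A] B),
      val₀ F (x + w * toTest (MvPolynomial (Fin n) A') z) = val₀ F x := by
  refine ⟨fun h n x w => val₀_of_mem_kerBC h x w, fun h R _ _ _ _ x w => ?_⟩
  obtain ⟨n, s, b, rfl⟩ := exists_rep x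
  obtain ⟨m, t, c, rfl⟩ := exists_rep w
  let φ : MvPolynomial (Fin (n + m)) A' →ₐ[A] R := (MvPolynomial.aeval (Fin.append s t)).restrictScalars A
  have hz : toTest R z = Algebra.TensorProduct.map φ (AlgHom.id A B) (toTest (MvPolynomial (Fin (n + m)) A') z) := by
    rw [toTest, toTest, ← AlgHom.comp_apply, ← Algebra.TensorProduct.map_comp]
    congr 2
    exact AlgHom.ext fun a => by simp [φ]
  rw [toFun'_eq_iff,
    show (∑ i, s i ⊗ₜ[A] b i) = Algebra.TensorProduct.map φ (AlgHom.id A B)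
      (∑ i, MvPolynomial.X (Fin.castAdd m i) ⊗ₜ[A] b i) by simp [φ],
    show (∑ i, t i ⊗ₜ[A] c i) = Algebra.TensorProduct.map φ (AlgHom.id A B)
      (∑ i, MvPolynomial.X (Fin.natAdd n i) ⊗ₜ[A] c i) by simp [φ]]
  show val₀ F (_ + _ * toTest R z) = _
  rw [hz, ← map_mul, ← map_add, ← map_val₀, ← map_val₀, h]

theorem includeRight_mem_kerBC {F : _root_.PolLaw.MulLaw A B A d} {b : B} (hb : b ∈ _root_.PolLaw.ker F.law) :
    (1 : A') ⊗ₜ[A] b ∈ _root_.PolLaw.kerBC F.law A' := by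
  intro R _ _ _ _ x w
  simpa using hb R x w

theorem map_ker_le_kerBC (F : _root_.PolLaw.MulLaw A B A d) :
    (_root_.PolLaw.ker F.law).map (Algebra.TensorProduct.includeRight : B →ₐ[A] A' ⊗[A] B) ≤
      _root_.PolLaw.kerBC F.law A' :=
  Ideal.map_le_iff_le_comap.2 fun _ hb => includeRight_mem_kerBC hb

theorem map_mem_kerBC {F : _root_.PolLaw.MulLaw A B A d} {A'' : Type u} [CommRing A''] [Algebra A A'']
    (φ : A' →ₐ[A] A'') {z : A' ⊗[A] B} (h : z ∈ _root_.PolLaw.kerBC F.law A') :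
    Algebra.TensorProduct.map φ (AlgHom.id A B) z ∈ _root_.PolLaw.kerBC F.law A'' := by
  rw [mem_kerBC_iff]
  intro n x w
  let R := MvPolynomial (Fin n) A''
  let g : A' →ₐ[A] R := (IsScalarTower.toAlgHom A A'' R).comp φ
  letI : Algebra A' R := g.toRingHom.toAlgebra
  haveI : IsScalarTower A A' R := IsScalarTower.of_algebraMap_eq fun a => (g.commutes a).symm
  have := val₀_of_mem_kerBC h x w
  have e : toTest R (Algebra.TensorProduct.map φ (AlgHom.id A B) z) =
      toTest (A' := A') R z := by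
    rw [toTest, toTest, ← AlgHom.comp_apply, ← Algebra.TensorProduct.map_comp]
    congr 2
  rw [e]
  exact this

theorem mem_ker_of_kerBC_self {F : _root_.PolLaw.MulLaw A B A d} {b : B}
    (h : (1 : A) ⊗ₜ[A] b ∈ _root_.PolLaw.kerBC F.law A) : b ∈ _root_.PolLaw.ker F.law := by
  rw [mem_ker_iff]
  intro n x w
  simpa [toTest] using val₀_of_mem_kerBC h x w

open scoped Classical in
/-- Membership in the kernel of a base change may be tested on the generic combination of generators. -/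
theorem mem_kerBC_of_span {r : ℕ} (e : Fin r → B) (he : Submodule.span A (Set.range e) = ⊤)
    (F : _root_.PolLaw.MulLaw A B A d) (z : A' ⊗[A] B)
    (h : val₀ F ((∑ i, MvPolynomial.X (Sum.inl i) ⊗ₜ[A] e i : MvPolynomial (Fin r ⊕ Fin r) A' ⊗[A] B) +
        (∑ i, MvPolynomial.X (Sum.inr i) ⊗ₜ[A] e i) * toTest (MvPolynomial (Fin r ⊕ Fin r) A') z) =
      val₀ F (∑ i, MvPolynomial.X (Sum.inl i) ⊗ₜ[A] e i : MvPolynomial (Fin r ⊕ Fin r) A' ⊗[A] B)) :
    z ∈ _root_.PolLaw.kerBC F.law A' := by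
  rw [mem_kerBC_iff]
  intro n x w
  have hrep : ∀ v : MvPolynomial (Fin n) A' ⊗[A] B, ∃ c : Fin r → MvPolynomial (Fin n) A', v = ∑ i, c i ⊗ₜ[A] e i := by
    intro v
    induction v using TensorProduct.induction_on with
    | zero => exact ⟨0, by simp⟩
    | tmul p b =>
      obtain ⟨l, hl⟩ := (Submodule.mem_span_range_iff_exists_fun A).1 (he ▸ Submodule.mem_top : b ∈ Submodule.span A (Set.range e))
      exact ⟨fun i => l i • p, by simp [← hl, TensorProduct.tmul_sum, TensorProduct.smul_tmul]⟩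
    | add u v hu hv =>
      obtain ⟨c, rfl⟩ := hu
      obtain ⟨c', rfl⟩ := hv
      exact ⟨c + c', by simp [TensorProduct.add_tmul, Finset.sum_add_distrib]⟩
  obtain ⟨c, rfl⟩ := hrep x
  obtain ⟨c', rfl⟩ := hrep w
  let φ : MvPolynomial (Fin r ⊕ Fin r) A' →ₐ[A] MvPolynomial (Fin n) A' :=
    (MvPolynomial.aeval (Sum.elim c c')).restrictScalars A
  have hz : toTest (MvPolynomial (Fin n) A') z =
      Algebra.TensorProduct.map φ (AlgHom.id A B) (toTest (MvPolynomial (Fin r ⊕ Fin r) A') z) := by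
    rw [toTest, toTest, ← AlgHom.comp_apply, ← Algebra.TensorProduct.map_comp]
    congr 2
    exact AlgHom.ext fun a => by simp [φ]
  rw [hz, show (∑ i, c i ⊗ₜ[A] e i) = Algebra.TensorProduct.map φ (AlgHom.id A B)
      (∑ i, MvPolynomial.X (Sum.inl i) ⊗ₜ[A] e i) by simp [φ],
    show (∑ i, c' i ⊗ₜ[A] e i) = Algebra.TensorProduct.map φ (AlgHom.id A B)
      (∑ i, MvPolynomial.X (Sum.inr i) ⊗ₜ[A] e i) by simp [φ],
    ← map_mul, ← map_add, ← map_val₀, ← map_val₀, h]

end BC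

/-! ### The characteristic polynomial -/

/-- The characteristic polynomial. -/
noncomputable def chi₀ (F : _root_.PolLaw.MulLaw A B A d) {R : Type u} [CommRing R] [Algebra A R]
    (x : R ⊗[A] B) : R[X] :=
  chi F (Algebra.ofId A R) x

theorem chi₀_eq (F : _root_.PolLaw.MulLaw A B A d) {R : Type u} [CommRing R] [Algebra A R] (x : R ⊗[A] B) :
    chi₀ F x = val₀ F (toPoly R B x - (X : R[X]) • 1) := by
  rw [chi₀, chi, Algebra.comp_ofId]
  rfl

theorem chi₀_map (F : _root_.PolLaw.MulLaw A B A d) {R R' : Type u} [CommRing R] [Algebra A R] [CommRing R']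
    [Algebra A R'] (φ : R →ₐ[A] R') (x : R ⊗[A] B) :
    (chi₀ F x).map φ.toRingHom = chi₀ F (Algebra.TensorProduct.map φ (AlgHom.id A B) x) := by
  rw [chi₀, chi_map, Algebra.comp_ofId]
  rfl

theorem map_aeval_chi₀ (F : _root_.PolLaw.MulLaw A B A d) {R R' : Type u} [CommRing R] [Algebra A R] [CommRing R']
    [Algebra A R'] (φ : R →ₐ[A] R') (x : R ⊗[A] B) :
    Algebra.TensorProduct.map φ (AlgHom.id A B) (Polynomial.aeval x (chi₀ F x)) =
      Polynomial.aeval (Algebra.TensorProduct.map φ (AlgHom.id A B) x)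
        (chi₀ F (Algebra.TensorProduct.map φ (AlgHom.id A B) x)) := by
  rw [← chi₀_map, Polynomial.aeval_def, Polynomial.aeval_def, Polynomial.eval₂_map,
    ← AlgHom.coe_toRingHom (Algebra.TensorProduct.map φ (AlgHom.id A B)), Polynomial.hom_eval₂]
  congr 1

theorem aeval_chi₀_mem_kerBC (F : _root_.PolLaw.MulLaw A B A d) {A' : Type u} [CommRing A'] [Algebra A A']
    (z : A' ⊗[A] B) : Polynomial.aeval z (chi₀ F z) ∈ _root_.PolLaw.kerBC F.law A' := by
  rw [mem_kerBC_iff]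
  intro n x w
  rw [toTest, map_aeval_chi₀]
  exact CayleyHamilton.val_add_mul_aeval F _ _ x w

theorem val₀_smul_one (F : _root_.PolLaw.MulLaw A B A d) {R : Type u} [CommSemiring R] [Algebra A R] (r : R) :
    val₀ F (r • (1 : R ⊗[A] B)) = r ^ d := by
  rw [val₀, val_smul, val_one, mul_one]

theorem chi₀_of_mem_kerBC {F : _root_.PolLaw.MulLaw A B A d} {A' : Type u} [CommRing A'] [Algebra A A']
    {z : A' ⊗[A] B} (h : z ∈ _root_.PolLaw.kerBC F.law A') : chi₀ F z = (-X) ^ d := by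
  have h1 := val₀_of_mem_kerBC (R := A'[X]) h ((-X : A'[X]) • (1 : A'[X] ⊗[A] B)) 1
  have e : (-X : A'[X]) • (1 : A'[X] ⊗[A] B) = -((X : A'[X]) • (1 : A'[X] ⊗[A] B)) := by
    simp [Algebra.TensorProduct.one_def, TensorProduct.smul_tmul', TensorProduct.neg_tmul]
  rw [val₀_smul_one, one_mul, e] at h1
  rw [chi₀_eq, ← h1, sub_eq_add_neg, add_comm]
  congr 2

theorem pow_mem_of_mem_kerBC {F : _root_.PolLaw.MulLaw A B A d} {A' : Type u} [CommRing A'] [Algebra A A']
    {z : A' ⊗[A] B} (h : z ∈ _root_.PolLaw.kerBC F.law A') {I : Ideal (A' ⊗[A] B)}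
    (hI : Polynomial.aeval z (chi₀ F z) ∈ I) : z ^ d ∈ I := by
  rw [chi₀_of_mem_kerBC h, map_pow, map_neg, Polynomial.aeval_X, neg_pow] at hI
  exact (I.unit_mul_mem_iff_mem ((isUnit_one (M := A' ⊗[A] B)).neg.pow d)).1 hI

/-! ### Degree and leading coefficient -/

theorem natDegree_chi₀_le (F : _root_.PolLaw.MulLaw A B A d) {R : Type u} [CommRing R] [Algebra A R]
    (x : R ⊗[A] B) : (chi₀ F x).natDegree ≤ d ∧ (chi₀ F x).coeff d = (-1) ^ d := by
  classical
  obtain ⟨n, s, b, rfl⟩ := exists_rep x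
  let b' : Fin (n + 1) → B := Fin.cons 1 b
  let h : A →ₐ[A] R := Algebra.ofId A R
  have hchi : chi₀ F (∑ i, s i ⊗ₜ[A] b i) = ∑ ν ∈ degSet (Fin (n + 1)) d,
      Polynomial.C ((-1) ^ ν 0 * (∏ i, s i ^ ν i.succ) * h (coef F.law b' ν)) * X ^ ν 0 := by
    rw [chi₀, chi, show toPoly R B (∑ i, s i ⊗ₜ[A] b i) - (X : R[X]) • (1 : R[X] ⊗[A] B) =
      ∑ i : Fin (n + 1), (Fin.cons (-X) (fun i => Polynomial.C (s i)) : Fin (n + 1) → R[X]) i ⊗ₜ[A] b' i by
        simp [toPoly, b', Fin.sum_univ_succ, TensorProduct.smul_tmul', Algebra.TensorProduct.one_def,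
          TensorProduct.neg_tmul, sub_eq_neg_add]]
    rw [val_sum]
    refine Finset.sum_congr rfl fun ν _ => ?_
    simp only [Fin.prod_univ_succ, Fin.cons_zero, Fin.cons_succ, neg_pow (X : R[X]), map_mul, map_pow, map_prod, map_neg,
      map_one, h, AlgHom.comp_apply, Polynomial.CAlgHom_apply]
    ring
  have hsum : ∀ ν ∈ degSet (Fin (n + 1)) d, ν 0 ≤ d := fun ν hν => by
    rw [← mem_degSet.1 hν]
    exact Finset.single_le_sum (f := fun i => ν i) (fun i _ => Nat.zero_le _) (Finset.mem_univ 0)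
  refine ⟨?_, ?_⟩
  · rw [hchi]
    exact Polynomial.natDegree_sum_le_of_forall_le _ _ fun ν hν =>
      (Polynomial.natDegree_C_mul_X_pow_le _ _).trans (hsum ν hν)
  · have hν0 : Finsupp.single (0 : Fin (n + 1)) d ∈ degSet (Fin (n + 1)) d := by
      simp [Finsupp.single_apply]
    have hone : h (coef F.law b' (Finsupp.single (0 : Fin (n + 1)) d)) = 1 := by
      have h1 := val_sum F h (fun i : Fin (n + 1) => if i = 0 then (1 : R) else 0) b'
      rw [Finset.sum_eq_single (Finsupp.single (0 : Fin (n + 1)) d)] at h1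
      · simpa [Fin.sum_univ_succ, b', Fin.prod_univ_succ, Finsupp.single_apply, val_one,
          ← Algebra.TensorProduct.one_def] using h1.symm
      · intro ν hν hne
        obtain ⟨i, hi⟩ : ∃ i : Fin n, ν i.succ ≠ 0 := by
          by_contra hall
          simp only [not_exists, not_not] at hall
          refine hne (Finsupp.ext fun i => ?_)
          have := mem_degSet.1 hν
          rw [Fin.sum_univ_succ] at this
          refine Fin.cases ?_ (fun i => ?_) i
          · simpa [hall] using this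
          · simp [hall i, Finsupp.single_apply, Fin.succ_ne_zero, eq_comm]
        rw [Fin.prod_univ_succ, Finset.prod_eq_zero (Finset.mem_univ i) (by simp [Fin.succ_ne_zero, zero_pow hi])]
        simp
      · exact fun hn => absurd hν0 hn
    rw [hchi, Polynomial.finsetSum_coeff, Finset.sum_eq_single (Finsupp.single (0 : Fin (n + 1)) d)]
    · rw [Polynomial.coeff_C_mul_X_pow]
      simp [Finsupp.single_apply, eq_comm (a := (0 : Fin (n + 1))), Fin.succ_ne_zero, hone]
    · intro ν hν hne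
      rw [Polynomial.coeff_C_mul_X_pow, if_neg]
      intro hd
      refine hne (Finsupp.ext fun i => ?_)
      have := mem_degSet.1 hν
      rw [Fin.sum_univ_succ, ← hd, add_eq_left, Finset.sum_eq_zero_iff] at this
      refine Fin.cases ?_ (fun i => ?_) i
      · simp [hd]
      · simp [this i (Finset.mem_univ i), Finsupp.single_apply, eq_comm (a := (0 : Fin (n + 1))), Fin.succ_ne_zero]
    · exact fun hn => absurd hν0 hn

theorem exists_monic (F : _root_.PolLaw.MulLaw A B A d) {R : Type u} [CommRing R] [Algebra A R] (x : R ⊗[A] B) :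
    ∃ p : R[X], p.Monic ∧ p = Polynomial.C ((-1) ^ d) * chi₀ F x := by
  refine ⟨_, Polynomial.monic_of_natDegree_le_of_coeff_eq_one d
    ((Polynomial.natDegree_C_mul_le _ _).trans (natDegree_chi₀_le F x).1) ?_, rfl⟩
  rw [Polynomial.coeff_C_mul, (natDegree_chi₀_le F x).2, ← mul_pow]
  simp

/-! ### Elements of the ring -/

theorem aeval_chi₀_base (F : _root_.PolLaw.MulLaw A B A d) (b : B) :
    (1 : A) ⊗ₜ[A] Polynomial.aeval b (chi₀ F ((1 : A) ⊗ₜ[A] b)) =
      Polynomial.aeval ((1 : A) ⊗ₜ[A] b) (chi₀ F ((1 : A) ⊗ₜ[A] b)) :=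
  (Polynomial.aeval_algHom_apply (Algebra.TensorProduct.includeRight : B →ₐ[A] A ⊗[A] B) b _).symm

theorem aeval_chi₀_mem_ker (F : _root_.PolLaw.MulLaw A B A d) (b : B) :
    Polynomial.aeval b (chi₀ F ((1 : A) ⊗ₜ[A] b)) ∈ _root_.PolLaw.ker F.law :=
  mem_ker_of_kerBC_self (by rw [aeval_chi₀_base]; exact aeval_chi₀_mem_kerBC F _)

theorem chi₀_of_mem_ker {F : _root_.PolLaw.MulLaw A B A d} {b : B} (h : b ∈ _root_.PolLaw.ker F.law) :
    chi₀ F ((1 : A) ⊗ₜ[A] b) = (-X) ^ d :=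
  chi₀_of_mem_kerBC (includeRight_mem_kerBC h)

theorem isIntegral_image (F : _root_.PolLaw.MulLaw A B A d) : Algebra.IsIntegral A (_root_.PolLaw.image F.law) := by
  refine ⟨fun y => ?_⟩
  obtain ⟨b, rfl⟩ := Ideal.Quotient.mk_surjective y
  obtain ⟨p, hp, hp'⟩ := exists_monic F ((1 : A) ⊗ₜ[A] b)
  refine ⟨p, hp, ?_⟩
  show Polynomial.aeval (Ideal.Quotient.mkₐ A (_root_.PolLaw.ker F.law) b) p = 0
  rw [Polynomial.aeval_algHom_apply, hp', map_mul]
  exact Ideal.Quotient.eq_zero_iff_mem.2 (Ideal.mul_mem_left _ _ (aeval_chi₀_mem_ker F b))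

end Groth.Agent.Lib.PolLaw.Kernel
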