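import Groth.Agent.Lib.PolLaw.BaseChange
import Mathlib.RingTheory.Flat.Basic
import Mathlib.RingTheory.TensorProduct.MvPolynomial
import Mathlib.Algebra.Polynomial.Derivative

/-!
# Kernels of laws on finite algebras through finitely many coefficients
-/

universe u

open scoped TensorProduct
open Polynomial

namespace Groth.Agent.Lib.PolLaw.Linear

open Coeff Val Kernel

variable {A : Type u} [CommRing A] {B : Type u} [CommRing B] [Algebra A B] {d : ℕ}
  (F : _root_.PolLaw.MulLaw A B A d)

/-- `t ↦ F (x + t u)`. -/
noncomputable def along {R : Type u} [CommRing R] [Algebra A R] (x u : R ⊗[A] B) : R[X] :=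
  val₀ F (toPoly R B x + (X : R[X]) • toPoly R B u)

theorem map_smul' {R R' : Type u} [CommRing R] [Algebra A R] [CommRing R'] [Algebra A R'] (φ : R →ₐ[A] R')
    (r : R) (v : R ⊗[A] B) : Algebra.TensorProduct.map φ (AlgHom.id A B) (r • v) =
      φ r • Algebra.TensorProduct.map φ (AlgHom.id A B) v := by
  rw [← OfPoly.rTensor_eq_map, ← OfPoly.rTensor_eq_map, OfPoly.rTensor_smul_scalar]

theorem map_toPoly {R R' : Type u} [CommRing R] [Algebra A R] [CommRing R'] [Algebra A R'] (φ : R[X] →ₐ[A] R')
    (v : R ⊗[A] B) : Algebra.TensorProduct.map φ (AlgHom.id A B) (toPoly R B v) =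
      Algebra.TensorProduct.map (φ.comp (Polynomial.CAlgHom (R := A) (A := R))) (AlgHom.id A B) v := by
  rw [toPoly, ← AlgHom.comp_apply, ← Algebra.TensorProduct.map_comp]
  congr 2

/-- Specialising the parameter. -/
theorem aeval_along {R R' : Type u} [CommRing R] [Algebra A R] [CommRing R'] [Algebra A R'] (φ : R[X] →ₐ[A] R')
    (x u : R ⊗[A] B) : φ (along F x u) = val₀ F
      (Algebra.TensorProduct.map (φ.comp (Polynomial.CAlgHom (R := A) (A := R))) (AlgHom.id A B) x +
        φ X • Algebra.TensorProduct.map (φ.comp (Polynomial.CAlgHom (R := A) (A := R))) (AlgHom.id A B) u) := by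
  rw [along, map_val₀, map_add, map_smul', map_toPoly, map_toPoly]

theorem eval_along {R : Type u} [CommRing R] [Algebra A R] (x u : R ⊗[A] B) (r : R) :
    (along F x u).eval r = val₀ F (x + r • u) := by
  have h : ((Polynomial.aeval r : R[X] →ₐ[R] R).restrictScalars A).comp (Polynomial.CAlgHom (R := A) (A := R)) =
      AlgHom.id A R := AlgHom.ext fun a => by simp
  have := aeval_along F ((Polynomial.aeval r : R[X] →ₐ[R] R).restrictScalars A) x u
  rw [h] at this
  simpa [Polynomial.coe_aeval_eq_eval] using this

theorem map_along {R R' : Type u} [CommRing R] [Algebra A R] [CommRing R'] [Algebra A R'] (φ : R →ₐ[A] R')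
    (x u : R ⊗[A] B) : (along F x u).map φ.toRingHom =
      along F (Algebra.TensorProduct.map φ (AlgHom.id A B) x) (Algebra.TensorProduct.map φ (AlgHom.id A B) u) := by
  have h : (Polynomial.mapAlgHom φ).comp (Polynomial.CAlgHom (R := A) (A := R)) =
      (Polynomial.CAlgHom (R := A) (A := R')).comp φ := AlgHom.ext fun a => by simp
  have := aeval_along F (Polynomial.mapAlgHom φ) x u
  rw [h] at this
  refine this.trans ?_
  simp only [Polynomial.coe_mapAlgHom, Polynomial.map_X, along, toPoly, ← AlgHom.comp_apply,
    ← Algebra.TensorProduct.map_comp, AlgHom.comp_id, AlgHom.id_comp]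

/-- The linear part in the direction. -/
noncomputable def lin {R : Type u} [CommRing R] [Algebra A R] (x : R ⊗[A] B) : R ⊗[A] B →ₗ[R] R where
  toFun u := (along F x u).coeff 1
  map_add' u v := by
    let c := Polynomial.CAlgHom (R := A) (A := R)
    let c₂ := Polynomial.CAlgHom (R := A) (A := R[X])
    let P : R[X][X] := along F (toPoly R B x + (X : R[X]) • toPoly R B u) (toPoly R B v)
    have hdiag : P.eval X = along F x (u + v) := by
      rw [eval_along, along, map_add, smul_add, add_assoc]
    have h0 : P.eval 0 = along F x u := by rw [eval_along, zero_smul, add_zero, along]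
    have h1 : P.map (Polynomial.evalRingHom 0) = along F x v := by
      have hc : ∀ w : R ⊗[A] B, Algebra.TensorProduct.map ((Polynomial.aeval (0 : R) : R[X] →ₐ[R] R).restrictScalars A)
          (AlgHom.id A B) (toPoly R B w) = w := fun w => by
        rw [map_toPoly, show ((Polynomial.aeval (0 : R) : R[X] →ₐ[R] R).restrictScalars A).comp
          (Polynomial.CAlgHom (R := A) (A := R)) = AlgHom.id A R from AlgHom.ext fun a => by simp]
        simp
      have := map_along F ((Polynomial.aeval (0 : R) : R[X] →ₐ[R] R).restrictScalars A)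
        (toPoly R B x + (X : R[X]) • toPoly R B u) (toPoly R B v)
      rw [map_add, map_smul', hc, hc, hc] at this
      rw [show ((Polynomial.aeval (0 : R) : R[X] →ₐ[R] R).restrictScalars A) X = 0 by simp, zero_smul, add_zero] at this
      rw [← this]
      congr 1
      all_goals exact RingHom.ext fun p => by simp [Polynomial.coe_aeval_eq_eval]
    have key : ∀ Q : R[X][X], (Q.eval X).coeff 1 = (Q.eval 0).coeff 1 + (Q.map (Polynomial.evalRingHom 0)).coeff 1 := by
      intro Q
      induction Q using Polynomial.induction_on' with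
      | add p q hp hq =>
        rw [Polynomial.eval_add, Polynomial.eval_add, Polynomial.map_add, Polynomial.coeff_add, Polynomial.coeff_add,
          Polynomial.coeff_add, hp, hq]
        ring
      | monomial k a =>
        rcases k with _ | _ | k <;>
          simp [← mul_assoc, Polynomial.coeff_mul_X, ← Polynomial.C_mul_X_pow_eq_monomial, pow_succ, Polynomial.coeff_X_mul, Polynomial.coeff_zero_eq_eval_zero,
            Polynomial.coeff_C]
    show (along F x (u + v)).coeff 1 = _
    rw [← hdiag, key, h0, h1]
  map_smul' r u := by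
    have h : along F x (r • u) = (along F x u).comp (Polynomial.C r * X) := by
      have := aeval_along F (((Polynomial.aeval (Polynomial.C r * X) : R[X] →ₐ[R] R[X]).restrictScalars A)) x u
      have hC : (((Polynomial.aeval (Polynomial.C r * X) : R[X] →ₐ[R] R[X]).restrictScalars A)).comp
          (Polynomial.CAlgHom (R := A) (A := R)) = Polynomial.CAlgHom (R := A) (A := R) :=
        AlgHom.ext fun a => by simp
      rw [hC] at this
      refine Eq.trans ?_ this.symm
      rw [along]
      congr 2
      rw [AlgHom.restrictScalars_apply, Polynomial.aeval_X, show Algebra.TensorProduct.map (Polynomial.CAlgHom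
        (R := A) (A := R)) (AlgHom.id A B) u = toPoly R B u from rfl, toPoly, map_smul', Polynomial.CAlgHom_apply,
        smul_smul, mul_comm (Polynomial.C r)]
    show (along F x (r • u)).coeff 1 = r • (along F x u).coeff 1
    rw [h, Polynomial.comp_C_mul_X_coeff, pow_one, smul_eq_mul, mul_comm]

theorem lin_apply {R : Type u} [CommRing R] [Algebra A R] (x u : R ⊗[A] B) : lin F x u = (along F x u).coeff 1 := rfl

theorem map_lin {R R' : Type u} [CommRing R] [Algebra A R] [CommRing R'] [Algebra A R'] (φ : R →ₐ[A] R')
    (x u : R ⊗[A] B) : φ (lin F x u) =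
      lin F (Algebra.TensorProduct.map φ (AlgHom.id A B) x) (Algebra.TensorProduct.map φ (AlgHom.id A B) u) := by
  rw [lin_apply, lin_apply, ← map_along, Polynomial.coeff_map]
  rfl

section Gen

variable {r : ℕ} (e : Fin r → B) (A' : Type u) [CommRing A'] [Algebra A A']

/-- The generic element. -/
noncomputable def genX : MvPolynomial (Fin r ⊕ Fin r) A' ⊗[A] B := ∑ i, MvPolynomial.X (Sum.inl i) ⊗ₜ[A] e i

/-- The generic multiplier. -/
noncomputable def genW : MvPolynomial (Fin r ⊕ Fin r) A' ⊗[A] B := ∑ i, MvPolynomial.X (Sum.inr i) ⊗ₜ[A] e i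

variable {A'}

/-- Change of scalars in the generic ring. -/
noncomputable def genMap {A'' : Type u} [CommRing A''] [Algebra A A''] (f : A' →ₐ[A] A'') :
    MvPolynomial (Fin r ⊕ Fin r) A' →ₐ[A] MvPolynomial (Fin r ⊕ Fin r) A'' :=
  MvPolynomial.mapAlgHom f

theorem map_genX {A'' : Type u} [CommRing A''] [Algebra A A''] (f : A' →ₐ[A] A'') :
    Algebra.TensorProduct.map (genMap f) (AlgHom.id A B) (genX e A') = genX e A'' := by
  simp [genX, genMap]

theorem map_genW {A'' : Type u} [CommRing A''] [Algebra A A''] (f : A' →ₐ[A] A'') :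
    Algebra.TensorProduct.map (genMap f) (AlgHom.id A B) (genW e A') = genW e A'' := by
  simp [genW, genMap]

variable {e}

/-- The generic direction is representative. -/
theorem exists_specialise (he : Submodule.span A (Set.range e) = ⊤) {R : Type u} [CommRing R] [Algebra A R]
    [Algebra A' R] [IsScalarTower A A' R] (x w : R ⊗[A] B) :
    ∃ φ : MvPolynomial (Fin r ⊕ Fin r) A' →ₐ[A] R,
      Algebra.TensorProduct.map φ (AlgHom.id A B) (genX e A') = x ∧
      Algebra.TensorProduct.map φ (AlgHom.id A B) (genW e A') = w ∧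
      ∀ z : A' ⊗[A] B, Algebra.TensorProduct.map φ (AlgHom.id A B) (toTest (MvPolynomial (Fin r ⊕ Fin r) A') z) = toTest R z := by
  have hrep : ∀ v : R ⊗[A] B, ∃ c : Fin r → R, v = ∑ i, c i ⊗ₜ[A] e i := by
    intro v
    induction v using TensorProduct.induction_on with
    | zero => exact ⟨0, by simp⟩
    | tmul p b =>
      obtain ⟨l, hl⟩ := (Submodule.mem_span_range_iff_exists_fun A).1
        (he ▸ Submodule.mem_top : b ∈ Submodule.span A (Set.range e))
      exact ⟨fun i => l i • p, by simp [← hl, TensorProduct.tmul_sum, TensorProduct.smul_tmul]⟩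
    | add u v hu hv =>
      obtain ⟨c, rfl⟩ := hu
      obtain ⟨c', rfl⟩ := hv
      exact ⟨c + c', by simp [TensorProduct.add_tmul, Finset.sum_add_distrib]⟩
  obtain ⟨c, rfl⟩ := hrep x
  obtain ⟨c', rfl⟩ := hrep w
  refine ⟨(MvPolynomial.aeval (Sum.elim c c')).restrictScalars A, by simp [genX], by simp [genW], fun z => ?_⟩
  rw [toTest, toTest, ← AlgHom.comp_apply, ← Algebra.TensorProduct.map_comp]
  congr 2
  exact AlgHom.ext fun a => by simp

/-- The kernel in characteristic zero is cut out by the linear part. -/
theorem mem_kerBC_iff_lin [Algebra ℚ A] (he : Submodule.span A (Set.range e) = ⊤) (z : A' ⊗[A] B) :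
    z ∈ _root_.PolLaw.kerBC F.law A' ↔
      lin F (genX e A') (genW e A' * toTest (MvPolynomial (Fin r ⊕ Fin r) A') z) = 0 := by
  let R := MvPolynomial (Fin r ⊕ Fin r) A'
  let u := genW e A' * toTest R z
  constructor
  · intro h
    have hconst : along F (genX e A') u = Polynomial.C (val₀ F (genX e A')) := by
      rw [along]
      have hu : (X : R[X]) • toPoly R B u = ((X : R[X]) • toPoly R B (genW e A')) * toTest R[X] z := by
        rw [smul_mul_assoc]
        congr 1
        simp only [u, map_mul, toPoly, toTest, ← AlgHom.comp_apply, ← Algebra.TensorProduct.map_comp, AlgHom.comp_id]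
        congr 3
      rw [hu, val₀_of_mem_kerBC h]
      exact (map_val₀ F (Polynomial.CAlgHom (R := A) (A := R)) (genX e A')).symm
    show (along F (genX e A') u).coeff 1 = 0
    rw [hconst, Polynomial.coeff_C, if_neg one_ne_zero]
  · intro h
    refine mem_kerBC_of_span e he F z ?_
    show val₀ F (genX e A' + u) = val₀ F (genX e A')
    let D := along F (genX e A') u
    have hder : derivative D = 0 := by
      let c := Polynomial.CAlgHom (R := A) (A := R)
      obtain ⟨φ, hφx, hφw, hφz⟩ := exists_specialise (A' := A') he (R := R[X])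
        (toPoly R B (genX e A') + (X : R[X]) • toPoly R B u) (toPoly R B (genW e A'))
      have h2 : lin F (toPoly R B (genX e A') + (X : R[X]) • toPoly R B u) (toPoly R B u) = 0 := by
        have := congrArg φ h
        rw [map_lin, map_mul, hφx, hφw, hφz, map_zero] at this
        rw [← this]
        congr 1
        simp only [u, map_mul, toPoly, toTest, ← AlgHom.comp_apply, ← Algebra.TensorProduct.map_comp, AlgHom.comp_id]
        congr 3
      rw [lin_apply] at h2
      have hcomp : along F (toPoly R B (genX e A') + (X : R[X]) • toPoly R B u) (toPoly R B u) =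
          Polynomial.taylor (X : R[X]) (D.map Polynomial.C) := by
        have := aeval_along F (R' := R[X][X]) ((Polynomial.aeval (Polynomial.C (X : R[X]) + X : R[X][X]) : R[X] →ₐ[R] R[X][X]).restrictScalars A)
          (genX e A') u
        rw [show ((Polynomial.aeval (Polynomial.C (X : R[X]) + X : R[X][X]) : R[X] →ₐ[R] R[X][X]).restrictScalars A).comp
            (Polynomial.CAlgHom (R := A) (A := R)) = (Polynomial.CAlgHom (R := A) (A := R[X])).comp
            (Polynomial.CAlgHom (R := A) (A := R)) from
            AlgHom.ext fun a => by simp [Polynomial.algebraMap_apply]] at this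
        rw [Polynomial.taylor_apply]
        refine Eq.trans ?_ (this.symm.trans ?_)
        · rw [along, map_add, toPoly, map_smul', Polynomial.CAlgHom_apply, AlgHom.restrictScalars_apply,
            Polynomial.aeval_X, add_smul, ← add_assoc]
          simp only [← AlgHom.comp_apply, ← Algebra.TensorProduct.map_comp, AlgHom.comp_id, toPoly]
        · rw [AlgHom.restrictScalars_apply, Polynomial.aeval_def, Polynomial.comp, Polynomial.eval₂_map, add_comm]
          rfl
      rw [hcomp, Polynomial.taylor_coeff_one, Polynomial.derivative_map, Polynomial.eval_map] at h2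
      rwa [Polynomial.eval₂_C_X] at h2
    haveI : IsAddTorsionFree R := by
      let _ : Algebra ℚ R := ((algebraMap A R).comp (algebraMap ℚ A)).toAlgebra
      exact IsAddTorsionFree.of_isTorsionFree ℚ R
    have hD := Polynomial.eq_C_of_derivative_eq_zero hder
    have h1 := eval_along F (genX e A') u 1
    have h0 := eval_along F (genX e A') u 0
    rw [one_smul] at h1
    rw [zero_smul, add_zero] at h0
    rw [← h1, ← h0, show along F (genX e A') u = D from rfl, hD, Polynomial.eval_C, Polynomial.eval_C]

/-- The linear conditions on `B`. -/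
noncomputable def cond (e : Fin r → B) : B →ₗ[A] MvPolynomial (Fin r ⊕ Fin r) A :=
  ((lin F (genX e A)).restrictScalars A) ∘ₗ (LinearMap.mulLeft A (genW e A)) ∘ₗ
    (Algebra.TensorProduct.includeRight : B →ₐ[A] MvPolynomial (Fin r ⊕ Fin r) A ⊗[A] B).toLinearMap

theorem map_cond (b : B) :
    genMap (Algebra.ofId A A') (cond F e b) =
      lin F (genX e A') (genW e A' * ((1 : MvPolynomial (Fin r ⊕ Fin r) A') ⊗ₜ[A] b)) := by
  simp only [cond, LinearMap.comp_apply, LinearMap.coe_restrictScalars, LinearMap.mulLeft_apply,
    AlgHom.toLinearMap_apply, Algebra.TensorProduct.includeRight_apply]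
  rw [map_lin, map_genX, map_mul, map_genW, Algebra.TensorProduct.map_tmul, map_one, AlgHom.id_apply]

theorem mul_tmul_eq (a : A') (b : B) :
    genW e A' * toTest (MvPolynomial (Fin r ⊕ Fin r) A') (a ⊗ₜ[A] b) =
      (MvPolynomial.C a : MvPolynomial (Fin r ⊕ Fin r) A') •
        (genW e A' * ((1 : MvPolynomial (Fin r ⊕ Fin r) A') ⊗ₜ[A] b)) := by
  rw [← mul_smul_comm]
  congr 1
  simp [toTest, TensorProduct.smul_tmul', MvPolynomial.algebraMap_eq]

theorem lin_eq_cond (z : A' ⊗[A] B) :
    lin F (genX e A') (genW e A' * toTest (MvPolynomial (Fin r ⊕ Fin r) A') z) =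
      MvPolynomial.algebraTensorAlgEquiv A A' ((cond F e).lTensor A' z) := by
  induction z using TensorProduct.induction_on with
  | zero => simp
  | add a b ha hb => simp only [map_add, mul_add, ha, hb]
  | tmul a b =>
    rw [LinearMap.lTensor_tmul, MvPolynomial.algebraTensorAlgEquiv_tmul]
    have h2 : MvPolynomial.map (algebraMap A A') (cond F e b) =
        lin F (genX e A') (genW e A' * ((1 : MvPolynomial (Fin r ⊕ Fin r) A') ⊗ₜ[A] b)) := map_cond F b
    rw [mul_tmul_eq, map_smul, smul_eq_mul, ← h2, Algebra.smul_def, MvPolynomial.algebraMap_eq]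

end Gen

theorem mem_ker_iff_cond [Algebra ℚ A] {r : ℕ} {e : Fin r → B} (he : Submodule.span A (Set.range e) = ⊤) (b : B) :
    b ∈ _root_.PolLaw.ker F.law ↔ cond F e b = 0 := by
  have h := mem_kerBC_iff_lin F he ((1 : A) ⊗ₜ[A] b)
  have hc : cond F e b = lin F (genX e A) (genW e A * toTest (MvPolynomial (Fin r ⊕ Fin r) A) ((1 : A) ⊗ₜ[A] b)) := by
    simp [cond, toTest]
  rw [hc, ← h]
  exact ⟨includeRight_mem_kerBC, mem_ker_of_kerBC_self⟩

theorem exists_span [Module.Finite A B] : ∃ (r : ℕ) (e : Fin r → B), Submodule.span A (Set.range e) = ⊤ :=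
  Module.Finite.exists_fin

/-- Kernels commute with flat base change in characteristic zero. -/
theorem map_ker_eq_kerBC_of_flat [Algebra ℚ A] [Module.Finite A B] (A' : Type u) [CommRing A'] [Algebra A A']
    [Module.Flat A A'] :
    (_root_.PolLaw.ker F.law).map (Algebra.TensorProduct.includeRight : B →ₐ[A] A' ⊗[A] B) =
      _root_.PolLaw.kerBC F.law A' := by
  obtain ⟨r, e, he⟩ := exists_span (A := A) (B := B)
  refine le_antisymm (map_ker_le_kerBC F) fun z hz => ?_
  rw [mem_kerBC_iff_lin F he, lin_eq_cond] at hz
  have h0 : (cond F e).lTensor A' z = 0 :=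
    (MvPolynomial.algebraTensorAlgEquiv A A').injective (by rw [hz, map_zero])
  obtain ⟨w, rfl⟩ := ((Module.Flat.lTensor_exact A' (LinearMap.exact_subtype_ker_map (cond F e))) z).1 h0
  clear hz h0
  induction w using TensorProduct.induction_on with
  | zero => simp
  | add a b ha hb => rw [map_add]; exact add_mem ha hb
  | tmul a k =>
    rw [LinearMap.lTensor_tmul, show a ⊗ₜ[A] ((LinearMap.ker (cond F e)).subtype k) =
      (a ⊗ₜ[A] (1 : B)) * (1 ⊗ₜ[A] (k : B)) by simp]
    exact Ideal.mul_mem_left _ _ (Ideal.mem_map_of_mem _ ((mem_ker_iff_cond F he _).2 k.2))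

end Groth.Agent.Lib.PolLaw.Linear
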