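import Groth.Agent.Lib.PolLaw.Linear
import Mathlib.RingTheory.Localization.BaseChange

/-!
# Kernels of laws on finite algebras commute with localisation
-/

universe u

open scoped TensorProduct
open Polynomial

namespace Groth.Agent.Lib.PolLaw.Localize

open Coeff Val Kernel Linear

variable {A : Type u} [CommRing A] {B : Type u} [CommRing B] [Algebra A B] {d : ℕ}
  (F : _root_.PolLaw.MulLaw A B A d) (M : Submonoid A) (A' : Type u) [CommRing A'] [Algebra A A']
  [IsLocalization M A']

theorem exists_smul_eq (z : A' ⊗[A] B) : ∃ (m : M) (b : B), (m : A) • z = (1 : A') ⊗ₜ[A] b := by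
  induction z using TensorProduct.induction_on with
  | zero => exact ⟨1, 0, by simp⟩
  | tmul a b =>
    obtain ⟨⟨c, m⟩, h⟩ := IsLocalization.surj M a
    refine ⟨m, c • b, ?_⟩
    rw [TensorProduct.smul_tmul', TensorProduct.tmul_smul, Algebra.smul_def, mul_comm, h, TensorProduct.smul_tmul',
      Algebra.smul_def, mul_one]
  | add x y hx hy =>
    obtain ⟨m, b, hm⟩ := hx
    obtain ⟨m', b', hm'⟩ := hy
    refine ⟨m * m', (m' : A) • b + (m : A) • b', ?_⟩
    rw [Submonoid.coe_mul, smul_add, mul_comm, mul_smul, hm, mul_comm, mul_smul, hm', TensorProduct.tmul_add,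
      TensorProduct.tmul_smul, TensorProduct.tmul_smul]

include M in
theorem map_ker_eq_kerBC [Module.Finite A B] :
    (_root_.PolLaw.ker F.law).map (Algebra.TensorProduct.includeRight : B →ₐ[A] A' ⊗[A] B) =
      _root_.PolLaw.kerBC F.law A' := by
  classical
  refine le_antisymm (map_ker_le_kerBC F) fun z hz => ?_
  obtain ⟨m, b, hb⟩ := exists_smul_eq M A' z
  have hbz : (1 : A') ⊗ₜ[A] b ∈ _root_.PolLaw.kerBC F.law A' := by
    rw [← hb]
    exact Submodule.smul_of_tower_mem _ _ hz
  obtain ⟨r, e, he⟩ := exists_span (A := A) (B := B)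
  let R := MvPolynomial (Fin r ⊕ Fin r) A
  let u : R ⊗[A] B := genW e A * ((1 : R) ⊗ₜ[A] b)
  let D : R[X] := along F (genX e A) u - Polynomial.C (val₀ F (genX e A))
  let ρ := genMap (r := r) (Algebra.ofId A A')
  have hmap : (along F (genX e A) u).map ρ.toRingHom = Polynomial.C (val₀ F (genX e A')) := by
    rw [map_along, map_genX, map_mul, map_genW, Algebra.TensorProduct.map_tmul, map_one, AlgHom.id_apply, along,
      show ((X : (MvPolynomial (Fin r ⊕ Fin r) A')[X]) • toPoly _ B (genW e A' * ((1 : MvPolynomial (Fin r ⊕ Fin r) A') ⊗ₜ[A] b))) =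
        ((X : (MvPolynomial (Fin r ⊕ Fin r) A')[X]) • toPoly _ B (genW e A')) *
          toTest (MvPolynomial (Fin r ⊕ Fin r) A')[X] ((1 : A') ⊗ₜ[A] b) by
        rw [smul_mul_assoc]
        congr 1
        simp [toPoly, toTest],
      val₀_of_mem_kerBC hbz]
    exact (map_val₀ F (Polynomial.CAlgHom (R := A) (A := MvPolynomial (Fin r ⊕ Fin r) A')) (genX e A')).symm
  have hD : D.map ρ.toRingHom = 0 := by
    rw [Polynomial.map_sub, Polynomial.map_C, hmap, sub_eq_zero]
    congr 1
    exact (map_val₀ F ρ (genX e A)).trans (by rw [map_genX]) |>.symm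
  have hcoef : ∀ (k : ℕ) (ν : Fin r ⊕ Fin r →₀ ℕ), ∃ μ : M, (μ : A) * MvPolynomial.coeff ν (D.coeff k) = 0 := by
    intro k ν
    refine (IsLocalization.map_eq_zero_iff M A' _).1 ?_
    have := congrArg (fun p => MvPolynomial.coeff ν (p.coeff k)) hD
    simpa [Polynomial.coeff_map, ρ, genMap, MvPolynomial.coeff_map] using this
  choose μ hμ using hcoef
  let m₁ : M := ∏ k ∈ D.support, ∏ ν ∈ (D.coeff k).support, μ k ν
  have hm₁ : ∀ k, MvPolynomial.C (m₁ : A) * D.coeff k = 0 := by
    intro k
    refine MvPolynomial.ext _ _ fun ν => ?_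
    rw [MvPolynomial.coeff_C_mul, MvPolynomial.coeff_zero]
    by_cases hk : k ∈ D.support
    · by_cases hν : ν ∈ (D.coeff k).support
      · obtain ⟨c, hc⟩ : (μ k ν : A) ∣ (m₁ : A) := by
          simp only [m₁, SubmonoidClass.coe_finset_prod]
          exact (Finset.dvd_prod_of_mem (fun ν => (μ k ν : A)) hν).trans
            (Finset.dvd_prod_of_mem (fun k => ∏ ν ∈ (D.coeff k).support, (μ k ν : A)) hk)
        rw [hc, mul_comm (μ k ν : A), mul_assoc, hμ, mul_zero]
      · rw [MvPolynomial.notMem_support_iff.1 hν, mul_zero]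
    · rw [Polynomial.notMem_support_iff.1 hk, MvPolynomial.coeff_zero, mul_zero]
  have hker : (m₁ : A) • b ∈ _root_.PolLaw.ker F.law := by
    refine mem_ker_of_kerBC_self (mem_kerBC_of_span e he F _ ?_)
    have he0 : D.eval 0 = 0 := by
      rw [Polynomial.eval_sub, Polynomial.eval_C, eval_along, zero_smul, add_zero, sub_self]
    have he1 : D.eval (MvPolynomial.C (m₁ : A)) = 0 := by
      rw [Polynomial.eval_eq_sum, Polynomial.sum]
      refine Finset.sum_eq_zero fun k _ => ?_
      rcases k with _ | k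
      · rw [Polynomial.coeff_zero_eq_eval_zero, he0, zero_mul]
      · rw [pow_succ', ← mul_assoc, mul_comm (D.coeff _), hm₁, zero_mul]
    rw [Polynomial.eval_sub, Polynomial.eval_C, eval_along, sub_eq_zero] at he1
    refine Eq.trans ?_ he1
    show val₀ F (genX e A + genW e A * toTest R ((1 : A) ⊗ₜ[A] ((m₁ : A) • b))) = _
    congr 2
    simp only [u, toTest, Algebra.TensorProduct.map_tmul, map_one, AlgHom.id_apply]
    rw [← mul_smul_comm]
    congr 1
    rw [TensorProduct.tmul_smul, ← MvPolynomial.algebraMap_eq, algebraMap_smul]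
  have hunit : IsUnit (algebraMap A A' ((m₁ : A) * m)) :=
    IsLocalization.map_units A' (m₁ * m)
  obtain ⟨v, hv⟩ := hunit
  have : z = ((↑v⁻¹ : A') ⊗ₜ[A] (1 : B)) * ((1 : A') ⊗ₜ[A] ((m₁ : A) • b)) := by
    rw [TensorProduct.tmul_smul, ← hb, ← mul_smul, ← algebraMap_smul A', ← hv, Algebra.smul_def, ← mul_assoc,
      Algebra.TensorProduct.algebraMap_apply, Algebra.TensorProduct.tmul_mul_tmul]
    simp [← Algebra.TensorProduct.one_def]
  rw [this]
  exact Ideal.mul_mem_left _ _ (Ideal.mem_map_of_mem _ hker)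

end Groth.Agent.Lib.PolLaw.Localize
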