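import Groth.Agent.Lib.PolLaw.Extend
import Mathlib.Algebra.MvPolynomial.Equiv

/-!
# Multiplicative homogeneous laws from their values on polynomial rings
-/

universe u v w

open scoped TensorProduct

namespace Groth.Agent.Lib.PolLaw.OfPoly

variable {A : Type u} [CommRing A]

theorem rTensor_eq_map {B : Type v} [CommRing B] [Algebra A B] {S S' : Type*} [CommSemiring S] [Algebra A S]
    [CommSemiring S'] [Algebra A S'] (φ : S →ₐ[A] S') (x : S ⊗[A] B) :
    φ.toLinearMap.rTensor B x = Algebra.TensorProduct.map φ (AlgHom.id A B) x := by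
  induction x using TensorProduct.induction_on with
  | zero => simp
  | tmul a b => rfl
  | add a b ha hb => simp [ha, hb]

theorem rTensor_smul_scalar {M : Type v} [AddCommGroup M] [Module A M] {S S' : Type*} [CommSemiring S]
    [Algebra A S] [CommSemiring S'] [Algebra A S'] (φ : S →ₐ[A] S') (a : S) (x : S ⊗[A] M) :
    φ.toLinearMap.rTensor M (a • x) = φ a • φ.toLinearMap.rTensor M x := by
  induction x using TensorProduct.induction_on with
  | zero => simp
  | tmul b m => simp [TensorProduct.smul_tmul']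
  | add x y hx hy => simp only [smul_add, map_add, hx, hy]

/-- A pair of elements and a scalar lift to one polynomial ring. -/
theorem lift₂ {M : Type v} [AddCommGroup M] [Module A M] {S : Type u} [CommSemiring S] [Algebra A S]
    (x y : S ⊗[A] M) (a : S) :
    ∃ (n : ℕ) (φ : MvPolynomial (Fin n) A →ₐ[A] S) (x' y' : MvPolynomial (Fin n) A ⊗[A] M)
      (a' : MvPolynomial (Fin n) A), φ.toLinearMap.rTensor M x' = x ∧ φ.toLinearMap.rTensor M y' = y ∧
        φ a' = a := by
  obtain ⟨n, φ, x', rfl⟩ := Extend.rep S x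
  obtain ⟨m, ψ, y', rfl⟩ := Extend.rep S y
  let χ : MvPolynomial (Fin (n + m + 1)) A →ₐ[A] S :=
    MvPolynomial.aeval (Fin.append (Fin.append (fun i => φ (MvPolynomial.X i)) fun i => ψ (MvPolynomial.X i)) ![a])
  let l : MvPolynomial (Fin n) A →ₐ[A] MvPolynomial (Fin (n + m + 1)) A :=
    MvPolynomial.rename fun i => Fin.castAdd 1 (Fin.castAdd m i)
  let r : MvPolynomial (Fin m) A →ₐ[A] MvPolynomial (Fin (n + m + 1)) A :=
    MvPolynomial.rename fun i => Fin.castAdd 1 (Fin.natAdd n i)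
  have hl : χ.comp l = φ := MvPolynomial.algHom_ext fun i => by simp [χ, l]
  have hr : χ.comp r = ψ := MvPolynomial.algHom_ext fun i => by simp [χ, r]
  refine ⟨_, χ, l.toLinearMap.rTensor M x', r.toLinearMap.rTensor M y', MvPolynomial.X (Fin.natAdd (n + m) 0),
    ?_, ?_, by simp [χ]⟩
  · rw [← LinearMap.rTensor_comp_apply, ← AlgHom.comp_toLinearMap, hl]
  · rw [← LinearMap.rTensor_comp_apply, ← AlgHom.comp_toLinearMap, hr]

/-- Multiplicativity may be tested on polynomial rings. -/
theorem mult_of_poly {B : Type v} [CommRing B] [Algebra A B] {C : Type w} [CommRing C] [Algebra A C]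
    (F : B →ₚₗ[A] C) (h1 : ∀ n : ℕ, F.toFun' (MvPolynomial (Fin n) A) 1 = 1)
    (hmul : ∀ (n : ℕ) (x y : MvPolynomial (Fin n) A ⊗[A] B),
      F.toFun' _ (x * y) = F.toFun' _ x * F.toFun' _ y)
    (S : Type u) [CommSemiring S] [Algebra A S] :
    F.toFun' S 1 = 1 ∧ ∀ x y : S ⊗[A] B, F.toFun' S (x * y) = F.toFun' S x * F.toFun' S y := by
  refine ⟨?_, fun x y => ?_⟩
  · let φ : MvPolynomial (Fin 0) A →ₐ[A] S := MvPolynomial.aeval Fin.elim0
    have h := F.isCompat_apply' φ (1 : MvPolynomial (Fin 0) A ⊗[A] B)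
    rw [h1, rTensor_eq_map, rTensor_eq_map, map_one, map_one] at h
    exact h.symm
  · obtain ⟨n, φ, x', y', -, rfl, rfl, -⟩ := lift₂ x y 0
    rw [rTensor_eq_map φ x', rTensor_eq_map φ y', ← map_mul, ← rTensor_eq_map, ← rTensor_eq_map,
      ← rTensor_eq_map, ← F.isCompat_apply', ← F.isCompat_apply', ← F.isCompat_apply', hmul,
      rTensor_eq_map, rTensor_eq_map, rTensor_eq_map, map_mul]

/-- Homogeneity may be tested on polynomial rings. -/
theorem homog_of_poly {M : Type v} [AddCommGroup M] [Module A M] {N : Type w} [AddCommGroup N] [Module A N]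
    (F : M →ₚₗ[A] N) (d : ℕ)
    (h : ∀ (n : ℕ) (a : MvPolynomial (Fin n) A) (x : MvPolynomial (Fin n) A ⊗[A] M),
      F.toFun' _ (a • x) = a ^ d • F.toFun' _ x)
    (S : Type u) [CommSemiring S] [Algebra A S] (a : S) (x : S ⊗[A] M) :
    F.toFun' S (a • x) = a ^ d • F.toFun' S x := by
  obtain ⟨n, φ, x', -, a', rfl, -, rfl⟩ := lift₂ x 0 a
  rw [← rTensor_smul_scalar, ← F.isCompat_apply', h, rTensor_smul_scalar, map_pow, F.isCompat_apply']

section MulLaw

variable {B C : Type u} [CommRing B] [Algebra A B] [CommRing C] [Algebra A C] {d : ℕ}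
  (T : ∀ n : ℕ, MvPolynomial (Fin n) A ⊗[A] B → MvPolynomial (Fin n) A ⊗[A] C)
  (hT : ∀ (n m : ℕ) (φ : MvPolynomial (Fin n) A →ₐ[A] MvPolynomial (Fin m) A)
    (z : MvPolynomial (Fin n) A ⊗[A] B),
      φ.toLinearMap.rTensor C (T n z) = T m (φ.toLinearMap.rTensor B z))
  (h1 : ∀ n, T n 1 = 1) (hmul : ∀ n x y, T n (x * y) = T n x * T n y)
  (hsmul : ∀ n (a : MvPolynomial (Fin n) A) x, T n (a • x) = a ^ d • T n x)

/-- The multiplicative law with prescribed values on the polynomial rings. -/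
noncomputable def mulLaw : _root_.PolLaw.MulLaw A B C d where
  law := Extend.ofPoly T hT
  homog S _ _ a x := homog_of_poly _ d (fun n a x => by
    rw [Extend.ofPoly_apply, Extend.ofPoly_apply, hsmul]) S a x
  mult S _ _ := mult_of_poly _ (fun n => by rw [Extend.ofPoly_apply, h1])
    (fun n x y => by rw [Extend.ofPoly_apply, Extend.ofPoly_apply, Extend.ofPoly_apply, hmul]) S

theorem mulLaw_apply (n : ℕ) (z : MvPolynomial (Fin n) A ⊗[A] B) :
    (mulLaw T hT h1 hmul hsmul).law.toFun' _ z = T n z :=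
  Extend.ofPoly_apply T hT n z

end MulLaw

end Groth.Agent.Lib.PolLaw.OfPoly
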