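import Groth.Agent.Lib.PolLaw.BaseChange
import Mathlib.FieldTheory.IsAlgClosed.AlgebraicClosure
import Mathlib.RingTheory.Nilpotent.Lemmas

/-!
# Points of a law over algebraically closed fields; reducedness of the image
-/

universe u

open scoped TensorProduct
open Polynomial

namespace Groth.Agent.Lib.PolLaw.Points

open Coeff Val Kernel BaseChange

variable {A : Type u} [CommRing A] {B C : Type u} [CommRing B] [Algebra A B] [CommRing C] [Algebra A C] {d : ℕ}
variable {K : Type u} [Field K] [Algebra A K]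

/-- A family of `d` points gives the values of the law. -/
def IsPoints (F : _root_.PolLaw.MulLaw A B C d) (g : C →ₐ[A] K) (ψ : Fin d → (B →ₐ[A] K)) : Prop :=
  ∀ (R : Type u) [CommRing R] [Algebra A R] (φ : K →ₐ[A] R) (z : R ⊗[A] B),
    val F (φ.comp g) z = ∏ j, evalHom (φ.comp (ψ j)) z

theorem exists_isPoints [IsAlgClosed K] (F : _root_.PolLaw.MulLaw A B C d) (g : C →ₐ[A] K) :
    ∃ ψ, IsPoints F g ψ :=
  CayleyHamilton.exists_points F g

theorem val_eq_prod {F : _root_.PolLaw.MulLaw A B C d} {g : C →ₐ[A] K} {ψ : Fin d → (B →ₐ[A] K)}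
    (hψ : IsPoints F g ψ) (z : K ⊗[A] B) : val F g z = ∏ j, evalHom (ψ j) z :=
  hψ K (AlgHom.id A K) z

/-- Points kill the kernel. -/
theorem apply_eq_zero_of_mem_ker {F : _root_.PolLaw.MulLaw A B C d} {g : C →ₐ[A] K} {ψ : Fin d → (B →ₐ[A] K)}
    (hψ : IsPoints F g ψ) {b : B} (hb : b ∈ _root_.PolLaw.ker F.law) (j : Fin d) : ψ j b = 0 := by
  let r : K := ψ j b
  have h1 := val_eq_prod hψ ((-r) • 1 + 1 * ((1 : K) ⊗ₜ[A] b))
  rw [val, hb K, ← val, val_smul, val_one, mul_one] at h1
  rw [Finset.prod_eq_zero (Finset.mem_univ j) (by simp [r])] at h1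
  simpa [r] using (pow_eq_zero_iff'.1 h1).1

/-- Points kill the kernel, for laws into the base. -/
theorem evalHom_eq_zero_of_mem_kerBC {F : _root_.PolLaw.MulLaw A B A d} {ψ : Fin d → (B →ₐ[A] K)}
    (hψ : IsPoints F (Algebra.ofId A K) ψ) {A' : Type u} [CommRing A'] [Algebra A A'] (h : A' →ₐ[A] K)
    {z : A' ⊗[A] B} (hz : z ∈ _root_.PolLaw.kerBC F.law A') (j : Fin d) :
    evalHom (ψ j) (Algebra.TensorProduct.map h (AlgHom.id A B) z) = 0 := by
  letI : Algebra A' K := h.toRingHom.toAlgebra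
  haveI : IsScalarTower A A' K := IsScalarTower.of_algebraMap_eq fun a => (h.commutes a).symm
  have hh : IsScalarTower.toAlgHom A A' K = h := AlgHom.ext fun _ => rfl
  let r : K := evalHom (ψ j) (Algebra.TensorProduct.map h (AlgHom.id A B) z)
  have h1 := val₀_of_mem_kerBC (R := K) hz ((-r) • 1) 1
  rw [val₀_smul_one, val₀, val_eq_prod hψ, toTest, hh, Finset.prod_eq_zero (Finset.mem_univ j) (by simp [r])] at h1
  simpa [r] using (pow_eq_zero_iff'.1 h1.symm).1

theorem mapAlg_apply {ι : Type} {L : Type u} [CommRing L] [Algebra A L] (p : MvPolynomial ι A) :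
    MvPolynomial.mapAlgHom (Algebra.ofId A L) p = MvPolynomial.map (algebraMap A L) p := rfl

/-- A point killing the kernel is one of the points of the law. -/
theorem exists_eq_of_kills_ker {F : _root_.PolLaw.MulLaw A B A d} {ψ : Fin d → (B →ₐ[A] K)}
    (hψ : IsPoints F (Algebra.ofId A K) ψ) (θ : B →ₐ[A] K)
    (hθ : ∀ b ∈ _root_.PolLaw.ker F.law, θ b = 0) : ∃ j, θ = ψ j := by
  classical
  by_contra hne
  simp only [not_exists] at hne
  choose b hb using fun j => (not_forall.1 fun h => hne j (AlgHom.ext h))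
  let R := MvPolynomial (Fin d) K
  let c : K →ₐ[A] R := IsScalarTower.toAlgHom A K R
  let μ : MvPolynomial (Fin d) A →ₐ[A] R := MvPolynomial.mapAlgHom (Algebra.ofId A K)
  let z := Polynomial.aeval (gen b : MvPolynomial (Fin d) A ⊗[A] B) (chi₀ F (gen b))
  let Φ : MvPolynomial (Fin d) A ⊗[A] B →ₐ[A] R :=
    Algebra.TensorProduct.lift μ (c.comp θ) fun _ _ => Commute.all _ _
  have hz : Φ z = 0 := by
    have hm : z ∈ (_root_.PolLaw.ker F.law).map
        (Algebra.TensorProduct.includeRight : B →ₐ[A] MvPolynomial (Fin d) A ⊗[A] B) := aeval_chi₀_mem_map F _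
    have : (_root_.PolLaw.ker F.law).map
        (Algebra.TensorProduct.includeRight : B →ₐ[A] MvPolynomial (Fin d) A ⊗[A] B) ≤ RingHom.ker Φ :=
      Ideal.map_le_iff_le_comap.2 fun b' hb' => by simp [Φ, hθ b' hb']
    exact this hm
  let w : R ⊗[A] B := Algebra.TensorProduct.map μ (AlgHom.id A B) (gen b)
  have hΦgen : ∀ θ' : B →ₐ[A] K, evalHom (c.comp θ') w = ∑ i, MvPolynomial.X i * MvPolynomial.C (θ' (b i)) := by
    intro θ'
    simp [w, gen, μ, c, R, mapAlg_apply]
  have hΦ : ∀ v, Φ v = evalHom (c.comp θ) (Algebra.TensorProduct.map μ (AlgHom.id A B) v) := by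
    intro v
    induction v using TensorProduct.induction_on with
    | zero => simp
    | tmul p b' => simp [Φ]
    | add x y hx hy => simp only [map_add, hx, hy]
  have hchi : (chi₀ F (gen b : MvPolynomial (Fin d) A ⊗[A] B)).map μ.toRingHom =
      ∏ j, (Polynomial.C (evalHom (c.comp (ψ j)) w) - X) := by
    rw [chi₀_map, chi₀_eq, val₀,
      Subsingleton.elim (Algebra.ofId A R[X]) (((Polynomial.CAlgHom (R := A) (A := R)).comp c).comp (Algebra.ofId A K)), hψ]
    refine Finset.prod_congr rfl fun j _ => ?_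
    rw [map_sub, map_smul, map_one, smul_eq_mul, mul_one, AlgHom.comp_assoc, toPoly, ← evalHom_map]
    rfl
  rw [hΦ, map_aeval_chi₀, ← chi₀_map, hchi, ← Polynomial.aeval_algHom_apply, map_prod,
    Finset.prod_eq_zero_iff] at hz
  obtain ⟨j, -, hj⟩ := hz
  rw [map_sub, Polynomial.aeval_C, Polynomial.aeval_X, sub_eq_zero, Algebra.algebraMap_self_apply,
    hΦgen, show evalHom (c.comp θ) (Algebra.TensorProduct.map μ (AlgHom.id A B) (gen b)) = _ from hΦgen θ] at hj
  have h2 := congrArg (MvPolynomial.eval (Pi.single j (1 : K))) hj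
  simp only [R, map_sum, map_mul, MvPolynomial.eval_X, MvPolynomial.eval_C, Pi.single_apply, ite_mul, one_mul,
    zero_mul, Finset.sum_ite_eq', Finset.mem_univ, if_true] at h2
  exact hb j h2.symm

/-- Coefficientwise detection by points of the target. -/
theorem coef_eq_zero_of_evalHom {ι : Type} (z : MvPolynomial ι A ⊗[A] C) (g : C →ₐ[A] K)
    (h : evalHom ((IsScalarTower.toAlgHom A K (MvPolynomial ι K)).comp g)
      (Algebra.TensorProduct.map (MvPolynomial.mapAlgHom (Algebra.ofId A K) : MvPolynomial ι A →ₐ[A] MvPolynomial ι K)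
        (AlgHom.id A C) z) = 0) (ν : ι →₀ ℕ) : g (coefEquiv z ν) = 0 := by
  classical
  suffices ∀ z : MvPolynomial ι A ⊗[A] C, MvPolynomial.coeff ν
      (evalHom ((IsScalarTower.toAlgHom A K (MvPolynomial ι K)).comp g)
        (Algebra.TensorProduct.map (MvPolynomial.mapAlgHom (Algebra.ofId A K) : MvPolynomial ι A →ₐ[A] MvPolynomial ι K)
          (AlgHom.id A C) z)) = g (coefEquiv z ν) by
    rw [← this, h, MvPolynomial.coeff_zero]
  intro z
  induction z using TensorProduct.induction_on with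
  | zero => simp
  | tmul p c =>
    simp [coefEquiv_tmul, mapAlg_apply, mul_comm _ (MvPolynomial.C (g c)), MvPolynomial.coeff_C_mul,
      MvPolynomial.coeff_map, Algebra.smul_def, mul_comm]
  | add x y hx hy => simp [hx, hy]

/-- If the target is reduced, so is the image. -/
theorem isReduced_image [IsReduced C] (F : _root_.PolLaw.MulLaw A B C d) :
    IsReduced (_root_.PolLaw.image F.law) := by
  refine ⟨fun y ⟨m, hm⟩ => ?_⟩
  obtain ⟨b, rfl⟩ := Ideal.Quotient.mk_surjective y
  rw [← map_pow, Ideal.Quotient.eq_zero_iff_mem] at hm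
  rw [Ideal.Quotient.eq_zero_iff_mem]
  intro S _ _ x w
  obtain ⟨n, φ, x', w', -, rfl, rfl, -⟩ := OfPoly.lift₂ x w 0
  let P := MvPolynomial (Fin n) A
  suffices hP : F.law.toFun' P (x' + w' * (1 ⊗ₜ[A] b)) = F.law.toFun' P x' by
    rw [OfPoly.rTensor_eq_map φ x', OfPoly.rTensor_eq_map φ w',
      show (1 : S) ⊗ₜ[A] b = Algebra.TensorProduct.map φ (AlgHom.id A B) (1 ⊗ₜ[A] b) by simp,
      ← map_mul, ← map_add, ← OfPoly.rTensor_eq_map, ← OfPoly.rTensor_eq_map, ← compat, ← compat, hP]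
  rw [← sub_eq_zero]
  refine coefEquiv.injective (Finsupp.ext fun ν => ?_)
  rw [map_zero, Finsupp.zero_apply]
  have hnil : IsNilpotent (coefEquiv (F.law.toFun' P (x' + w' * (1 ⊗ₜ[A] b)) - F.law.toFun' P x') ν) := by
    rw [nilpotent_iff_mem_prime]
    intro p hp
    let K₀ := AlgebraicClosure (FractionRing (C ⧸ p))
    let g₀ : C →+* K₀ := ((algebraMap (FractionRing (C ⧸ p)) K₀).comp
      (algebraMap (C ⧸ p) (FractionRing (C ⧸ p)))).comp (Ideal.Quotient.mk p)
    letI : Algebra A K₀ := (g₀.comp (algebraMap A C)).toAlgebra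
    let g : C →ₐ[A] K₀ := { g₀ with commutes' := fun _ => rfl }
    obtain ⟨ψ, hψ⟩ := exists_isPoints F g
    have hb : ∀ j, ψ j b = 0 := fun j => by
      have h1 := apply_eq_zero_of_mem_ker hψ hm j
      rw [map_pow] at h1
      exact (pow_eq_zero_iff'.1 h1).1
    have := coef_eq_zero_of_evalHom (F.law.toFun' P (x' + w' * (1 ⊗ₜ[A] b)) - F.law.toFun' P x') g (by
      rw [map_sub, map_sub, sub_eq_zero, ← OfPoly.rTensor_eq_map, ← OfPoly.rTensor_eq_map, compat, compat,
        ← val, ← val, hψ, hψ, OfPoly.rTensor_eq_map, OfPoly.rTensor_eq_map, map_add, map_mul]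
      refine Finset.prod_congr rfl fun j _ => ?_
      simp [hb j]) ν
    have h2 : g₀ (coefEquiv (F.law.toFun' P (x' + w' * (1 ⊗ₜ[A] b)) - F.law.toFun' P x') ν) = g₀ 0 := by
      rw [map_zero]; exact this
    exact Ideal.Quotient.eq_zero_iff_mem.1 (IsFractionRing.injective (C ⧸ p) (FractionRing (C ⧸ p))
      ((algebraMap (FractionRing (C ⧸ p)) K₀).injective (by rw [map_zero, map_zero]; simpa [g, g₀] using this)))
  exact hnil.eq_zero

end Groth.Agent.Lib.PolLaw.Points
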