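import Groth.Agent.Lib.PolLaw.Tpow
import Groth.Agent.Lib.PolLaw.Universal

/-!
# The polarization map `B^{⊗ d} → Γ^d(B)` and comparison with symmetric tensors
-/

universe u

open scoped TensorProduct

namespace Groth.Agent.Lib.PolLaw.Polar

open Coeff

variable {A : Type u} [CommRing A] {B C : Type u} [CommRing B] [Algebra A B] [CommRing C] [Algebra A C] {d : ℕ}

/-- The exponent `(1, …, 1)`. -/
noncomputable def ones (d : ℕ) : Fin d →₀ ℕ := Finsupp.equivFunOnFinite.symm fun _ => 1

theorem cnt_eq_ones_iff (c : Fin d → Fin d) : Tpow.cnt c = ones d ↔ Function.Bijective c := by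
  classical
  constructor
  · intro h
    have hs : Function.Surjective c := fun i => by
      have := DFunLike.congr_fun h i
      rw [Tpow.cnt_apply] at this
      obtain ⟨k, hk⟩ := Finset.card_pos.1 (this.symm ▸ (by simp [ones]) : 0 < (Finset.univ.filter fun k => c k = i).card)
      exact ⟨k, (Finset.mem_filter.1 hk).2⟩
    exact ⟨Finite.injective_iff_surjective.2 hs, hs⟩
  · intro h
    refine Finsupp.ext fun i => ?_
    rw [Tpow.cnt_apply, show ones d i = 1 by simp [ones], Finset.card_eq_one]
    obtain ⟨k, hk⟩ := h.2 i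
    exact ⟨k, Finset.ext fun j => by simp [← hk, h.1.eq_iff]⟩

open scoped Classical in
theorem coef_tpow_ones (b : Fin d → B) :
    coef (SymTen.tpowLaw A B d).law b (ones d) =
      ∑ σ : Equiv.Perm (Fin d), SymTen.perm A B d σ (PiTensorProduct.tprod A b) := by
  rw [Tpow.coef_tpow]
  refine Eq.trans (Finset.sum_congr rfl (g := fun c : Fin d → Fin d =>
    if Function.Bijective c then PiTensorProduct.tprod A (fun k => b (c k)) else 0) fun c _ => ?_) ?_
  · by_cases hc : Function.Bijective c
    · rw [if_pos hc, if_pos ((cnt_eq_ones_iff c).2 hc)]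
    · rw [if_neg hc, if_neg fun h => hc ((cnt_eq_ones_iff c).1 h)]
  rw [← Finset.sum_filter]
  refine Finset.sum_bij' (fun c hc => (Equiv.ofBijective c (Finset.mem_filter.1 hc).2).symm)
    (fun σ _ => ⇑σ.symm) (fun _ _ => Finset.mem_univ _) (fun σ _ => Finset.mem_filter.2 ⟨Finset.mem_univ _,
      σ.symm.bijective⟩) (fun c hc => by simp) (fun σ _ => Equiv.ext fun k => by
        rw [Equiv.symm_apply_eq]
        simp) fun c hc => ?_
  rw [SymTen.perm_tprod]
  rfl

theorem toTensor_cls_update {P : Type u} [CommRing P] [Algebra A P] (β : Fin d → P) :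
    Tpow.toTensor A P d (Gamma.cls β (ones d)) =
      ∑ σ : Equiv.Perm (Fin d), SymTen.perm A P d σ (PiTensorProduct.tprod A β) := by
  rw [Tpow.toTensor, Gamma.lift_cls, coef_tpow_ones]

theorem coef_eq_classify (F : _root_.PolLaw.MulLaw A B C d) {n : ℕ} (β : Fin n → Universal.Cov A B)
    (ν : Fin n →₀ ℕ) :
    coef F.law (fun i => Universal.proj A B (β i)) ν = Universal.classify F (Gamma.cls β ν) := by
  rw [Universal.classify, Gamma.lift_cls]
  exact (coef_precomp F.law (Universal.proj A B).toLinearMap β ν).symm

open scoped Classical in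
theorem coef_ones_update_add (F : _root_.PolLaw.MulLaw A B C d) (b : Fin d → B) (i : Fin d) (x y : B) :
    coef F.law (Function.update b i (x + y)) (ones d) =
      coef F.law (Function.update b i x) (ones d) + coef F.law (Function.update b i y) (ones d) := by
  let s := Function.surjInv (Universal.proj_surjective (A := A) (B := B))
  have hs : ∀ z, Universal.proj A B (s z) = z := Function.surjInv_eq _
  have h : ∀ z : B, (fun k => Universal.proj A B (Function.update (s ∘ b) i (s z) k)) = Function.update b i z :=
    fun z => funext fun k => by by_cases hk : k = i <;> simp [hk, hs]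
  have h' : (fun k => Universal.proj A B (Function.update (s ∘ b) i (s x + s y) k)) = Function.update b i (x + y) :=
    funext fun k => by by_cases hk : k = i <;> simp [hk, hs]
  rw [← h x, ← h y, ← h', coef_eq_classify, coef_eq_classify, coef_eq_classify, ← map_add]
  congr 1
  refine Tpow.toTensor_injective A _ d ?_
  rw [map_add, toTensor_cls_update, toTensor_cls_update, toTensor_cls_update, ← Finset.sum_add_distrib]
  exact Finset.sum_congr rfl fun σ _ => by rw [MultilinearMap.map_update_add, map_add]

open scoped Classical in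
theorem coef_ones_update_smul (F : _root_.PolLaw.MulLaw A B C d) (b : Fin d → B) (i : Fin d) (a : A) (x : B) :
    coef F.law (Function.update b i (a • x)) (ones d) = a • coef F.law (Function.update b i x) (ones d) := by
  let s := Function.surjInv (Universal.proj_surjective (A := A) (B := B))
  have hs : ∀ z, Universal.proj A B (s z) = z := Function.surjInv_eq _
  have h : (fun k => Universal.proj A B (Function.update (s ∘ b) i (s x) k)) = Function.update b i x :=
    funext fun k => by by_cases hk : k = i <;> simp [hk, hs]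
  have h' : (fun k => Universal.proj A B (Function.update (s ∘ b) i (a • s x) k)) = Function.update b i (a • x) :=
    funext fun k => by by_cases hk : k = i <;> simp [hk, hs]
  rw [← h, ← h', coef_eq_classify, coef_eq_classify, ← map_smul]
  congr 1
  refine Tpow.toTensor_injective A _ d ?_
  rw [map_smul, toTensor_cls_update, toTensor_cls_update, Finset.smul_sum]
  exact Finset.sum_congr rfl fun σ _ => by rw [MultilinearMap.map_update_smul, map_smul]

/-- `b₁ ⊗ ⋯ ⊗ b_d ↦` the coefficient of `X₁ ⋯ X_d` in `F (∑ X i ⊗ b i)`. -/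
noncomputable def polar (F : _root_.PolLaw.MulLaw A B C d) : (⨂[A] _ : Fin d, B) →ₗ[A] C :=
  PiTensorProduct.lift
    { toFun := fun b => coef F.law b (ones d)
      map_update_add' := fun b i x y => by
        convert coef_ones_update_add F b i x y using 3 <;> exact (by congr 1; exact Subsingleton.elim _ _)
      map_update_smul' := fun b i a x => by
        convert coef_ones_update_smul F b i a x using 3 <;> exact (by congr 1; exact Subsingleton.elim _ _) }

theorem polar_tprod (F : _root_.PolLaw.MulLaw A B C d) (b : Fin d → B) :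
    polar F (PiTensorProduct.tprod A b) = coef F.law b (ones d) := by
  simp [polar]

/-- Compatibility of the tensor power map with the classifying map. -/
theorem tmap_toTensor (B : Type u) [CommRing B] [Algebra A B] {C : Type u} [CommRing C] [Algebra A C]
    {γ : _root_.PolLaw.MulLaw A B C d} (j : C →ₐ[A] ⨂[A] _ : Fin d, B)
    (hj : _root_.PolLaw.postcomp j.toLinearMap γ.law = (SymTen.tpowLaw A B d).law) :
    j.comp (Universal.classify γ) =
      (SymTen.tmap A d (Universal.proj A B)).comp (Tpow.toTensor A (Universal.Cov A B) d) := by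
  refine Gamma.hom_ext (Gamma.isGammaD_univ A (Universal.Cov A B) d) fun n β ν => ?_
  rw [Gamma.coef_univ]
  show j (Universal.classify γ (Gamma.cls β ν)) = SymTen.tmap A d (Universal.proj A B) (Tpow.toTensor A _ d (Gamma.cls β ν))
  rw [← coef_eq_classify, Tpow.toTensor, Gamma.lift_cls, Tpow.coef_tpow, map_sum,
    Gamma.apply_coef (F := SymTen.tpowLaw A B d) hj, Tpow.coef_tpow]
  refine Finset.sum_congr rfl fun c _ => ?_
  split_ifs <;> simp

theorem classify_surjective {γ : _root_.PolLaw.MulLaw A B C d} (hγ : _root_.PolLaw.IsGammaD γ) :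
    Function.Surjective (Universal.classify γ) := by
  intro c
  refine Gamma.mem_of_coef_mem hγ (Universal.classify γ).range (fun n b ν => ?_) c
  choose β hβ using fun i => Universal.proj_surjective (A := A) (b i)
  exact ⟨Gamma.cls β ν, (coef_eq_classify γ β ν).symm.trans (by rw [funext hβ])⟩

variable {γ : _root_.PolLaw.MulLaw A B C d} (j : C →ₐ[A] ⨂[A] _ : Fin d, B)
  (hj : _root_.PolLaw.postcomp j.toLinearMap γ.law = (SymTen.tpowLaw A B d).law)

include hj in
theorem j_polar (y : ⨂[A] _ : Fin d, B) :
    j (polar γ y) = ∑ σ : Equiv.Perm (Fin d), SymTen.perm A B d σ y := by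
  induction y using PiTensorProduct.induction_on with
  | smul_tprod a b =>
    rw [map_smul, map_smul, polar_tprod, Gamma.apply_coef hj, coef_tpow_ones, Finset.smul_sum]
    simp
  | add x y hx hy =>
    rw [map_add, map_add, hx, hy, ← Finset.sum_add_distrib]
    exact Finset.sum_congr rfl fun σ _ => (map_add _ _ _).symm

theorem polar_tmap (F : _root_.PolLaw.MulLaw A B C d) (y : ⨂[A] _ : Fin d, Universal.Cov A B) :
    polar F (SymTen.tmap A d (Universal.proj A B) y) =
      Universal.classify F (polar (Gamma.univ A (Universal.Cov A B) d) y) := by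
  induction y using PiTensorProduct.induction_on with
  | smul_tprod a b =>
    simp only [map_smul, SymTen.tmap_tprod, polar_tprod, Gamma.coef_univ]
    rw [coef_eq_classify]
  | add x y hx hy => simp only [map_add, hx, hy]

theorem perm_toTensor (P : Type u) [CommRing P] [Algebra A P] (σ : Equiv.Perm (Fin d)) (z : Gamma.Alg A P d) :
    SymTen.perm A P d σ (Tpow.toTensor A P d z) = Tpow.toTensor A P d z := by
  suffices (SymTen.perm A P d σ).comp (Tpow.toTensor A P d) = Tpow.toTensor A P d from AlgHom.congr_fun this z
  refine Gamma.hom_ext (Gamma.isGammaD_univ A P d) fun n b ν => ?_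
  classical
  rw [Gamma.coef_univ, AlgHom.comp_apply, Tpow.toTensor, Gamma.lift_cls, Tpow.coef_tpow, map_sum]
  refine Fintype.sum_equiv (Equiv.arrowCongr σ (Equiv.refl (Fin n))) _ _ fun c => ?_
  have : Tpow.cnt (Equiv.arrowCongr σ (Equiv.refl (Fin n)) c) = Tpow.cnt c := Tpow.cnt_comp_perm c σ.symm
  rw [this]
  split_ifs <;> simp [Equiv.arrowCongr, Function.comp_def]

include hj in
theorem polar_j (hγ : _root_.PolLaw.IsGammaD γ) (c : C) : polar γ (j c) = d.factorial • c := by
  obtain ⟨z, rfl⟩ := classify_surjective hγ c
  have h := AlgHom.congr_fun (tmap_toTensor B j hj) z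
  rw [AlgHom.comp_apply] at h
  rw [h, AlgHom.comp_apply, polar_tmap, ← map_nsmul]
  congr 1
  refine Tpow.toTensor_injective A _ d ?_
  rw [j_polar (γ := Gamma.univ A (Universal.Cov A B) d) (Tpow.toTensor A (Universal.Cov A B) d)
    (Gamma.postcomp_lift_univ (SymTen.tpowLaw A (Universal.Cov A B) d)), map_nsmul]
  simp [perm_toTensor, Fintype.card_perm]

/-- The hypothesis on `φ` in the statements, as an equality of laws. -/
theorem postcomp_eq_tpow (φ : C →ₐ[A] SymTen.TS A B d)
    (hφ : ∀ (S : Type u) [CommSemiring S] [Algebra A S] (n : ℕ) (s : Fin n → S) (b : Fin n → B),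
      ((SymTen.TS A B d).val.comp φ).toLinearMap.lTensor S (γ.law.toFun' S (∑ j, s j ⊗ₜ[A] b j)) =
        ∑ c : Fin d → Fin n, (∏ i, s (c i)) ⊗ₜ[A] PiTensorProduct.tprod A (fun i => b (c i))) :
    _root_.PolLaw.postcomp ((SymTen.TS A B d).val.comp φ).toLinearMap γ.law = (SymTen.tpowLaw A B d).law := by
  refine PolynomialLaw.ext (funext fun S => funext fun _ => funext fun _ => funext fun x => ?_)
  obtain ⟨n, s, b, rfl⟩ := exists_rep x
  rw [Tpow.tpow_sum]
  exact hφ S n s b

end Groth.Agent.Lib.PolLaw.Polar
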