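import Groth.Agent.Lib.PolLaw.Kernel
import Mathlib.RingTheory.Spectrum.Prime.Topology

/-!
# Laws on a product over a connected base
-/

universe u

open scoped TensorProduct
open Polynomial

namespace Groth.Agent.Lib.PolLaw.Split

open Coeff Val Kernel

variable {A : Type u} [CommRing A] {B : Type u} [CommRing B] [Algebra A B] {d : ℕ}
  (F : _root_.PolLaw.MulLaw A B A d)

/-- The value at `X e + f`. -/
noncomputable def split (e f : B) : A[X] := val₀ F ((X : A[X]) ⊗ₜ[A] e + (1 : A[X]) ⊗ₜ[A] f)

theorem aeval_split (e f : B) {R : Type u} [CommSemiring R] [Algebra A R] (s : R) :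
    Polynomial.aeval s (split F e f) = val₀ F (s ⊗ₜ[A] e + (1 : R) ⊗ₜ[A] f) := by
  rw [split, map_val₀]
  congr 1
  simp

theorem val₀_mul {R : Type u} [CommSemiring R] [Algebra A R] (x y : R ⊗[A] B) :
    val₀ F (x * y) = val₀ F x * val₀ F y :=
  val_mul F _ x y

theorem val₀_one {R : Type u} [CommSemiring R] [Algebra A R] : val₀ F (1 : R ⊗[A] B) = 1 :=
  val_one F _

theorem val₀_smul {R : Type u} [CommSemiring R] [Algebra A R] (r : R) (x : R ⊗[A] B) :
    val₀ F (r • x) = r ^ d * val₀ F x :=
  val_smul F _ r x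

variable {e f : B} (hee : e * e = e) (hff : f * f = f) (hef : e * f = 0) (h1 : e + f = 1)
include hee hff hef h1

theorem split_mul {R : Type u} [CommSemiring R] [Algebra A R] (s t : R) :
    Polynomial.aeval s (split F e f) * Polynomial.aeval t (split F e f) = Polynomial.aeval (s * t) (split F e f) := by
  rw [aeval_split, aeval_split, aeval_split, ← val₀_mul]
  congr 1
  simp [mul_add, add_mul, Algebra.TensorProduct.tmul_mul_tmul, hee, hff, hef, mul_comm f e]

theorem exists_degree [ConnectedSpace (PrimeSpectrum A)] :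
    ∃ d₁, d₁ ≤ d ∧ split F e f = X ^ d₁ ∧ split F f e = X ^ (d - d₁) := by
  classical
  have hidem : ∀ c : A, IsIdempotentElem c → c = 0 ∨ c = 1 := by
    intro c hc
    rcases isClopen_iff.1 ((PrimeSpectrum.isClopen_iff).2 ⟨c, hc, rfl⟩) with h | h
    · exact Or.inl (PrimeSpectrum.basicOpen_injOn_isIdempotentElem hc IsIdempotentElem.zero
        (SetLike.ext' (h.trans (by simp))))
    · exact Or.inr (PrimeSpectrum.basicOpen_injOn_isIdempotentElem hc IsIdempotentElem.one
        (SetLike.ext' (h.trans (by simp))))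
  have : Nontrivial A := by
    by_contra hn
    have : Subsingleton A := not_nontrivial_iff_subsingleton.1 hn
    exact IsEmpty.false (Classical.arbitrary (PrimeSpectrum A))
  have main : ∀ e f : B, e * e = e → f * f = f → e * f = 0 → e + f = 1 → ∃ k, split F e f = X ^ k := by
    intro e f hee hff hef h1
    let P := split F e f
    have hC : ∀ a b : ℕ, P.coeff a * P.coeff b = if a = b then P.coeff b else 0 := by
      intro a b
      have h := split_mul F hee hff hef h1 (Polynomial.C (X : A[X])) (X : Polynomial A[X])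
      have e2 : ∀ Q : A[X], (Polynomial.aeval (Polynomial.C (X : A[X]) * (X : Polynomial A[X])) Q).coeff b =
          Polynomial.C (Q.coeff b) * X ^ b := by
        intro Q
        induction Q using Polynomial.induction_on' with
        | add p q hp hq => simp [hp, hq, add_mul]
        | monomial n c =>
          rw [Polynomial.aeval_monomial, mul_pow, ← mul_assoc, ← Polynomial.C_pow, IsScalarTower.algebraMap_apply A A[X] (Polynomial A[X]),
            Polynomial.algebraMap_eq, ← map_mul, Polynomial.coeff_C_mul_X_pow, Polynomial.coeff_monomial]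
          rcases eq_or_ne b n with rfl | hne
          · simp
          · simp [hne, hne.symm]
      have e1 : ∀ Q : A[X], Polynomial.aeval (Polynomial.C (X : A[X])) Q = Polynomial.C Q := by
        intro Q
        induction Q using Polynomial.induction_on' with
        | add p q hp hq => simp [hp, hq]
        | monomial n c => simp [← Polynomial.C_mul_X_pow_eq_monomial]
      have e3 : ∀ Q : A[X], (Polynomial.aeval (X : Polynomial A[X]) Q).coeff b = Polynomial.C (Q.coeff b) := by
        intro Q
        induction Q using Polynomial.induction_on' with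
        | add p q hp hq => simp [hp, hq]
        | monomial n c =>
          rw [Polynomial.aeval_monomial, IsScalarTower.algebraMap_apply A A[X] (Polynomial A[X]),
            Polynomial.algebraMap_eq, Polynomial.coeff_C_mul_X_pow, Polynomial.coeff_monomial]
          rcases eq_or_ne b n with rfl | hne
          · simp
          · simp [hne, hne.symm]
      have h2 := congrArg (fun q : Polynomial A[X] => q.coeff b) h
      simp only [e1, Polynomial.coeff_C_mul, e2, e3] at h2
      have h3 := congrArg (fun q : A[X] => q.coeff a) h2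
      simpa [P, Polynomial.coeff_mul_C, Polynomial.coeff_X_pow] using h3
    have hP1 : P.eval 1 = 1 := by
      rw [← Polynomial.coe_aeval_eq_eval]
      show Polynomial.aeval (1 : A) (split F e f) = 1
      rw [aeval_split, ← TensorProduct.tmul_add, h1, ← Algebra.TensorProduct.one_def, val₀_one]
    have hne : P ≠ 0 := fun h => by simp [h] at hP1
    obtain ⟨k, hk⟩ := Finset.nonempty_of_ne_empty (fun h => hne (Polynomial.support_eq_empty.1 h))
    have hk1 : P.coeff k = 1 :=
      (hidem _ (by simpa [IsIdempotentElem] using hC k k)).resolve_left (Polynomial.mem_support_iff.1 hk)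
    refine ⟨k, Polynomial.ext fun a => ?_⟩
    rw [Polynomial.coeff_X_pow]
    split_ifs with h
    · subst h; exact hk1
    · simpa [hk1, h] using hC a k
  obtain ⟨k, hk⟩ := main e f hee hff hef h1
  obtain ⟨l, hl⟩ := main f e hff hee (by rw [mul_comm]; exact hef) (by rw [add_comm]; exact h1)
  have hprod : split F e f * split F f e = (X : A[X]) ^ d := by
    rw [split, split, ← val₀_mul]
    rw [show ((X : A[X]) ⊗ₜ[A] e + (1 : A[X]) ⊗ₜ[A] f) * ((X : A[X]) ⊗ₜ[A] f + (1 : A[X]) ⊗ₜ[A] e) = (X : A[X]) • (1 : A[X] ⊗[A] B) by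
      simp [mul_add, add_mul, Algebra.TensorProduct.tmul_mul_tmul, hee, hff, hef, mul_comm f e, Algebra.TensorProduct.one_def,
        TensorProduct.smul_tmul', ← h1, TensorProduct.tmul_add, add_comm], val₀_smul, val₀_one, mul_one]
  rw [hk, hl, ← pow_add] at hprod
  have hkl : k + l = d := by simpa using congrArg Polynomial.natDegree hprod
  exact ⟨k, by omega, hk, by rw [hl]; congr 1; omega⟩

omit hee hef h1 hff
variable {B₁ : Type u} [CommRing B₁] [Algebra A B₁]

/-- The part of a law on one factor. -/
theorem exists_part (ι : B₁ →ₗ[A] B) (f : B) (hι : ∀ a b, ι (a * b) = ι a * ι b) (hff : f * f = f)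
    (hιf : ∀ a, ι a * f = 0) (h1 : ι 1 + f = 1) {d₁ : ℕ} (hs : split F (ι 1) f = X ^ d₁) :
    ∃ G : _root_.PolLaw.MulLaw A B₁ A d₁, ∀ (S : Type u) [CommSemiring S] [Algebra A S] (x : S ⊗[A] B₁),
      G.law.toFun' S x = F.law.toFun' S (ι.lTensor S x + 1 ⊗ₜ[A] f) := by
  have hmulι : ∀ (S : Type u) [CommSemiring S] [Algebra A S] (x y : S ⊗[A] B₁),
      ι.lTensor S (x * y) = ι.lTensor S x * ι.lTensor S y := by
    intro S _ _ x y
    induction x using TensorProduct.induction_on with
    | zero => simp
    | add a b ha hb => simp [add_mul, ha, hb]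
    | tmul s a =>
      induction y using TensorProduct.induction_on with
      | zero => simp
      | add a b ha hb => simp [mul_add, ha, hb]
      | tmul t b => simp [hι]
  have hzero : ∀ (S : Type u) [CommSemiring S] [Algebra A S] (x : S ⊗[A] B₁),
      ι.lTensor S x * (1 ⊗ₜ[A] f) = 0 := by
    intro S _ _ x
    induction x using TensorProduct.induction_on with
    | zero => simp
    | add a b ha hb => simp [add_mul, ha, hb]
    | tmul s a => simp [hιf]
  let G : B₁ →ₚₗ[A] A :=
    { toFun' := fun S _ _ x => F.law.toFun' S (ι.lTensor S x + 1 ⊗ₜ[A] f)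
      isCompat' := fun φ => by
        funext x
        simp only [Function.comp_apply]
        rw [compat, map_add, ← LinearMap.comp_apply, LinearMap.rTensor_comp_lTensor, ← LinearMap.lTensor_comp_rTensor,
          LinearMap.comp_apply, LinearMap.rTensor_tmul, AlgHom.toLinearMap_apply, map_one] }
  have hmul : ∀ (S : Type u) [CommSemiring S] [Algebra A S] (x y : S ⊗[A] B₁),
      (ι.lTensor S x + 1 ⊗ₜ[A] f) * (ι.lTensor S y + 1 ⊗ₜ[A] f) = ι.lTensor S (x * y) + 1 ⊗ₜ[A] f := by
    intro S _ _ x y
    rw [add_mul, mul_add, mul_add, ← hmulι, hzero, mul_comm (1 ⊗ₜ[A] f) (ι.lTensor S y), hzero,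
      Algebra.TensorProduct.tmul_mul_tmul, one_mul, hff, add_zero, zero_add]
  refine ⟨⟨G, fun S _ _ a x => ?_, fun S _ _ => ⟨?_, fun x y => ?_⟩⟩, fun S _ _ x => rfl⟩
  · show F.law.toFun' S (ι.lTensor S (a • x) + 1 ⊗ₜ[A] f) = a ^ d₁ • F.law.toFun' S (ι.lTensor S x + 1 ⊗ₜ[A] f)
    have ha : (a ⊗ₜ[A] (1 : B₁)) * x = a • x := by
      rw [Algebra.smul_def, Algebra.TensorProduct.algebraMap_apply, Algebra.algebraMap_self, RingHom.id_apply]
    rw [← ha, ← hmul, (F.mult S).2, LinearMap.lTensor_tmul, toFun'_eq F (a ⊗ₜ[A] ι 1 + 1 ⊗ₜ[A] f), ← aeval_split, hs,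
      map_pow, Polynomial.aeval_X, Algebra.smul_def, Algebra.TensorProduct.algebraMap_apply, Algebra.algebraMap_self,
      RingHom.id_apply]
  · show F.law.toFun' S (ι.lTensor S 1 + 1 ⊗ₜ[A] f) = 1
    rw [Algebra.TensorProduct.one_def, LinearMap.lTensor_tmul, ← TensorProduct.tmul_add, h1,
      ← Algebra.TensorProduct.one_def, (F.mult S).1]
  · show F.law.toFun' S _ = F.law.toFun' S _ * F.law.toFun' S _
    rw [← hmul, (F.mult S).2]

end Groth.Agent.Lib.PolLaw.Split
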