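import Groth.Agent.Lib.PolLaw.Gamma
import Groth.Prelude.Def_PolLaw2
import Mathlib.LinearAlgebra.PiTensorProduct.Basis

/-!
# `Γ^d` of a free module is `TS^d`
-/

universe u

open scoped TensorProduct

namespace Groth.Agent.Lib.PolLaw.Tpow

open Coeff

variable {A : Type u} [CommRing A] {B : Type u} [CommRing B] [Algebra A B] {d : ℕ}
variable {ι : Type}

/-- The type of a function on `Fin d`. -/
noncomputable def cnt (c : Fin d → ι) : ι →₀ ℕ := ∑ k, Finsupp.single (c k) 1

theorem cnt_comp_perm (c : Fin d → ι) (σ : Equiv.Perm (Fin d)) : cnt (c ∘ σ) = cnt c :=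
  Equiv.sum_comp σ fun k => Finsupp.single (c k) 1

theorem cnt_apply [DecidableEq ι] (c : Fin d → ι) (i : ι) :
    cnt c i = (Finset.univ.filter fun k => c k = i).card := by
  rw [cnt, Finsupp.finsetSum_apply, Finset.card_filter]
  exact Finset.sum_congr rfl fun k _ => Finsupp.single_apply

theorem sum_cnt [Fintype ι] (c : Fin d → ι) : ∑ i, cnt c i = d := by
  simp [cnt, Finsupp.finsetSum_apply, Finset.sum_comm (γ := ι), Finsupp.single_apply]

theorem prod_eq_pow_cnt {S : Type*} [CommMonoid S] [Fintype ι] (s : ι → S) (c : Fin d → ι) :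
    ∏ k, s (c k) = ∏ i, s i ^ cnt c i := by
  classical
  rw [← Finset.prod_fiberwise_of_maps_to (fun k _ => Finset.mem_univ (c k))]
  refine Finset.prod_congr rfl fun i _ => ?_
  rw [cnt_apply, ← Finset.prod_const]
  exact Finset.prod_congr rfl fun k hk => by rw [(Finset.mem_filter.1 hk).2]

theorem exists_perm {c c' : Fin d → ι} (h : cnt c = cnt c') : ∃ σ : Equiv.Perm (Fin d), c ∘ σ = c' := by
  classical
  have hc : ∀ i, Nonempty ({k // c' k = i} ≃ {k // c k = i}) := fun i => ⟨Fintype.equivOfCardEq (by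
    have h' := DFunLike.congr_fun h.symm i
    rw [cnt_apply, cnt_apply] at h'
    rw [Fintype.card_subtype, Fintype.card_subtype]
    exact h')⟩
  exact ⟨Equiv.ofFiberEquiv fun i => (hc i).some, funext fun k => Equiv.ofFiberEquiv_map _ k⟩

theorem exists_cnt [Fintype ι] (d : ℕ) (ν : ι →₀ ℕ) (h : ∑ i, ν i = d) : ∃ c : Fin d → ι, cnt c = ν := by
  classical
  induction d generalizing ν with
  | zero =>
    refine ⟨Fin.elim0, Finsupp.ext fun i => ?_⟩
    simpa [cnt] using ((Finset.sum_eq_zero_iff.1 h) i (Finset.mem_univ i)).symm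
  | succ d ih =>
    obtain ⟨i, -, hi⟩ := Finset.exists_ne_zero_of_sum_ne_zero
      (f := fun i => ν i) (s := (Finset.univ : Finset ι)) (by omega)
    have hle : Finsupp.single i 1 ≤ ν := Finsupp.single_le_iff.2 (by omega)
    have hν : ν = (ν - Finsupp.single i 1) + Finsupp.single i 1 := (tsub_add_cancel_of_le hle).symm
    obtain ⟨c, hc⟩ := ih (ν - Finsupp.single i 1) (by
      rw [hν] at h
      simpa [Finset.sum_add_distrib, Finsupp.single_apply] using h)
    refine ⟨Fin.cons i c, ?_⟩
    conv_rhs => rw [hν, ← hc]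
    simp [cnt, Fin.sum_univ_succ, add_comm]

variable (A B d) in
theorem prod_singleAlgHom (b : Fin d → B) :
    ∏ k, PiTensorProduct.singleAlgHom (R := A) (A := fun _ : Fin d => B) k (b k) = PiTensorProduct.tprod A b := by
  simp only [PiTensorProduct.singleAlgHom_apply, MonoidHom.mulSingle_apply]
  rw [← PiTensorProduct.tprod_prod]
  exact congrArg _ (Finset.univ_prod_mulSingle b)

theorem tpow_sum [Fintype ι] {S : Type u} [CommSemiring S] [Algebra A S] (s : ι → S) (b : ι → B) :
    (SymTen.tpowLaw A B d).law.toFun' S (∑ i, s i ⊗ₜ[A] b i) =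
      ∑ c : Fin d → ι, (∏ k, s (c k)) ⊗ₜ[A] PiTensorProduct.tprod A (fun k => b (c k)) := by
  classical
  simp only [SymTen.tpowLaw, _root_.PolLaw.MulLaw.prodMap_toFun', map_sum, Algebra.TensorProduct.map_tmul,
    AlgHom.id_apply, Fintype.prod_sum]
  refine Finset.sum_congr rfl fun c _ => ?_
  rw [← prod_singleAlgHom A B d fun k => b (c k)]
  have hsplit : ∀ (x : S) (y : ⨂[A] _ : Fin d, B), x ⊗ₜ[A] y =
      (Algebra.TensorProduct.includeLeft : S →ₐ[A] S ⊗[A] (⨂[A] _ : Fin d, B)) x *
        (Algebra.TensorProduct.includeRight : (⨂[A] _ : Fin d, B) →ₐ[A] S ⊗[A] _) y := fun x y => by simp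
  simp only [hsplit, map_prod, Finset.prod_mul_distrib]

open scoped Classical in
theorem coef_tpow [Fintype ι] (b : ι → B) (ν : ι →₀ ℕ) :
    coef (SymTen.tpowLaw A B d).law b ν =
      ∑ c : Fin d → ι, if cnt c = ν then PiTensorProduct.tprod A (fun k => b (c k)) else 0 := by
  rw [coef, coefs, gen, tpow_sum, map_sum, Finsupp.finsetSum_apply]
  refine Finset.sum_congr rfl fun c _ => ?_
  rw [coefEquiv_tmul, prod_eq_pow_cnt, monomial_one_eq, MvPolynomial.coeff_monomial]
  split_ifs <;> simp

variable (A B d) in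
/-- The map from `Γ^d` to the tensor power. -/
noncomputable def toTensor : Gamma.Alg A B d →ₐ[A] ⨂[A] _ : Fin d, B := Gamma.lift (SymTen.tpowLaw A B d)

/-- The sub-family of a basis indexed by a finset. -/
noncomputable def sub {I : Type u} (e : I → B) (s : Finset I) : Fin s.card → B :=
  fun i => e (s.equivFin.symm i : I)

theorem exists_finset_coef {C : Type u} [CommRing C] [Algebra A C] (F : B →ₚₗ[A] C) {I : Type u}
    (e : Module.Basis I A B) {c : C} (hc : c ∈ coefSpan F) :
    ∃ s : Finset I, c ∈ Submodule.span A (Set.range (coef F (sub e s))) := by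
  classical
  have mono : ∀ {s t : Finset I}, s ⊆ t → Submodule.span A (Set.range (coef F (sub e s))) ≤
      Submodule.span A (Set.range (coef F (sub e t))) := by
    intro s t hst
    refine Submodule.span_le.2 ?_
    rintro _ ⟨ν, rfl⟩
    exact coef_mem_span_of_mem_span F (sub e t) (sub e s)
      (fun i => Submodule.subset_span ⟨t.equivFin ⟨_, hst (s.equivFin.symm i).2⟩, by simp [sub]⟩) ν
  induction hc using Submodule.span_induction with
  | mem x hx =>
    obtain ⟨n, b, ν, rfl⟩ := hx
    refine ⟨Finset.univ.biUnion fun j => (e.repr (b j)).support,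
      coef_mem_span_of_mem_span F _ b (fun j => ?_) ν⟩
    rw [← e.linearCombination_repr (b j), Finsupp.linearCombination_apply]
    refine Submodule.sum_mem _ fun i hi => Submodule.smul_mem _ _ (Submodule.subset_span ?_)
    exact ⟨(Finset.univ.biUnion fun j => (e.repr (b j)).support).equivFin
      ⟨i, Finset.mem_biUnion.2 ⟨j, Finset.mem_univ _, hi⟩⟩, by simp [sub]⟩
  | zero => exact ⟨∅, Submodule.zero_mem _⟩
  | add x y _ _ hx hy =>
    obtain ⟨s, hs⟩ := hx
    obtain ⟨t, ht⟩ := hy
    exact ⟨s ∪ t, Submodule.add_mem _ (mono Finset.subset_union_left hs) (mono Finset.subset_union_right ht)⟩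
  | smul a x _ hx =>
    obtain ⟨s, hs⟩ := hx
    exact ⟨s, Submodule.smul_mem _ _ hs⟩

section Free

open scoped Classical

variable {I : Type u} (e : Module.Basis I A B)

theorem repr_tprod (q q' : Fin d → I) :
    (Basis.piTensorProduct (fun _ : Fin d => e)).repr (PiTensorProduct.tprod A fun k => e (q' k)) q =
      if q' = q then 1 else 0 := by
  rw [← Basis.piTensorProduct_apply (fun _ : Fin d => e) q', Module.Basis.repr_self, Finsupp.single_apply]

theorem repr_coef (s : Finset I) (ν : Fin s.card →₀ ℕ) (c₀ : Fin d → Fin s.card) :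
    (Basis.piTensorProduct (fun _ : Fin d => e)).repr (coef (SymTen.tpowLaw A B d).law (sub e s) ν)
      (fun k => (s.equivFin.symm (c₀ k) : I)) = if cnt c₀ = ν then 1 else 0 := by
  rw [coef_tpow, map_sum, Finsupp.finsetSum_apply, Finset.sum_eq_single c₀]
  · split_ifs with h
    · rw [show (fun k => sub (⇑e) s (c₀ k)) = fun k => e (s.equivFin.symm (c₀ k) : I) from rfl, repr_tprod, if_pos rfl]
    · simp
  · intro c _ hc
    split_ifs
    · rw [show (fun k => sub (⇑e) s (c k)) = fun k => e (s.equivFin.symm (c k) : I) from rfl, repr_tprod, if_neg]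
      exact fun h => hc (funext fun k => s.equivFin.symm.injective (Subtype.ext (congrFun h k)))
    · simp
  · simp

variable [Module.Free A B]

variable (A B d) in
theorem toTensor_injective : Function.Injective (toTensor A B d) := by
  refine (injective_iff_map_eq_zero _).2 fun z hz => ?_
  let e := Module.Free.chooseBasis A B
  obtain ⟨s, hs⟩ := exists_finset_coef (Gamma.univ A B d).law e (c := z)
    (Gamma.coefSpan_eq_top (Gamma.isGammaD_univ A B d) ▸ Submodule.mem_top)
  obtain ⟨l, hl⟩ := (Finsupp.mem_span_range_iff_exists_finsupp).1 hs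
  have hzero : ∀ ν, (∑ i, ν i = d) → l ν = 0 := by
    intro ν hν
    obtain ⟨c₀, hc₀⟩ := exists_cnt d ν hν
    have h := congrArg (fun t => (Basis.piTensorProduct (fun _ : Fin d => e)).repr t
      (fun k => (s.equivFin.symm (c₀ k) : _))) hz
    rw [← hl, map_finsuppSum] at h
    simp only [map_smul, toTensor, Gamma.coef_univ, Gamma.lift_cls, map_finsuppSum, Finsupp.sum,
      map_sum, Finsupp.finsetSum_apply, Finsupp.smul_apply, repr_coef, map_zero, Finsupp.zero_apply,
      smul_eq_mul, mul_ite, mul_one, mul_zero, hc₀, Finset.sum_ite_eq] at h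
    by_cases hν' : ν ∈ l.support
    · rwa [if_pos hν'] at h
    · exact Finsupp.notMem_support_iff.1 hν'
  rw [← hl]
  refine Finset.sum_eq_zero fun ν _ => ?_
  by_cases hν : ∑ i, ν i = d
  · simp [hzero ν hν]
  · simp [coef_eq_zero_of_sum_ne (Gamma.univ A B d).homog _ ν hν]

theorem exists_toTensor {y : ⨂[A] _ : Fin d, B}
    (hy : ∀ σ : Equiv.Perm (Fin d), PiTensorProduct.reindex A (fun _ : Fin d => B) σ y = y) :
    ∃ z : Gamma.Alg A B d, toTensor A B d z = y := by
  let e := Module.Free.chooseBasis A B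
  let bT := Basis.piTensorProduct (fun _ : Fin d => e)
  have hinv : ∀ (q : Fin d → Module.Free.ChooseBasisIndex A B) (σ : Equiv.Perm (Fin d)),
      bT.repr y (q ∘ σ) = bT.repr y q := by
    intro q σ
    have h : ((bT.coord (q ∘ σ)).comp (PiTensorProduct.reindex A (fun _ : Fin d => B) σ.symm).toLinearMap) =
        bT.coord q := by
      refine bT.ext fun p => ?_
      simp only [bT, LinearMap.comp_apply, Module.Basis.coord_apply, LinearEquiv.coe_coe,
        Basis.piTensorProduct_apply, PiTensorProduct.reindex_tprod, Equiv.symm_symm, repr_tprod]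
      refine if_congr ⟨fun h => funext fun k => ?_, fun h => funext fun k => ?_⟩ rfl rfl
      · simpa using congrFun h (σ.symm k)
      · simp [h]
    have := LinearMap.congr_fun h y
    simpa [hy] using this
  let s : Finset (Module.Free.ChooseBasisIndex A B) := (bT.repr y).support.biUnion fun q => Finset.univ.image q
  have hex : ∀ ν : Fin s.card →₀ ℕ, ∃ a : A, ∀ c₀ : Fin d → Fin s.card, cnt c₀ = ν →
      bT.repr y (fun k => (s.equivFin.symm (c₀ k) : _)) = a := by
    intro ν
    by_cases h : ∃ c₁ : Fin d → Fin s.card, cnt c₁ = ν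
    · obtain ⟨c₁, hc₁⟩ := h
      refine ⟨bT.repr y (fun k => (s.equivFin.symm (c₁ k) : _)), fun c₀ hc₀ => ?_⟩
      obtain ⟨σ, rfl⟩ := exists_perm (hc₁.trans hc₀.symm)
      exact hinv (fun k => (s.equivFin.symm (c₁ k) : Module.Free.ChooseBasisIndex A B)) σ
    · exact ⟨0, fun c₀ hc₀ => (h ⟨c₀, hc₀⟩).elim⟩
  choose a ha using hex
  refine ⟨∑ ν ∈ degSet (Fin s.card) d, a ν • coef (Gamma.univ A B d).law (sub e s) ν, ?_⟩
  refine bT.ext_elem fun q => ?_
  simp only [toTensor, map_sum, map_smul, Gamma.coef_univ, Gamma.lift_cls, Finsupp.finsetSum_apply,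
    Finsupp.smul_apply, smul_eq_mul]
  by_cases hq : ∀ k, q k ∈ s
  · obtain ⟨c₀, rfl⟩ : ∃ c₀ : Fin d → Fin s.card, (fun k => (s.equivFin.symm (c₀ k) : Module.Free.ChooseBasisIndex A B)) = q :=
      ⟨fun k => s.equivFin ⟨q k, hq k⟩, funext fun k => by simp⟩
    simp only [bT, repr_coef, mul_ite, mul_one, mul_zero, Finset.sum_ite_eq, mem_degSet, sum_cnt, if_true]
    exact (ha _ c₀ rfl).symm
  · rw [Finset.sum_eq_zero, eq_comm, ← Finsupp.notMem_support_iff]
    · exact fun h => hq fun k => Finset.mem_biUnion.2 ⟨q, h, Finset.mem_image.2 ⟨k, Finset.mem_univ _, rfl⟩⟩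
    · intro ν _
      rw [coef_tpow, map_sum, Finsupp.finsetSum_apply, Finset.sum_eq_zero, mul_zero]
      intro c _
      split_ifs
      · rw [show (fun k => sub (⇑e) s (c k)) = fun k => e (s.equivFin.symm (c k) : _) from rfl]
        simp only [bT, repr_tprod]
        refine if_neg fun h => hq fun k => ?_
        rw [← h]
        exact (s.equivFin.symm (c k)).2
      · simp

end Free

end Groth.Agent.Lib.PolLaw.Tpow
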