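import Groth.Agent.Lib.PolLaw.Universal
import Mathlib.Algebra.Polynomial.AlgebraMap

/-!
# Values of laws in test algebras, characteristic polynomials
-/

universe u

open scoped TensorProduct
open Polynomial

namespace Groth.Agent.Lib.PolLaw.Val

open Coeff

variable {A : Type u} [CommRing A] {B C : Type u} [CommRing B] [Algebra A B] [CommRing C] [Algebra A C] {d : ℕ}
variable {R R' : Type u} [CommSemiring R] [Algebra A R] [CommSemiring R'] [Algebra A R']

/-- `r ⊗ c ↦ r * h c`. -/
noncomputable def evalHom (h : C →ₐ[A] R) : R ⊗[A] C →ₐ[R] R :=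
  Algebra.TensorProduct.lift (Algebra.ofId R R) h fun _ _ => Commute.all _ _

@[simp] theorem evalHom_tmul (h : C →ₐ[A] R) (r : R) (c : C) : evalHom h (r ⊗ₜ[A] c) = r * h c := by
  simp [evalHom]

theorem evalHom_map (φ : R →ₐ[A] R') (h : C →ₐ[A] R) (z : R ⊗[A] C) :
    φ (evalHom h z) = evalHom (φ.comp h) (Algebra.TensorProduct.map φ (AlgHom.id A C) z) := by
  induction z using TensorProduct.induction_on with
  | zero => simp
  | tmul r c => simp
  | add x y hx hy => simp [hx, hy]

theorem evalHom_bc {C' : Type u} [CommRing C'] [Algebra A C'] (f : C →ₐ[A] C') (h : C' →ₐ[A] R) (z : R ⊗[A] C) :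
    evalHom h (Algebra.TensorProduct.map (AlgHom.id R R) f z) = evalHom (h.comp f) z := by
  induction z using TensorProduct.induction_on with
  | zero => simp
  | tmul r c => simp
  | add x y hx hy => simp [hx, hy]

/-- The value of `F` at a point of `C`. -/
noncomputable def val (F : _root_.PolLaw.MulLaw A B C d) (h : C →ₐ[A] R) (x : R ⊗[A] B) : R :=
  evalHom h (F.law.toFun' R x)

theorem val_one (F : _root_.PolLaw.MulLaw A B C d) (h : C →ₐ[A] R) : val F h 1 = 1 := by
  rw [val, (F.mult R).1, map_one]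

theorem val_mul (F : _root_.PolLaw.MulLaw A B C d) (h : C →ₐ[A] R) (x y : R ⊗[A] B) :
    val F h (x * y) = val F h x * val F h y := by
  rw [val, (F.mult R).2, map_mul]
  rfl

theorem val_smul (F : _root_.PolLaw.MulLaw A B C d) (h : C →ₐ[A] R) (r : R) (x : R ⊗[A] B) :
    val F h (r • x) = r ^ d * val F h x := by
  rw [val, F.homog, map_smul, smul_eq_mul]
  rfl

theorem map_val (F : _root_.PolLaw.MulLaw A B C d) (φ : R →ₐ[A] R') (h : C →ₐ[A] R) (x : R ⊗[A] B) :
    φ (val F h x) = val F (φ.comp h) (Algebra.TensorProduct.map φ (AlgHom.id A B) x) := by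
  rw [val, val, evalHom_map, ← OfPoly.rTensor_eq_map φ x, ← compat, OfPoly.rTensor_eq_map]

theorem val_sum {ι : Type} [Fintype ι] (F : _root_.PolLaw.MulLaw A B C d) (h : C →ₐ[A] R) (s : ι → R) (b : ι → B) :
    val F h (∑ i, s i ⊗ₜ[A] b i) = ∑ ν ∈ degSet ι d, (∏ i, s i ^ ν i) * h (coef F.law b ν) := by
  simp [val, expand_homog F.homog]

theorem val_postcomp {C' : Type u} [CommRing C'] [Algebra A C'] (F : _root_.PolLaw.MulLaw A B C d)
    (F' : _root_.PolLaw.MulLaw A B C' d) (f : C →ₐ[A] C')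
    (hf : _root_.PolLaw.postcomp f.toLinearMap F.law = F'.law) (h : C' →ₐ[A] R) (x : R ⊗[A] B) :
    val F' h x = val F (h.comp f) x := by
  rw [val, val, ← evalHom_bc, ← _root_.PolLaw.lTensor_algHom_apply, ← hf]
  rfl

theorem val_precomp {B' : Type u} [CommRing B'] [Algebra A B'] (F : _root_.PolLaw.MulLaw A B C d)
    (f : B' →ₐ[A] B) (h : C →ₐ[A] R) (x : R ⊗[A] B') :
    val (F.precomp f) h x = val F h (Algebra.TensorProduct.map (AlgHom.id R R) f x) := by
  rw [val, val, ← _root_.PolLaw.lTensor_algHom_apply]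
  rfl

theorem val_classify (F : _root_.PolLaw.MulLaw A B C d) (h : C →ₐ[A] R) (z : R ⊗[A] Universal.Cov A B) :
    val F h (Universal.bc R (Universal.proj A B) z) =
      val (Gamma.univ A (Universal.Cov A B) d) (h.comp (Universal.classify F)) z := by
  rw [← val_precomp]
  exact val_postcomp _ _ _ (Gamma.postcomp_lift_univ (F.precomp (Universal.proj A B))) h z

theorem val_toTensor (P : Type u) [CommRing P] [Algebra A P] (h : (⨂[A] _ : Fin d, P) →ₐ[A] R) (z : R ⊗[A] P) :
    val (Gamma.univ A P d) (h.comp (Tpow.toTensor A P d)) z = val (SymTen.tpowLaw A P d) h z :=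
  (val_postcomp _ _ _ (Gamma.postcomp_lift_univ (SymTen.tpowLaw A P d)) h z).symm

/-- The `j`-th factor. -/
noncomputable def fac {P : Type u} [CommRing P] [Algebra A P] (h : (⨂[A] _ : Fin d, P) →ₐ[A] R) (j : Fin d) :
    R ⊗[A] P →ₐ[R] R :=
  evalHom (h.comp (PiTensorProduct.singleAlgHom (R := A) (A := fun _ : Fin d => P) j))

theorem val_tpow {P : Type u} [CommRing P] [Algebra A P] (h : (⨂[A] _ : Fin d, P) →ₐ[A] R) (z : R ⊗[A] P) :
    val (SymTen.tpowLaw A P d) h z = ∏ j, fac h j z := by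
  simp [val, SymTen.tpowLaw, map_prod, fac, evalHom_bc]

section Chi

variable {R R' : Type u} [CommRing R] [Algebra A R] [CommRing R'] [Algebra A R']

/-- Extension of scalars to `R[X]`. -/
noncomputable def toPoly (R : Type u) [CommRing R] [Algebra A R] (B : Type u) [CommRing B] [Algebra A B] :
    R ⊗[A] B →ₐ[A] R[X] ⊗[A] B :=
  Algebra.TensorProduct.map (Polynomial.CAlgHom (R := A) (A := R)) (AlgHom.id A B)

/-- The characteristic polynomial `F(x - X)`. -/
noncomputable def chi (F : _root_.PolLaw.MulLaw A B C d) (h : C →ₐ[A] R) (x : R ⊗[A] B) : R[X] :=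
  val F ((Polynomial.CAlgHom (R := A) (A := R)).comp h) (toPoly R B x - (X : R[X]) • 1)

theorem chi_map (F : _root_.PolLaw.MulLaw A B C d) (φ : R →ₐ[A] R') (h : C →ₐ[A] R) (x : R ⊗[A] B) :
    (chi F h x).map φ.toRingHom = chi F (φ.comp h) (Algebra.TensorProduct.map φ (AlgHom.id A B) x) := by
  have hφ : (Polynomial.mapAlgHom φ).comp (Polynomial.CAlgHom (R := A) (A := R)) =
      (Polynomial.CAlgHom (R := A) (A := R')).comp φ := AlgHom.ext fun r => by simp
  rw [show (chi F h x).map φ.toRingHom = Polynomial.mapAlgHom φ (chi F h x) from rfl, chi, chi, map_val,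
    ← AlgHom.comp_assoc, hφ, AlgHom.comp_assoc, map_sub]
  congr 1
  rw [← OfPoly.rTensor_eq_map _ ((X : R[X]) • (1 : R[X] ⊗[A] B)), OfPoly.rTensor_smul_scalar,
    OfPoly.rTensor_eq_map, map_one]
  congr 1
  · rw [toPoly, toPoly, ← AlgHom.comp_apply, ← Algebra.TensorProduct.map_comp, hφ,
      ← AlgHom.comp_apply (Algebra.TensorProduct.map (Polynomial.CAlgHom (R := A) (A := R')) (AlgHom.id A B)),
      ← Algebra.TensorProduct.map_comp]
  · simp

theorem chi_eval (F : _root_.PolLaw.MulLaw A B C d) (h : C →ₐ[A] R) (x : R ⊗[A] B) (r : R) :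
    (chi F h x).eval r = val F h (x - r • 1) := by
  let e : R[X] →ₐ[A] R := (Polynomial.aeval r : R[X] →ₐ[R] R).restrictScalars A
  have he : e.comp (Polynomial.CAlgHom (R := A) (A := R)) = AlgHom.id A R := AlgHom.ext fun a => by simp [e]
  rw [← Polynomial.coe_aeval_eq_eval, show (Polynomial.aeval r) (chi F h x) = e (chi F h x) from rfl, chi, map_val,
    ← AlgHom.comp_assoc, he, AlgHom.id_comp, map_sub]
  congr 1
  rw [← OfPoly.rTensor_eq_map _ ((X : R[X]) • (1 : R[X] ⊗[A] B)), OfPoly.rTensor_smul_scalar,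
    OfPoly.rTensor_eq_map, map_one]
  congr 1
  · rw [toPoly, ← AlgHom.comp_apply, ← Algebra.TensorProduct.map_comp, he, AlgHom.id_comp,
      Algebra.TensorProduct.map_id, AlgHom.id_apply]
  · simp [e]

theorem chi_classify (F : _root_.PolLaw.MulLaw A B C d) (h : C →ₐ[A] R) (z : R ⊗[A] Universal.Cov A B) :
    chi F h (Universal.bc R (Universal.proj A B) z) =
      chi (Gamma.univ A (Universal.Cov A B) d) (h.comp (Universal.classify F)) z := by
  rw [chi, chi, ← AlgHom.comp_assoc, ← val_classify]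
  congr 1
  rw [map_sub, map_smul, map_one]
  congr 1
  simp only [toPoly, Universal.bc]
  induction z using TensorProduct.induction_on with
  | zero => simp
  | tmul r p => simp
  | add x y hx hy => simp only [map_add, hx, hy]

theorem chi_tpow {P : Type u} [CommRing P] [Algebra A P] (h : (⨂[A] _ : Fin d, P) →ₐ[A] R) (z : R ⊗[A] P) :
    chi (SymTen.tpowLaw A P d) h z = ∏ j, (Polynomial.C (fac h j z) - X) := by
  rw [chi, val_tpow]
  refine Finset.prod_congr rfl fun j _ => ?_
  rw [map_sub, map_smul, map_one, smul_eq_mul, mul_one]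
  congr 1
  rw [fac, fac, toPoly, AlgHom.comp_assoc, ← evalHom_map]
  rfl

end Chi

end Groth.Agent.Lib.PolLaw.Val
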